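import Cfsg.Agent.Lib.Chevalley.Twist.ReeG2
import Cfsg.Agent.Lib.Chevalley.FieldFix

/-!
The standard subgroups of the small Ree groups, their actions on the cosets of the Borel subgroup,
the normalisation of an automorphism, and the field automorphisms.
-/

set_option autoImplicit false
set_option linter.unusedSectionVars false

open scoped Matrix Pointwise

namespace Cfsg.Agent.Ree

open Cfsg.Lie Cfsg.Agent.Chevalley Cfsg.Agent.Chevalley.Table Cfsg.Agent.Chevalley.Cert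
  Cfsg.Agent.Chevalley.Group Cfsg.Agent.Chevalley.Unip Cfsg.Agent.Chevalley.NormalForm
  Cfsg.Agent.Chevalley.Bruhat Cfsg.Agent.Chevalley.Weyl Cfsg.Agent.Chevalley.Borel
  Cfsg.Agent.Chevalley.Twist Cfsg.Agent.Chevalley.Twist.G2

variable {K : Type*} [Field K] [Fintype K] [CharP K 3] {m : ℕ}

local notation "GG" => twistedG2 K (3 ^ m)

/-- The twist on a scalar. -/
abbrev TT (m : ℕ) (t : K) : K := (t ^ 3 ^ m) ^ 3

theorem TT_add (a b : K) : TT m (a + b) = TT m a + TT m b := by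
  rw [TT, TT, TT, add_pow_e, cube_add]

theorem TT_mul (a b : K) : TT m (a * b) = TT m a * TT m b := by
  rw [TT, TT, TT, mul_pow, mul_pow]

theorem TT_zero : TT m (0 : K) = 0 := by simp [TT]

theorem TT_one : TT m (1 : K) = 1 := by simp [TT]

theorem TT_neg (a : K) : TT m (-a) = -TT m a := by
  have h : Odd (3 ^ m) := (show Odd 3 by decide).pow
  rw [TT, TT, h.neg_pow, (show Odd 3 by decide).neg_pow]

theorem TT_TT (hK : Fintype.card K = 3 ^ (2 * m + 1)) (a : K) : TT m (TT m a) = a ^ 3 := by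
  rw [TT, TT, ← pow_mul, ← pow_mul, ← pow_mul,
    show 3 ^ m * (3 * (3 ^ m * 3)) = 3 * (3 ^ m * 3 ^ m) * 3 by ring, pow_mul, pow_q hK]

/-- The character of the torus on the first coordinate. -/
def a6 (m : ℕ) (x : Kˣ) : K := ((((x ^ 3 ^ m) ^ 3)⁻¹ * x ^ 2 : Kˣ) : K)

/-- The character of the torus on the second coordinate. -/
def a10 (m : ℕ) (x : Kˣ) : K := ((((x ^ 3 ^ m) ^ 3) * x⁻¹ : Kˣ) : K)

theorem a6_eq (x : Kˣ) : a6 m x = (TT m (x : K))⁻¹ * (x : K) ^ 2 := by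
  simp [a6, TT]

theorem a10_eq (x : Kˣ) : a10 m x = TT m (x : K) * (x : K)⁻¹ := by
  simp [a10, TT]

theorem a6_ne (x : Kˣ) : a6 m x ≠ 0 := Units.ne_zero _

theorem a6_mul (x y : Kˣ) : a6 m (x * y) = a6 m x * a6 m y := by
  simp only [a6_eq, Units.val_mul, TT_mul, mul_inv, mul_pow]; ring

theorem a6_neg_one : a6 m (-1 : Kˣ) = -1 := by
  rw [a6_eq, Units.val_neg, Units.val_one, TT_neg, TT_one]; norm_num

theorem a10_neg_one : a10 m (-1 : Kˣ) = 1 := by
  rw [a10_eq, Units.val_neg, Units.val_one, TT_neg, TT_one]; norm_num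

theorem neg_one_ne_one : (-1 : K) ≠ 1 := fun e =>
  one_ne_zero (show (1 : K) = 0 by linear_combination e + three (K := K))

variable {hK : Fintype.card K = 3 ^ (2 * m + 1)} (X : Setup (K := K) hK)
include X

theorem a6_triv {x : Kˣ} (h : a6 m x = 1) : x ^ 2 = 1 :=
  tc_triv hK (Or.inl (by rw [(char_tc x).1]; exact Units.val_eq_one.1 h))

theorem a10_triv {x : Kˣ} (h : a10 m x = 1) : x ^ 2 = 1 :=
  tc_triv hK (Or.inr (Or.inl (by rw [(char_tc x).2.1]; exact Units.val_eq_one.1 h)))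

theorem a6_injective : Function.Injective (a6 m : Kˣ → K) := by
  intro x y h
  obtain ⟨z, hz⟩ : ∃ z, x = z * y := ⟨x * y⁻¹, by rw [inv_mul_cancel_right]⟩
  subst hz
  rw [a6_mul] at h
  have h1 : a6 m z = 1 := (mul_eq_right₀ (a6_ne y)).1 h
  have h2 : ((z : K)) ^ 2 = 1 := by
    rw [← Units.val_pow_eq_pow_val, a6_triv X h1, Units.val_one]
  rcases sq_eq_one_iff.1 h2 with h3 | h3
  · rw [Units.val_eq_one.1 h3, one_mul]
  · exfalso
    rw [show z = -1 from Units.ext (by rw [h3]; simp), a6_neg_one] at h1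
    exact neg_one_ne_one h1

theorem exists_a6 {c : K} (hc : c ≠ 0) : ∃ x : Kˣ, a6 m x = c := by
  let f : Kˣ → Kˣ := fun x => Units.mk0 (a6 m x) (a6_ne x)
  have hf : Function.Injective f := fun x y h => a6_injective X (congrArg Units.val h :)
  obtain ⟨x, hx⟩ := Finite.surjective_of_injective hf (Units.mk0 c hc)
  exact ⟨x, congrArg Units.val hx⟩

theorem exists_sq_ne (hm : 1 ≤ m) : ∃ x : Kˣ, x ^ 2 ≠ 1 := by
  have h4 : 4 ≤ Fintype.card K := by
    rw [hK]
    calc 4 ≤ 3 ^ 3 := by norm_num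
      _ ≤ _ := Nat.pow_le_pow_right (by norm_num) (by omega)
  obtain ⟨x, hx⟩ := E6.exists_sq_ne_one h4
  exact ⟨x, fun e => hx (by rw [← Units.val_pow_eq_pow_val, e, Units.val_one])⟩

theorem uu_mul (t u v t' u' v' : K) : uu X (t, u, v) * uu X (t', u', v') =
    uu X (t + t', u + u' - TT m t' * t,
      v + v' - TT m t' * t ^ 2 - t' * (u - TT m t' * t)) :=
  Subtype.ext (wU_mul X t u v t' u' v')

theorem uu_inj {t u v t' u' v' : K} (h : uu X (t, u, v) = uu X (t', u', v')) :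
    t = t' ∧ u = u' ∧ v = v' := wU_inj X (congrArg Subtype.val h :)

theorem uu_zero : uu X ((0 : K), (0 : K), (0 : K)) = 1 := Subtype.ext (wU_zero X)

theorem uu_cube (t u v : K) : uu X (t, u, v) ^ 3 = uu X (0, 0, -(TT m t * t ^ 2)) :=
  Subtype.ext ((Subgroup.coe_pow _ _ _).trans (wU_cube X t u v))

theorem tor_uu (x : Kˣ) (t u v : K) : torusHom X x * uu X (t, u, v) * (torusHom X x)⁻¹ =
    uu X (a6 m x * t, a10 m x * u, (x : K) * v) := by
  refine Subtype.ext ?_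
  obtain ⟨c6, c10, c11⟩ := char_tc (m := m) x
  show tor chevG2 (tc m x) * wU (3 ^ m) t u v * (tor chevG2 (tc m x))⁻¹ = _
  rw [conj_wU X (tor_tc_mem X x), c6, c10, c11]
  rfl

theorem torusHom_injective : Function.Injective (torusHom X) := fun _ _ h =>
  torus_inj X (congrArg Subtype.val h :)

theorem tor_uu_fixed {x : Kˣ} (hx : x ^ 2 ≠ 1) {t u v : K}
    (h : torusHom X x * uu X (t, u, v) * (torusHom X x)⁻¹ = uu X (t, u, v)) :
    t = 0 ∧ u = 0 ∧ v = 0 := wU_fixed_iff X hx (congrArg Subtype.val h :)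

/-- The unipotent subgroup inside the group. -/
abbrev UB (_X : Setup (K := K) hK) : Subgroup GG :=
  (chevG2.posUnipotent K ⊓ GG).subgroupOf GG

theorem uu_mem (p : K × K × K) : uu X p ∈ UB X :=
  Subgroup.mem_subgroupOf.2 ((mem_U X).2 ⟨_, _, _, rfl⟩)

theorem mem_UB {g : GG} (hg : g ∈ UB X) : ∃ t u v : K, g = uu X (t, u, v) := by
  obtain ⟨t, u, v, e⟩ := (mem_U X).1 (Subgroup.mem_subgroupOf.1 hg)
  exact ⟨t, u, v, Subtype.ext e⟩

theorem tor_mem_bor (x : Kˣ) : torusHom X x ∈ bor X := (mem_bor X).2 (H_le_B (tor_mem_H hC _))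

theorem UB_le_bor : UB X ≤ bor X := fun g hg => by
  obtain ⟨t, u, v, rfl⟩ := mem_UB X hg
  exact uu_mem_bor X _

theorem uu_eq_tor {p : K × K × K} {x : Kˣ} (h : uu X p = torusHom X x) : p = 0 ∧ x = 1 := by
  have h1 : (uu X p : GL chevG2.Idx K) ∈ (⊥ : Subgroup (GL chevG2.Idx K)) :=
    U_inf_H (F := K) hC ▸ Subgroup.mem_inf.2
      ⟨((mem_U X).2 ⟨_, _, _, rfl⟩).1, by rw [h]; exact tor_mem_H hC _⟩
  have h2 : uu X p = 1 := Subtype.ext (Subgroup.mem_bot.1 h1)
  obtain ⟨t, u, v⟩ := p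
  rw [← uu_zero X] at h2
  obtain ⟨rfl, rfl, rfl⟩ := uu_inj X h2
  rw [uu_zero X, eq_comm] at h
  exact ⟨rfl, torusHom_injective X (h.trans (map_one _).symm)⟩

theorem bor_decomp {g : GG} (hg : g ∈ bor X) : ∃ p x, g = uu X p * torusHom X x := by
  classical
  let f : (K × K × K) × Kˣ → bor X := fun q =>
    ⟨uu X q.1 * torusHom X q.2, mul_mem (uu_mem_bor X _) (tor_mem_bor X _)⟩
  have hinj : Function.Injective f := by
    rintro ⟨p, x⟩ ⟨p', x'⟩ h
    have h' : uu X p * torusHom X x = uu X p' * torusHom X x' := congrArg Subtype.val h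
    obtain ⟨t, u, v, e⟩ := mem_UB X (mul_mem (inv_mem (uu_mem X p')) (uu_mem X p))
    have h2 : uu X (t, u, v) = torusHom X (x' * x⁻¹) := by
      rw [← e, map_mul, map_inv, eq_mul_inv_iff_mul_eq, mul_assoc, h', inv_mul_cancel_left]
    obtain ⟨h3, h4⟩ := uu_eq_tor X h2
    rw [mul_inv_eq_one] at h4
    subst h4
    have h5 : uu X p = uu X p' := mul_right_cancel h'
    obtain ⟨t1, u1, v1⟩ := p
    obtain ⟨t2, u2, v2⟩ := p'
    obtain ⟨rfl, rfl, rfl⟩ := uu_inj X h5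
    rfl
  have hB : Nat.card (bor X) = (3 ^ (2 * m + 1)) ^ 3 * (3 ^ (2 * m + 1) - 1) := by
    rw [Nat.card_congr (Subgroup.subgroupOfEquivOfLe inf_le_right).toEquiv, card_B_K X.gen,
      card_U X, card_H X]
  have hcard : Nat.card ((K × K × K) × Kˣ) = Nat.card (bor X) := by
    rw [hB, Nat.card_prod, Nat.card_prod, Nat.card_prod, Nat.card_units, Nat.card_eq_fintype_card,
      hK]
    ring
  obtain ⟨q, hq⟩ := ((Nat.bijective_iff_injective_and_card f).2 ⟨hinj, hcard⟩).2 ⟨g, hg⟩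
  exact ⟨q.1, q.2, (congrArg Subtype.val hq).symm⟩

theorem tor_conj_mem (x : Kˣ) {g : GG} (hg : g ∈ UB X) :
    torusHom X x * g * (torusHom X x)⁻¹ ∈ UB X := by
  obtain ⟨t, u, v, rfl⟩ := mem_UB X hg
  rw [tor_uu]
  exact uu_mem X _

theorem bor_conj_mem {b g : GG} (hb : b ∈ bor X) (hg : g ∈ UB X) : b * g * b⁻¹ ∈ UB X := by
  obtain ⟨p, x, rfl⟩ := bor_decomp X hb
  rw [show uu X p * torusHom X x * g * (uu X p * torusHom X x)⁻¹ =
    uu X p * (torusHom X x * g * (torusHom X x)⁻¹) * (uu X p)⁻¹ by group]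
  exact mul_mem (mul_mem (uu_mem X p) (tor_conj_mem X x hg)) (inv_mem (uu_mem X p))

theorem exists_sylow : ∃ P : Sylow 3 GG, (P : Subgroup GG) = UB X := by
  classical
  haveI : Fact (Nat.Prime 3) := ⟨Nat.prime_three⟩
  have hUc : Nat.card (UB X) = 3 ^ ((2 * m + 1) * 3) := by
    rw [Nat.card_congr (Subgroup.subgroupOfEquivOfLe inf_le_right).toEquiv, card_U X, ← pow_mul]
  have hdiv : ¬ 3 ∣ (3 ^ (2 * m + 1) - 1) * ((3 ^ (2 * m + 1)) ^ 3 + 1) := by
    have h1 : 1 ≤ 3 ^ (2 * m + 1) := Nat.one_le_pow _ _ (by norm_num)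
    obtain ⟨n, hn⟩ : ∃ n, 3 ^ (2 * m + 1) = 3 * n := ⟨3 ^ (2 * m), by rw [pow_succ']⟩
    rw [Nat.prime_three.dvd_mul]
    rintro (⟨c, hc⟩ | ⟨c, hc⟩)
    · omega
    · rw [hn, mul_pow] at hc; omega
  have hfact : (Nat.card GG).factorization 3 = (2 * m + 1) * 3 := by
    rw [card_group X, mul_assoc, Nat.factorization_mul (pow_ne_zero _ (pow_ne_zero _ (by norm_num)))
      (fun e => hdiv (by rw [e]; exact dvd_zero 3)), Finsupp.add_apply,
      Nat.factorization_eq_zero_of_not_dvd hdiv, add_zero, ← pow_mul,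
      Nat.Prime.factorization_pow Nat.prime_three, Finsupp.single_eq_same]
  exact ⟨Sylow.ofCard (UB X) (by rw [hUc, hfact]), Sylow.coe_ofCard _ _⟩

/-! ### Fixed cosets -/

theorem smul_base {g : GG} :
    g • ((1 : GG) : GG ⧸ bor X) = ((1 : GG) : GG ⧸ bor X) ↔ g ∈ bor X := by
  rw [MulAction.Quotient.smul_coe, smul_eq_mul, mul_one, eq_comm, QuotientGroup.eq, inv_one, one_mul]

theorem smul_coe_base (g : GG) : g • ((1 : GG) : GG ⧸ bor X) = (g : GG ⧸ bor X) := by
  rw [MulAction.Quotient.smul_coe, smul_eq_mul, mul_one]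

theorem tor_nn (x : Kˣ) : ∃ y, torusHom X x * nn X = nn X * torusHom X y := by
  have hN : (nn X : GL chevG2.Idx K) ∈ chevG2.monomialSubgroup K := mel_mem_N X.gen (hk0 X)
  have h1 : ((nn X : GL chevG2.Idx K))⁻¹ * tor chevG2 (tc m x) * (nn X : GL chevG2.Idx K) ∈
      chevG2.diagonalSubgroup K := by
    have := H_conj hC (inv_mem hN) (tor_mem_H hC (tc m x))
    rw [inv_inv] at this
    exact this
  obtain ⟨y, hy⟩ := (mem_torus X).1 (Subgroup.mem_inf.2
    ⟨h1, mul_mem (mul_mem (inv_mem (nn X).2) (tor_tc_mem X x)) (nn X).2⟩)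
  refine ⟨y, Subtype.ext ?_⟩
  rw [Subgroup.coe_mul, Subgroup.coe_mul, coe_torusHom, coe_torusHom, ← hy]
  group

theorem tor_smul_nn (x : Kˣ) :
    torusHom X x • ((nn X : GG) : GG ⧸ bor X) = ((nn X : GG) : GG ⧸ bor X) := by
  obtain ⟨y, hy⟩ := tor_nn X x
  rw [MulAction.Quotient.smul_coe, smul_eq_mul, hy, ← smul_coe_base, mul_smul,
    (smul_base X).2 (tor_mem_bor X y), smul_coe_base]

theorem uu_fix_only_base {p : K × K × K} (hp : p ≠ 0) {z : GG ⧸ bor X} (h : uu X p • z = z) :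
    z = ((1 : GG) : GG ⧸ bor X) := by
  rcases coset_cases X z with rfl | ⟨q, rfl⟩
  · rfl
  · exfalso
    rw [MulAction.Quotient.smul_coe, smul_eq_mul, eq_comm, QuotientGroup.eq] at h
    have h1 : (nn X)⁻¹ * ((uu X q)⁻¹ * uu X p * uu X q) * nn X ∈ bor X := by
      convert h using 1
      group
    have hmem : (uu X q)⁻¹ * uu X p * uu X q ∈ UB X :=
      mul_mem (mul_mem (inv_mem (uu_mem X q)) (uu_mem X p)) (uu_mem X q)
    have h2 := bor_inf_conj X (UB_le_bor X hmem) h1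
    have h3 : (((uu X q)⁻¹ * uu X p * uu X q : GG) : GL chevG2.Idx K) ∈
        (⊥ : Subgroup (GL chevG2.Idx K)) :=
      U_inf_H (F := K) hC ▸ Subgroup.mem_inf.2 ⟨(Subgroup.mem_subgroupOf.1 hmem).1, h2⟩
    have h4 : (uu X q)⁻¹ * uu X p * uu X q = 1 := Subtype.ext (Subgroup.mem_bot.1 h3)
    have h5 : uu X p = 1 := by
      calc uu X p = uu X q * ((uu X q)⁻¹ * uu X p * uu X q) * (uu X q)⁻¹ := by group
        _ = 1 := by rw [h4]; group
    obtain ⟨t, u, v⟩ := p
    rw [← uu_zero X] at h5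
    obtain ⟨rfl, rfl, rfl⟩ := uu_inj X h5
    exact hp rfl

theorem tor_fix {x : Kˣ} (hx : x ^ 2 ≠ 1) {z : GG ⧸ bor X} (h : torusHom X x • z = z) :
    z = ((1 : GG) : GG ⧸ bor X) ∨ z = ((nn X : GG) : GG ⧸ bor X) := by
  rcases coset_cases X z with rfl | ⟨⟨t, u, v⟩, rfl⟩
  · exact Or.inl rfl
  · right
    have e : torusHom X x • ((uu X (t, u, v) * nn X : GG) : GG ⧸ bor X) =
        ((uu X (a6 m x * t, a10 m x * u, (x : K) * v) * nn X : GG) : GG ⧸ bor X) := by
      rw [← tor_uu X x t u v]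
      conv_rhs => rw [← smul_eq_mul, ← MulAction.Quotient.smul_coe]
      conv_lhs => rw [← smul_eq_mul, ← MulAction.Quotient.smul_coe]
      rw [mul_smul, mul_smul, show (torusHom X x)⁻¹ • ((nn X : GG) : GG ⧸ bor X) =
        ((nn X : GG) : GG ⧸ bor X) from inv_smul_eq_iff.2 (tor_smul_nn X x).symm]
    rw [e] at h
    have h' := uu_coset_inj X h
    have hz : uu X (a6 m x * t, a10 m x * u, (x : K) * v) = uu X (t, u, v) := congrArg (uu X) h'
    obtain ⟨rfl, rfl, rfl⟩ := tor_uu_fixed X hx ((tor_uu X x t u v).trans hz)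
    rw [uu_zero X, one_mul]

theorem one_zero_ne : ((1 : K), (0 : K), (0 : K)) ≠ 0 := by simp

/-! ### Normalising an automorphism -/

theorem exists_normalised (hm : 1 ≤ m) (φ : MulAut GG) :
    ∃ g : GG, (∀ p, ∃ p', (MulAut.conj g * φ) (uu X p) = uu X p') ∧
      ∀ x, ∃ y, (MulAut.conj g * φ) (torusHom X x) = torusHom X y := by
  classical
  haveI : Fact (Nat.Prime 3) := ⟨Nat.prime_three⟩
  obtain ⟨P, hP⟩ := exists_sylow X
  obtain ⟨g, hg⟩ := MulAction.exists_smul_eq GG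
    (Sylow.ofCard ((P : Subgroup GG).map φ.toMonoidHom) (by
      rw [Subgroup.card_map_of_injective φ.injective, P.card_eq_multiplicity])) P
  have hU : ∀ u ∈ UB X, (MulAut.conj g * φ) u ∈ UB X := by
    intro u hu
    rw [← hP] at hu ⊢
    have h1 : φ u ∈ (P : Subgroup GG).map φ.toMonoidHom :=
      Subgroup.mem_map_of_mem φ.toMonoidHom hu
    rw [← hg, Sylow.coe_subgroup_smul]
    exact Subgroup.smul_mem_pointwise_smul (φ u) (MulAut.conj g) _ h1
  set ψ := MulAut.conj g * φ with hψ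
  have hsurj : ∀ u ∈ UB X, ∃ w ∈ UB X, ψ w = u := by
    intro u hu
    let f : UB X → UB X := fun w => ⟨ψ w.1, hU w.1 w.2⟩
    have hf : Function.Injective f := fun a b h =>
      Subtype.ext (ψ.injective (congrArg Subtype.val h :))
    obtain ⟨w, hw⟩ := Finite.surjective_of_injective hf ⟨u, hu⟩
    exact ⟨w.1, w.2, congrArg Subtype.val hw⟩
  -- the image of the torus fixes the base coset
  have hB : ∀ x, ψ (torusHom X x) ∈ bor X := by
    intro x
    obtain ⟨w, hw, hwe⟩ := hsurj (uu X (1, 0, 0)) (uu_mem X _)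
    have h1 : torusHom X x⁻¹ * w * (torusHom X x⁻¹)⁻¹ ∈ UB X := tor_conj_mem X _ hw
    have h2 := hU _ h1
    rw [map_mul, map_mul, map_inv ψ, hwe, map_inv, map_inv ψ, inv_inv] at h2
    have h3 := (smul_base X).2 (UB_le_bor X h2)
    rw [mul_smul, mul_smul, inv_smul_eq_iff] at h3
    exact (smul_base X).1 (uu_fix_only_base X (one_zero_ne X) h3)
  obtain ⟨z, hz⟩ := IsCyclic.exists_zpow_surjective (G := Kˣ)
  obtain ⟨x₀, hx₀⟩ := exists_sq_ne X hm
  have hz2 : z ^ 2 ≠ 1 := by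
    intro e
    obtain ⟨k, rfl⟩ := hz x₀
    apply hx₀
    rw [← zpow_natCast, ← zpow_mul, mul_comm, zpow_mul, zpow_natCast, e, one_zpow]
  obtain ⟨p, y, hy⟩ := bor_decomp X (hB z)
  have hy2 : y ^ 2 ≠ 1 := by
    intro e
    have h1 : ψ (torusHom X (z ^ 2)) ∈ UB X := by
      rw [map_pow, map_pow, hy, sq,
        show uu X p * torusHom X y * (uu X p * torusHom X y) =
          uu X p * (torusHom X y * uu X p * (torusHom X y)⁻¹) * (torusHom X y) ^ 2 by group,
        ← map_pow, e, map_one, mul_one]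
      exact mul_mem (uu_mem X p) (tor_conj_mem X y (uu_mem X p))
    obtain ⟨w, hw, hwe⟩ := hsurj _ h1
    obtain ⟨t, u, v, rfl⟩ := mem_UB X hw
    exact hz2 (uu_eq_tor X (ψ.injective hwe)).2
  -- conjugate the image of the generator into the torus
  have hex : ∀ c : K × K × K, ∃ d : K × K × K,
      uu X c * torusHom X y * (uu X c)⁻¹ = uu X d * torusHom X y := by
    intro c
    obtain ⟨t, u, v, e⟩ := mem_UB X (mul_mem (uu_mem X c)
      (tor_conj_mem X y (inv_mem (uu_mem X c))))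
    refine ⟨(t, u, v), ?_⟩
    rw [← e]
    group
  choose d hd using hex
  have hdi : Function.Injective d := by
    intro c c' h
    have h1 : uu X c * torusHom X y * (uu X c)⁻¹ = uu X c' * torusHom X y * (uu X c')⁻¹ := by
      rw [hd, hd, h]
    obtain ⟨t, u, v, e⟩ := mem_UB X (mul_mem (inv_mem (uu_mem X c')) (uu_mem X c))
    have h2 : torusHom X y * uu X (t, u, v) * (torusHom X y)⁻¹ = uu X (t, u, v) := by
      rw [← e, mul_inv_eq_iff_eq_mul]
      calc torusHom X y * ((uu X c')⁻¹ * uu X c)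
          = (uu X c')⁻¹ * (uu X c' * torusHom X y * (uu X c')⁻¹) * uu X c := by group
        _ = (uu X c')⁻¹ * (uu X c * torusHom X y * (uu X c)⁻¹) * uu X c := by rw [h1]
        _ = _ := by group
    obtain ⟨rfl, rfl, rfl⟩ := tor_uu_fixed X hy2 h2
    rw [uu_zero X, inv_mul_eq_one] at e
    obtain ⟨t1, u1, v1⟩ := c
    obtain ⟨t2, u2, v2⟩ := c'
    obtain ⟨rfl, rfl, rfl⟩ := uu_inj X e
    rfl
  obtain ⟨c, hc⟩ := Finite.surjective_of_injective hdi p
  refine ⟨(uu X c)⁻¹ * g, fun p₀ => ?_, fun x => ?_⟩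
  · have := mul_mem (mul_mem (inv_mem (uu_mem X c)) (hU _ (uu_mem X p₀))) (uu_mem X c)
    obtain ⟨t, u, v, e⟩ := mem_UB X this
    refine ⟨(t, u, v), ?_⟩
    rw [map_mul, mul_assoc, MulAut.mul_apply, ← hψ, MulAut.conj_apply, inv_inv, e]
  · obtain ⟨k, rfl⟩ := hz x
    refine ⟨y ^ k, ?_⟩
    rw [map_zpow, map_zpow, map_zpow]
    congr 1
    rw [map_mul, mul_assoc, MulAut.mul_apply, ← hψ, hy, ← hc, ← hd, MulAut.conj_apply, inv_inv]
    group

theorem eq_one_of_fixes (hm : 1 ≤ m) (φ : MulAut GG) (hU : ∀ p, φ (uu X p) = uu X p)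
    (hH : ∀ x, φ (torusHom X x) = torusHom X x) : φ = 1 := by
  classical
  have hst : ∀ g ∈ bor X, φ g = g := by
    intro g hg
    obtain ⟨p, x, rfl⟩ := bor_decomp X hg
    rw [map_mul, hU, hH]
  have hnb : nn X ∉ bor X := fun h => nn_not_bor X 0 (mul_mem (uu_mem_bor X 0) h)
  obtain ⟨x, hx⟩ := exists_sq_ne X hm
  have h1 : torusHom X x • ((φ (nn X) : GG) : GG ⧸ bor X) = ((φ (nn X) : GG) : GG ⧸ bor X) := by
    obtain ⟨y, hy⟩ := tor_nn X x
    rw [MulAction.Quotient.smul_coe, smul_eq_mul, ← hH x, ← map_mul, hy, map_mul, hH y,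
      ← smul_coe_base, mul_smul, (smul_base X).2 (tor_mem_bor X y), smul_coe_base]
  have hn : ((φ (nn X) : GG) : GG ⧸ bor X) = ((nn X : GG) : GG ⧸ bor X) := by
    rcases tor_fix X hx h1 with h | h
    · exfalso
      rw [← smul_coe_base, smul_base] at h
      exact hnb (φ.injective (hst _ h) ▸ h)
    · exact h
  have hpts : ∀ g : GG, φ g • ((1 : GG) : GG ⧸ bor X) = g • ((1 : GG) : GG ⧸ bor X) := by
    intro g
    rcases coset_cases X (g : GG ⧸ bor X) with h | ⟨p, h⟩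
    · rw [← smul_coe_base, smul_base] at h
      rw [hst g h]
    · have hb : (uu X p * nn X)⁻¹ * g ∈ bor X := QuotientGroup.eq.1 h.symm
      have e1 : φ g = uu X p * φ (nn X) * ((uu X p * nn X)⁻¹ * g) := by
        conv_rhs => rw [← hst _ hb, ← hU p, ← map_mul, ← map_mul]
        rw [hU p, mul_inv_cancel_left]
      rw [e1, mul_smul, (smul_base X).2 hb, mul_smul, smul_coe_base, hn, smul_coe_base, h,
        MulAction.Quotient.smul_coe, smul_eq_mul]
  have hcore : ∀ g : GG, g⁻¹ * φ g ∈ (bor X).normalCore := by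
    intro g b
    have h2 : φ g • ((b⁻¹ : GG) • ((1 : GG) : GG ⧸ bor X)) = g • ((b⁻¹ : GG) • ((1 : GG) : GG ⧸ bor X)) := by
      rw [← hpts b⁻¹, ← mul_smul, ← map_mul, hpts, hpts, mul_smul]
    have h3 : (b * (g⁻¹ * φ g) * b⁻¹) • ((1 : GG) : GG ⧸ bor X) = ((1 : GG) : GG ⧸ bor X) := by
      rw [mul_smul, mul_smul, mul_smul, h2, inv_smul_smul, smul_inv_smul]
    exact (smul_base X).1 h3
  haveI := (Twist.G2.isSimple X hm).1
  rcases (Subgroup.normalCore_normal (bor X)).eq_bot_or_eq_top with h | h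
  · refine MulEquiv.ext fun g => ?_
    have := hcore g
    rw [h, Subgroup.mem_bot, inv_mul_eq_one] at this
    exact this.symm
  · exact absurd (Subgroup.normalCore_le (bor X) (h ▸ Subgroup.mem_top (nn X))) hnb

/-! ### Field automorphisms -/

omit X in
theorem mapGL_wU (σ : K →+* K) (e : ℕ) (t u v : K) :
    FieldAut.mapGL chevG2 σ (wU e t u v) = wU e (σ t) (σ u) (σ v) := by
  simp only [wU, wd, yP, map_mul, FieldFix.mapGL_xg, map_add, map_pow, map_neg]

omit X in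
theorem mapGL_wV (σ : K →+* K) (e : ℕ) (t u v : K) :
    FieldAut.mapGL chevG2 σ (wV e t u v) = wV e (σ t) (σ u) (σ v) := by
  simp only [wV, wd, yN, map_mul, FieldFix.mapGL_xg, map_add, map_pow, map_neg]

theorem map_mem (σ : K →+* K) {g : GL chevG2.Idx K} (hg : g ∈ GG) :
    FieldAut.mapGL chevG2 σ g ∈ GG := by
  suffices GG ≤ (GG).comap (FieldAut.mapGL chevG2 σ) from this hg
  refine (show GG = _ from genSubgroup_eq hC (g2Words K (3 ^ m))).le.trans
    ((Subgroup.closure_le _).2 ?_)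
  rintro g ⟨w, hw, rfl⟩
  obtain ⟨t, u, v, rfl | rfl⟩ := hw
  · rw [SetLike.mem_coe, Subgroup.mem_comap, wordGL_U, mapGL_wU]
    exact (X.cls_mem _ _ _).1
  · rw [SetLike.mem_coe, Subgroup.mem_comap, wordGL_V, mapGL_wV]
    exact (X.cls_mem _ _ _).2

/-- The automorphism of the group induced by a field automorphism. -/
noncomputable def fieldAut : (K ≃+* K) →* MulAut GG where
  toFun σ :=
    { toFun := fun g => ⟨FieldAut.mapGL chevG2 σ.toRingHom g.1, map_mem X σ.toRingHom g.2⟩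
      invFun := fun g => ⟨FieldAut.mapGL chevG2 σ.symm.toRingHom g.1, map_mem X σ.symm.toRingHom g.2⟩
      left_inv := fun g => Subtype.ext (Units.ext (Matrix.ext fun i j => σ.symm_apply_apply _))
      right_inv := fun g => Subtype.ext (Units.ext (Matrix.ext fun i j => σ.apply_symm_apply _))
      map_mul' := fun g h => Subtype.ext (map_mul _ _ _) }
  map_one' := MulEquiv.ext fun g => Subtype.ext (Units.ext (Matrix.ext fun i j => rfl))
  map_mul' σ τ := MulEquiv.ext fun g => Subtype.ext (Units.ext (Matrix.ext fun i j => rfl))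

theorem fieldAut_uu (σ : K ≃+* K) (t u v : K) :
    fieldAut X σ (uu X (t, u, v)) = uu X (σ t, σ u, σ v) :=
  Subtype.ext (mapGL_wU σ.toRingHom _ t u v)

theorem fieldAut_tor (σ : K ≃+* K) (x : Kˣ) :
    fieldAut X σ (torusHom X x) = torusHom X (Units.map σ.toRingHom.toMonoidHom x) := by
  refine Subtype.ext ?_
  show FieldAut.mapGL chevG2 σ.toRingHom (tor chevG2 (tc m x)) = _
  rw [FieldFix.mapGL_tor, coe_torusHom]
  congr 1
  funext i
  simp only [tc]
  split_ifs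
  · simp
  · rfl

theorem fieldAut_inner {σ : K ≃+* K} {g : GG} (h : fieldAut X σ = MulAut.conj g) : σ = 1 := by
  have h1 : ∀ t u v, g * uu X (t, u, v) * g⁻¹ = uu X (σ t, σ u, σ v) := fun t u v => by
    rw [← fieldAut_uu X, h, MulAut.conj_apply]
  have hgb : g • ((1 : GG) : GG ⧸ bor X) = ((1 : GG) : GG ⧸ bor X) := by
    refine uu_fix_only_base X (one_zero_ne X) ?_
    have e : uu X (1, 0, 0) = g * uu X (σ.symm 1, σ.symm 0, σ.symm 0) * g⁻¹ := by
      rw [h1, RingEquiv.apply_symm_apply, RingEquiv.apply_symm_apply]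
    rw [e, mul_smul, inv_smul_smul, mul_smul, (smul_base X).2 (uu_mem_bor X _)]
  obtain ⟨⟨a, b, c⟩, x, rfl⟩ := bor_decomp X ((smul_base X).1 hgb)
  have key : ∀ t, a6 m x * t = σ t := by
    intro t
    have e := h1 t 0 0
    rw [show uu X (a, b, c) * torusHom X x * uu X (t, 0, 0) * (uu X (a, b, c) * torusHom X x)⁻¹ =
      uu X (a, b, c) * (torusHom X x * uu X (t, 0, 0) * (torusHom X x)⁻¹) * (uu X (a, b, c))⁻¹ by group,
      tor_uu, mul_inv_eq_iff_eq_mul, uu_mul, uu_mul] at e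
    have e1 := (uu_inj X e).1
    linear_combination e1
  refine RingEquiv.ext fun t => ?_
  have e := key 1
  rw [map_one, mul_one] at e
  rw [← key t, e, one_mul]
  rfl

end Cfsg.Agent.Ree
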