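import Cfsg.Prelude.Def_KGroupFacts
import Cfsg.Agent.Lib.Ree.Borel
import Cfsg.Agent.Lib.AutPSL.Out

/-!
The automorphism group of the small Ree group: inner and field automorphisms.
-/

set_option autoImplicit false
set_option linter.unusedSectionVars false

open scoped Matrix Pointwise

namespace Cfsg.Agent.Ree

open Cfsg.Lie Cfsg.Agent.Chevalley Cfsg.Agent.Chevalley.Cert
  Cfsg.Agent.Chevalley.Twist Cfsg.Agent.Chevalley.Twist.G2

variable {K : Type*} [Field K] [Fintype K] [CharP K 3] {m : ℕ}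

local notation "GG" => twistedG2 K (3 ^ m)

theorem two_ne : (2 : K) ≠ 0 := fun e => neg_one_ne_one (K := K) (by linear_combination -e)

variable {hK : Fintype.card K = 3 ^ (2 * m + 1)} (X : Setup (K := K) hK)
include X

theorem cube_inj {y y' : K} (h : TT m y * y ^ 2 = TT m y' * y' ^ 2) : y = y' := by
  by_cases hy : y' = 0
  · subst hy
    rw [TT_zero, zero_mul] at h
    rcases mul_eq_zero.1 h with h1 | h1
    · exact eq_zero_of_pow_eq_zero (eq_zero_of_pow_eq_zero h1)
    · exact eq_zero_of_pow_eq_zero h1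
  · obtain ⟨r, hr⟩ : ∃ r, y = r * y' := ⟨y / y', by rw [div_mul_cancel₀ _ hy]⟩
    subst hr
    rw [TT_mul] at h
    have hne : TT m y' * y' ^ 2 ≠ 0 := mul_ne_zero (pow_ne_zero 3 (pow_ne_zero _ hy)) (pow_ne_zero 2 hy)
    have h1 : TT m r * r ^ 2 = 1 := (mul_eq_right₀ hne).1 (by linear_combination h)
    have hr0 : r ≠ 0 := fun e => by
      rw [e, TT_zero, zero_mul] at h1
      exact zero_ne_one h1
    have h2 : TT m r = (r⁻¹) ^ 2 := by
      field_simp
      linear_combination h1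
    have h3 : r ^ 3 = r ^ 4 := by
      have hinv : TT m r⁻¹ = r ^ 2 := by
        refine mul_left_cancel₀ (pow_ne_zero 3 (pow_ne_zero (3 ^ m) hr0)) ?_
        show TT m r * TT m r⁻¹ = TT m r * r ^ 2
        rw [← TT_mul, mul_inv_cancel₀ hr0, TT_one, h1]
      rw [← TT_TT hK r, h2, sq, TT_mul, hinv]
      ring
    have h4 : r = 1 := (mul_eq_left₀ (pow_ne_zero 3 hr0)).1 (by rw [← pow_succ]; exact h3.symm)
    rw [h4, one_mul]

theorem exists_cube (v : K) : ∃ t, -(TT m t * t ^ 2) = v := by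
  exact Finite.surjective_of_injective (fun a b h => cube_inj X (neg_injective h)) v

theorem exists_second {u : K} (hu : u ≠ 0) : ∃ x : Kˣ, a10 m x = u ∨ a10 m x = -u := by
  let f : Kˣ →* Kˣ := MonoidHom.mk' (fun x => ((x ^ 3 ^ m) ^ 3) * x⁻¹) fun x y => by
    simp only [mul_pow, mul_inv]; ac_rfl
  have hf : ∀ x : Kˣ, (f x : K) = a10 m x := fun x => rfl
  have hker : f.ker = (powMonoidHom 2 : Kˣ →* Kˣ).ker := by
    ext x
    rw [MonoidHom.mem_ker, MonoidHom.mem_ker, powMonoidHom_apply]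
    constructor
    · intro h
      exact a10_triv X (by rw [← hf, h, Units.val_one])
    · intro h
      have h' : ((x : K)) ^ 2 = 1 := by rw [← Units.val_pow_eq_pow_val, h, Units.val_one]
      rcases sq_eq_one_iff.1 h' with h3 | h3
      · rw [Units.val_eq_one.1 h3, map_one]
      · exact Units.ext (by
          rw [hf, show x = -1 from Units.ext (by rw [h3]; simp), a10_neg_one, Units.val_one])
  have hm1 : (-1 : Kˣ) ∉ f.range := by
    rintro ⟨x, hx⟩
    have e : a10 m x = -1 := by rw [← hf, hx]; simp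
    have e1 : TT m (x : K) = -x := by
      rw [a10_eq, mul_inv_eq_iff_eq_mul₀ x.ne_zero] at e
      linear_combination e
    have e2 : ((x : K)) ^ 3 = x := by rw [← TT_TT hK (x : K), e1, TT_neg, e1, neg_neg]
    have e3 : x ^ 2 = 1 := by
      refine Units.ext ?_
      rw [Units.val_pow_eq_pow_val, Units.val_one]
      exact (mul_eq_right₀ x.ne_zero).1 (by linear_combination e2)
    have : f x = 1 := MonoidHom.mem_ker.1 (hker ▸ MonoidHom.mem_ker.2 e3)
    rw [hx] at this
    exact neg_one_ne_one (K := K) (by simpa using congrArg Units.val this)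
  have hidx : f.range.index = 2 := by
    have h1 := Subgroup.card_mul_index f.range
    have h2 := Subgroup.card_mul_index f.ker
    rw [Subgroup.index_ker, hker] at h2
    have h3 : Nat.card (powMonoidHom 2 : Kˣ →* Kˣ).ker = 2 := by
      rw [IsCyclic.card_powMonoidHom_ker, Nat.card_units, Nat.card_eq_fintype_card, hK]
      refine Nat.gcd_eq_right ?_
      have h3o : Odd (3 ^ (2 * m + 1)) := (show Odd 3 by decide).pow
      exact (even_iff_two_dvd).1 (Nat.Odd.sub_odd h3o odd_one)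
    rw [h3, mul_comm] at h2
    exact Nat.eq_of_mul_eq_mul_left Nat.card_pos (h1.trans h2.symm)
  by_cases h : Units.mk0 u hu ∈ f.range
  · obtain ⟨x, hx⟩ := h
    exact ⟨x, Or.inl (by rw [← hf, hx, Units.val_mk0])⟩
  · have h' : -1 * Units.mk0 u hu ∈ f.range :=
      (Subgroup.mul_mem_iff_of_index_two hidx).2 ⟨fun e => absurd e hm1, fun e => absurd e h⟩
    obtain ⟨x, hx⟩ := h'
    exact ⟨x, Or.inr (by rw [← hf, hx]; simp)⟩

theorem uu_split (t u v : K) : uu X (t, u, v) = uu X (t, 0, 0) * uu X (0, u, v) := by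
  rw [uu_mul, TT_zero]
  congr 1
  simp

theorem uu_split₀ (u v : K) : uu X (0, u, v) = uu X (0, u, 0) * uu X (0, 0, v) := by
  rw [uu_mul, TT_zero]
  congr 1
  simp

theorem uu_order_le {χ : MulAut GG} {u v : K} {p : K × K × K} (h : χ (uu X (0, u, v)) = uu X p) :
    p.1 = 0 := by
  obtain ⟨t, u', v'⟩ := p
  have h1 := congrArg (· ^ 3) h
  simp only [← map_pow, uu_cube, TT_zero, zero_mul, neg_zero, uu_zero, map_one] at h1
  rw [← uu_zero X] at h1
  have h2 := (uu_inj X h1).2.2
  refine cube_inj X ?_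
  rw [TT_zero, zero_mul]
  linear_combination h2

theorem rigid (hm : 1 ≤ m) (χ : MulAut GG) (hU : ∀ p, ∃ p', χ (uu X p) = uu X p')
    (hH : ∀ x, ∃ y, χ (torusHom X x) = torusHom X y)
    (ht : ∀ t, ∃ u v, χ (uu X (t, 0, 0)) = uu X (t, u, v)) : χ = 1 := by
  classical
  choose h k hk using ht
  -- the torus is fixed
  have hHf : ∀ x, χ (torusHom X x) = torusHom X x := by
    intro x
    obtain ⟨y, hy⟩ := hH x
    have e := congrArg χ (tor_uu X x 1 0 0)
    rw [map_mul, map_mul, map_inv χ, hy, hk, tor_uu, mul_one, mul_zero, mul_zero, hk, mul_one] at e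
    rw [hy, a6_injective X (uu_inj X e).1]
  -- the centre
  have hZ : ∀ v, χ (uu X (0, 0, v)) = uu X (0, 0, v) := by
    intro v
    obtain ⟨t, rfl⟩ := exists_cube X v
    rw [← uu_cube X t 0 0, map_pow, hk, uu_cube, uu_cube]
  have hO : ∀ u, ∃ g η, χ (uu X (0, u, 0)) = uu X (0, g, η) := by
    intro u
    obtain ⟨⟨t, g, η⟩, he⟩ := hU (0, u, 0)
    obtain rfl : t = 0 := uu_order_le X he
    exact ⟨g, η, he⟩
  choose g η hg using hO
  have hη : ∀ u, η u = 0 := by
    intro u
    have e := congrArg χ (tor_uu X (-1 : Kˣ) 0 u 0)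
    rw [map_mul, map_mul, map_inv χ, hHf, hg, tor_uu, mul_zero, mul_zero, a10_neg_one, one_mul,
      one_mul, hg, Units.val_neg, Units.val_one] at e
    have e1 := (uu_inj X e).2.2
    exact (mul_eq_zero.1 (show (2 : K) * η u = 0 by linear_combination -e1)).resolve_left two_ne
  simp only [hη] at hg
  have hgadd : ∀ u u', g (u + u') = g u + g u' := by
    intro u u'
    have e0 := uu_mul X 0 u 0 0 u' 0
    simp only [TT_zero, zero_mul, mul_zero, add_zero, sub_zero] at e0
    have e := congrArg χ e0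
    rw [map_mul, hg, hg, hg, uu_mul] at e
    simp only [TT_zero, zero_mul, mul_zero, add_zero, sub_zero] at e
    exact (uu_inj X e).2.1.symm
  have hgscale : ∀ x u, g (a10 m x * u) = a10 m x * g u := by
    intro x u
    have e := congrArg χ (tor_uu X x 0 u 0)
    rw [map_mul, map_mul, map_inv χ, hHf, hg, tor_uu, mul_zero, mul_zero, hg] at e
    exact (uu_inj X e).2.1.symm
  have hg0 : g 0 = 0 := by simpa using hgadd 0 0
  have hgneg : ∀ u, g (-u) = -g u := fun u => eq_neg_of_add_eq_zero_left (by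
    rw [← hgadd, neg_add_cancel, hg0])
  have hglin : ∀ u, g u = g 1 * u := by
    intro u
    by_cases hu : u = 0
    · rw [hu, hg0, mul_zero]
    · obtain ⟨x, hx⟩ := exists_second X hu
      have e := hgscale x 1
      rw [mul_one] at e
      rcases hx with hx | hx
      · rw [hx] at e
        rw [e]; ring
      · rw [hx, hgneg] at e
        linear_combination -e
  obtain ⟨s, hs⟩ := exists_sq_ne X hm
  have hd : (s : K) - TT m (s : K) ≠ 0 := by
    intro e
    refine hs (a10_triv X ?_)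
    rw [a10_eq, ← sub_eq_zero.1 e, mul_inv_cancel₀ s.ne_zero]
  -- the scale on the middle layer
  have hg1 : g 1 = 1 := by
    obtain ⟨a, b, hab⟩ : ∃ a b, uu X (1, 0, 0) * uu X ((s : K), 0, 0) =
        uu X ((s : K), 0, 0) * uu X (1, 0, 0) * uu X (0, a, b) ∧ a = (s : K) - TT m (s : K) := by
      obtain ⟨t, u, v, e⟩ := mem_UB X (mul_mem (inv_mem (mul_mem (uu_mem X ((s : K), 0, 0))
        (uu_mem X (1, 0, 0)))) (mul_mem (uu_mem X (1, 0, 0)) (uu_mem X ((s : K), 0, 0))))
      rw [inv_mul_eq_iff_eq_mul] at e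
      have e' := e
      rw [uu_mul, uu_mul, uu_mul] at e'
      obtain ⟨e1, e2, -⟩ := uu_inj X e'
      obtain rfl : t = 0 := by linear_combination -e1
      simp only [TT_zero, TT_one, zero_mul, one_mul, mul_one, sub_zero, add_zero, zero_add] at e2
      exact ⟨u, v, e, by linear_combination -e2⟩
    obtain ⟨hab, ha⟩ := hab
    have e := congrArg χ hab
    rw [map_mul, map_mul, map_mul, hk, hk, uu_split₀ X a b, map_mul, hg, hZ, ← uu_split₀, uu_mul,
      uu_mul, uu_mul] at e
    obtain ⟨-, e2, -⟩ := uu_inj X e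
    simp only [TT_zero, TT_one, zero_mul, one_mul, mul_one, sub_zero] at e2
    rw [hglin, ha] at e2
    exact mul_right_cancel₀ hd (by linear_combination -e2)
  have hΩ : ∀ u v, χ (uu X (0, u, v)) = uu X (0, u, v) := by
    intro u v
    rw [uu_split₀, map_mul, hg, hZ, hglin, hg1, one_mul]
  -- the first layer
  have hj : ∀ t, h (-t) = h t ∧ k (-t) = -k t := by
    intro t
    have e := congrArg χ (tor_uu X (-1 : Kˣ) t 0 0)
    rw [map_mul, map_mul, map_inv χ, hHf, hk, tor_uu, a6_neg_one, a10_neg_one, mul_zero, mul_zero,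
      neg_one_mul, hk, one_mul, Units.val_neg, Units.val_one, neg_one_mul] at e
    exact ⟨(uu_inj X e).2.1.symm, (uu_inj X e).2.2.symm⟩
  have hh : ∀ t, h t = 0 := by
    intro t
    have e := congrArg χ (uu_mul X t 0 0 (-t) 0 0)
    rw [map_mul, hk, hk, add_neg_cancel, hΩ, uu_mul, add_neg_cancel, (hj t).1] at e
    obtain ⟨-, e2, -⟩ := uu_inj X e
    exact (mul_eq_zero.1 (show (2 : K) * h t = 0 by linear_combination e2)).resolve_left two_ne
  simp only [hh] at hk
  have hkadd : ∀ t t', k (t + t') = k t + k t' := by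
    intro t t'
    have e := congrArg χ (uu_mul X t 0 0 t' 0 0)
    rw [map_mul, hk, hk, uu_split X (t + t'), map_mul, hk, hΩ, uu_mul, uu_mul] at e
    obtain ⟨-, -, e3⟩ := uu_inj X e
    simp only [TT_zero, zero_mul, mul_zero, sub_zero, add_zero, zero_add] at e3
    linear_combination -e3
  have hkscale : ∀ x, k (a6 m x) = (x : K) * k 1 := by
    intro x
    have e := congrArg χ (tor_uu X x 1 0 0)
    rw [map_mul, map_mul, map_inv χ, hHf, hk, tor_uu, mul_one, mul_zero, mul_zero, hk] at e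
    exact (uu_inj X e).2.2.symm
  have hk1 : k 1 = 0 := by
    by_contra hne
    by_cases h0 : 1 + a6 m s = 0
    · refine hs ?_
      have : a6 m s = a6 m (-1 : Kˣ) := by rw [a6_neg_one]; linear_combination h0
      rw [a6_injective X this, neg_one_sq]
    obtain ⟨y, hy⟩ := exists_a6 X h0
    have e := hkadd 1 (a6 m s)
    rw [← hy, hkscale, hkscale] at e
    have ey : (y : K) = 1 + s := mul_right_cancel₀ hne (by linear_combination e)
    rw [a6_eq, a6_eq, ey, TT_add, TT_one] at hy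
    have h1 : 1 + TT m (s : K) ≠ 0 := by
      intro e1
      have : TT m (y : K) ≠ 0 := pow_ne_zero 3 (pow_ne_zero _ y.ne_zero)
      rw [ey, TT_add, TT_one] at this
      exact this e1
    have h2 : TT m (s : K) ≠ 0 := pow_ne_zero 3 (pow_ne_zero _ s.ne_zero)
    field_simp at hy
    refine hd (eq_zero_of_pow_eq_zero (n := 2) ?_)
    linear_combination -hy
  have hk0 : ∀ t, k t = 0 := by
    intro t
    by_cases ht0 : t = 0
    · subst ht0; simpa using hkadd 0 0
    · obtain ⟨x, rfl⟩ := exists_a6 X ht0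
      rw [hkscale, hk1, mul_zero]
  simp only [hk0] at hk
  refine eq_one_of_fixes X hm χ ?_ hHf
  rintro ⟨t, u, v⟩
  rw [uu_split, map_mul, hk, hΩ]

theorem exists_inner_field (hm : 1 ≤ m) (φ : MulAut GG) :
    ∃ (g : GG) (σ : K ≃+* K), φ = MulAut.conj g * fieldAut X σ := by
  classical
  obtain ⟨g, hU, hH⟩ := exists_normalised X hm φ
  set ψ := MulAut.conj g * φ with hψ
  choose P0 hP0 using hU
  have hne : (P0 (1, 0, 0)).1 ≠ 0 := by
    intro e
    have h1 := congrArg (· ^ 3) (hP0 (1, 0, 0))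
    simp only [← map_pow] at h1
    have hcube : uu X (P0 (1, 0, 0)) ^ 3 = 1 := by
      obtain ⟨⟨t', u', v'⟩, hp⟩ : ∃ p, p = P0 (1, 0, 0) := ⟨_, rfl⟩
      rw [← hp] at e ⊢
      simp only at e
      rw [uu_cube, e, TT_zero, zero_mul, neg_zero, uu_zero]
    rw [hcube, MulEquiv.map_eq_one_iff, uu_cube, ← uu_zero X] at h1
    have h2 := (uu_inj X h1).2.2
    simp [TT_one] at h2
  obtain ⟨c, hc⟩ := exists_a6 X (inv_ne_zero hne)
  set ψ₁ := MulAut.conj (torusHom X c) * ψ with hψ₁
  have hU1 : ∀ p, ∃ p', ψ₁ (uu X p) = uu X p' ∧ p'.1 = a6 m c * (P0 p).1 := by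
    intro p
    obtain ⟨⟨t, u, v⟩, hp⟩ : ∃ q, q = P0 p := ⟨_, rfl⟩
    refine ⟨(a6 m c * t, a10 m c * u, (c : K) * v), ?_, by rw [← hp]⟩
    rw [hψ₁, MulAut.mul_apply, hP0, MulAut.conj_apply, ← hp]
    exact tor_uu X c t u v
  have hH1 : ∀ x, ∃ y, ψ₁ (torusHom X x) = torusHom X y := by
    intro x
    obtain ⟨y, hy⟩ := hH x
    exact ⟨y, by rw [hψ₁, MulAut.mul_apply, hy, MulAut.conj_apply, ← map_mul, ← map_inv, ← map_mul,
      mul_comm c y, mul_inv_cancel_right]⟩
  choose P hP hPc using hU1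
  choose τ hτ using hH1
  obtain ⟨f, hf⟩ : ∃ f : K → K, ∀ t, f t = (P (t, 0, 0)).1 := ⟨_, fun t => rfl⟩
  have hfe : ∀ t, ∃ u v, ψ₁ (uu X (t, 0, 0)) = uu X (f t, u, v) :=
    fun t => ⟨_, _, by rw [hP, hf]⟩
  choose fu fv hfv using hfe
  have hf1 : f 1 = 1 := by rw [hf, hPc, hc, inv_mul_cancel₀ hne]
  have hadd : ∀ t t', f (t + t') = f t + f t' := by
    intro t t'
    have e0 := uu_mul X t 0 0 t' 0 0
    rw [uu_split X (t + t')] at e0
    generalize 0 + 0 - TT m t' * t ^ 2 - t' * (0 - TT m t' * t) = B at e0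
    generalize 0 + 0 - TT m t' * t = A at e0
    have hz := hP (0, A, B)
    generalize P (0, A, B) = q at hz
    obtain ⟨a, b, d⟩ := q
    have ha : a = 0 := uu_order_le X hz
    subst ha
    have e := congrArg ψ₁ e0
    rw [map_mul, map_mul, hfv, hfv, hfv, hz, uu_mul, uu_mul] at e
    have e1 := (uu_inj X e).1
    linear_combination -e1
  have hscale : ∀ x t, f (a6 m x * t) = a6 m (τ x) * f t := by
    intro x t
    have e := congrArg ψ₁ (tor_uu X x t 0 0)
    rw [map_mul, map_mul, map_inv ψ₁, hτ, hfv, tor_uu, mul_zero, mul_zero, hfv] at e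
    exact (uu_inj X e).1.symm
  have hmul : ∀ a b, f (a * b) = f a * f b := by
    intro a b
    by_cases ha : a = 0
    · subst ha
      have h0 : f 0 = 0 := by simpa using hadd 0 0
      rw [zero_mul, h0, zero_mul]
    · obtain ⟨x, rfl⟩ := exists_a6 X ha
      have h1 := hscale x 1
      rw [mul_one, hf1, mul_one] at h1
      rw [hscale, h1]
  let fhom : K →+* K :=
    { toFun := f, map_one' := hf1, map_mul' := hmul
      map_zero' := by simpa using hadd 0 0
      map_add' := hadd }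
  let σ : K ≃+* K := RingEquiv.ofBijective fhom
    ⟨fhom.injective, Finite.surjective_of_injective fhom.injective⟩
  have hχ1 : (fieldAut X σ)⁻¹ * ψ₁ = 1 := by
    refine rigid X hm _ (fun p => ?_) (fun x => ?_) fun t => ?_
    · refine ⟨(σ.symm (P p).1, σ.symm (P p).2.1, σ.symm (P p).2.2), ?_⟩
      rw [MulAut.mul_apply, hP, ← map_inv]
      exact fieldAut_uu X σ⁻¹ _ _ _
    · refine ⟨Units.map σ.symm.toRingHom.toMonoidHom (τ x), ?_⟩
      rw [MulAut.mul_apply, hτ, ← map_inv, fieldAut_tor]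
      rfl
    · refine ⟨σ.symm (fu t), σ.symm (fv t), ?_⟩
      rw [MulAut.mul_apply, hfv, ← map_inv, fieldAut_uu]
      exact congrArg (fun a => uu X (a, σ.symm (fu t), σ.symm (fv t))) (σ.symm_apply_apply t)
  rw [inv_mul_eq_one, hψ₁, hψ, ← mul_assoc, ← map_mul] at hχ1
  exact ⟨(torusHom X c * g)⁻¹, σ,
    by rw [hχ1, ← mul_assoc, ← map_mul, inv_mul_cancel, map_one, one_mul]⟩

theorem card_out (hm : 1 ≤ m) : Nat.card (Cfsg.Out GG) = 2 * m + 1 := by
  haveI : Fact (Nat.Prime 3) := ⟨Nat.prime_three⟩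
  obtain ⟨e⟩ := Cfsg.Agent.AutPSL.Out.exists_ringAut_equiv (p := 3) (f := 2 * m + 1) hK
  rw [← Nat.card_zmod (2 * m + 1), ← Nat.card_congr (Multiplicative.toAdd (α := ZMod (2 * m + 1))),
    ← Nat.card_congr e.toEquiv]
  let π : (K ≃+* K) →* Cfsg.Out GG := (QuotientGroup.mk' _).comp (fieldAut X)
  refine (Nat.card_congr (Equiv.ofBijective π ⟨?_, ?_⟩)).symm
  · rw [← MonoidHom.ker_eq_bot_iff, eq_bot_iff]
    intro σ hσ
    obtain ⟨g, hg⟩ := (QuotientGroup.eq_one_iff _).1 (MonoidHom.mem_ker.1 hσ)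
    exact fieldAut_inner X hg.symm
  · intro x
    obtain ⟨φ, rfl⟩ := QuotientGroup.mk_surjective x
    obtain ⟨g, σ, rfl⟩ := exists_inner_field X hm φ
    refine ⟨σ, ?_⟩
    show (QuotientGroup.mk (fieldAut X σ) : Cfsg.Out GG) = _
    rw [QuotientGroup.mk_mul,
      (QuotientGroup.eq_one_iff (N := Cfsg.Inn GG) (MulAut.conj g)).2 ⟨g, rfl⟩, one_mul]

end Cfsg.Agent.Ree
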