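import Cfsg.Agent.Lib.Ree.Count

/-!
The two classes of tori of orders `q ∓ 3^(m+1) + 1` of the small Ree groups.
-/

set_option autoImplicit false
set_option linter.unusedSectionVars false
set_option linter.style.haveILetI false

open scoped Matrix Pointwise MatrixGroups

namespace Cfsg.Agent.Ree

open Cfsg.Lie Cfsg.Agent.Chevalley Cfsg.Agent.Chevalley.Cert Cfsg.Agent.Chevalley.Group
  Cfsg.Agent.Chevalley.Twist Cfsg.Agent.Chevalley.Twist.G2 Cfsg.Agent.Chevalley.SL2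

variable {K : Type*} [Field K] [Fintype K] [CharP K 3] {m : ℕ}

local notation "GG" => twistedG2 K (3 ^ m)
local notation "qq" => Fintype.card K

/-- The non-trivial members of a subgroup. -/
def regSix (T : Subgroup ↥(twistedG2 K (3 ^ m))) : Set ↥(twistedG2 K (3 ^ m)) :=
  {g | g ∈ T ∧ g ≠ 1}

variable {hK : Fintype.card K = 3 ^ (2 * m + 1)} (X : Setup (K := K) hK)
variable {Φ : SL(2, K) →* ↥(twistedG2 K (3 ^ m))} (hΦ : IsEmbed X Φ)
include hΦ

variable {T T' : Subgroup ↥(twistedG2 K (3 ^ m))}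

theorem six_transfer (hm : 1 ≤ m) (hT : IsSix T) (hT' : IsSix T') {x k : GG} (hx : x ∈ T)
    (hx1 : x ≠ 1) (hk : k⁻¹ * x * k ∈ T') : T = T'.map (MulAut.conj k).toMonoidHom := by
  have h1 := six_conj X hΦ hT' k
  have hx' : x ∈ T'.map (MulAut.conj k).toMonoidHom := ⟨_, hk, by simp [mul_assoc]⟩
  rw [← six_cent X hΦ hm hT hx hx1, six_cent X hΦ hm h1 hx' hx1]

theorem card_map_conj (k : GG) : Nat.card (T.map (MulAut.conj k).toMonoidHom) = Nat.card T :=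
  Subgroup.card_map_of_injective (MulAut.conj k).injective

theorem six_common (hm : 1 ≤ m) (hT : IsSix T) (hT' : IsSix T') {l : ℕ} (hl : l.Prime)
    (h : l ∣ Nat.card T) (h' : l ∣ Nat.card T') :
    ∃ k : GG, T = T'.map (MulAut.conj k).toMonoidHom := by
  haveI : Fact l.Prime := ⟨hl⟩
  obtain ⟨⟨x, hx⟩, hxo⟩ := exists_prime_orderOf_dvd_card' (G := T) l h
  rw [Subgroup.orderOf_mk] at hxo
  obtain ⟨P', hP'⟩ := six_sylow X hΦ hm hT' h'
  obtain ⟨Q, hQ⟩ := (IsPGroup.of_card (n := 1)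
    (by rw [Nat.card_zpowers, pow_one, hxo]) : IsPGroup l (Subgroup.zpowers x)).exists_le_sylow
  obtain ⟨k, rfl⟩ := MulAction.exists_smul_eq GG P' Q
  refine ⟨k, six_transfer X hΦ hm hT hT' hx (fun e => ?_) (hP' ?_)⟩
  · rw [e, orderOf_one] at hxo
    exact hl.ne_one hxo.symm
  · have h2 := hQ (Subgroup.mem_zpowers x)
    rw [Sylow.coe_subgroup_smul, Subgroup.mem_pointwise_smul_iff_inv_smul_mem] at h2
    simpa using h2

theorem regSix_subset (hm : 1 ≤ m) (hT : IsSix T) : cset (regSix T) ⊆ sixSet K m := by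
  rintro g ⟨k, hk, hk1⟩
  refine ⟨fun e => hk1 (by rw [e]; group), fun l hl hlg => six_prime_dvd X hΦ hm hT hl ?_⟩
  rw [← orderOf_conj X k g] at hlg
  exact hlg.trans (Subgroup.orderOf_dvd_natCard _ hk)

theorem ncard_regSix : ((regSix T).ncard : ℤ) = (Nat.card T : ℤ) - 1 := by
  have h : regSix T = (T : Set GG) \ {1} := by
    ext g
    simp [regSix]
  rw [h, Set.ncard_sdiff (Set.singleton_subset_iff.2 (one_mem T)), Set.ncard_singleton,
    show (T : Set GG).ncard = Nat.card T from (Nat.card_coe_set_eq _).symm,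
    Nat.cast_sub (show 1 ≤ Nat.card T from Nat.card_pos)]
  rfl

theorem ncard_six_class (hm : 1 ≤ m) (hT : IsSix T) :
    (cset (regSix T)).ncard * Nat.card (Subgroup.normalizer (T : Set GG)) =
      Nat.card GG * (regSix T).ncard := by
  refine ncard_cset _ _ (fun n hn x hx => ⟨(Subgroup.mem_normalizer_iff.1 hn x).1 hx.1,
    fun e => hx.2 ?_⟩) (fun g x hx hgx => Tools.mem_normalizer_of_maps fun z hz => ?_)
  · simpa using e
  · rw [← six_cent X hΦ hm hT hgx.1 hgx.2, Tools.mem_cent_conj, six_cent X hΦ hm hT hx.1 hx.2]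
    simpa [mul_assoc] using hz

theorem six_disjoint (hm : 1 ≤ m) (hT : IsSix T) (hT' : IsSix T')
    (hne : Nat.card T ≠ Nat.card T') : Disjoint (cset (regSix T)) (cset (regSix T')) := by
  rw [Set.disjoint_left]
  rintro g ⟨k, hk, hk1⟩ ⟨k', hk', -⟩
  refine hne ?_
  have e := six_transfer X hΦ hm hT hT' (k := k⁻¹ * k') hk hk1 (by
    rw [show (k⁻¹ * k')⁻¹ * (k⁻¹ * g * k) * (k⁻¹ * k') = k'⁻¹ * g * k' by group]
    exact hk')
  rw [e, card_map_conj X hΦ]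

theorem card_GG_six : (Nat.card GG : ℤ) =
    (qq : ℤ) ^ 3 * ((qq : ℤ) ^ 2 - 1) * ((qq : ℤ) ^ 2 - qq + 1) := by
  have := Fintype.one_lt_card (α := K)
  rw [card_GG X]
  push_cast [Nat.cast_sub (show 1 ≤ qq by omega)]
  ring

theorem six_size : ((qq ^ 2 - qq + 1 : ℕ) : ℤ) = (qq : ℤ) ^ 2 - qq + 1 := by
  push_cast [Nat.cast_sub (Nat.le_self_pow two_ne_zero qq)]
  ring

/-- The contribution of a torus to the sorting. -/
theorem six_share (hm : 1 ≤ m) (hT : IsSix T) : ∃ (w : ℕ) (u : ℕ), 1 ≤ w ∧ w ≤ 6 ∧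
    Nat.card (Subgroup.normalizer (T : Set GG)) = w * Nat.card T ∧
    qq ^ 2 - qq + 1 = Nat.card T * u ∧
    ((cset (regSix T)).ncard : ℤ) * w =
      (qq : ℤ) ^ 3 * ((qq : ℤ) ^ 2 - 1) * (((qq : ℤ) ^ 2 - qq + 1) - u) := by
  obtain ⟨u, hu⟩ := six_card_dvd X hΦ hm hT
  obtain ⟨w, hw⟩ := Subgroup.card_dvd_of_le (Subgroup.le_normalizer (H := T))
  have hpos : 0 < Nat.card T := Nat.card_pos
  have hw6 : w ≤ 6 := by
    have h := six_index X hΦ hm hT
    rw [hw, mul_comm] at h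
    exact Nat.le_of_mul_le_mul_right h hpos
  have hw1 : 1 ≤ w := Nat.pos_of_ne_zero fun e => by
    subst e
    exact Nat.card_pos.ne' (hw.trans (mul_zero _))
  refine ⟨w, u, hw1, hw6, by rw [hw, mul_comm], hu, ?_⟩
  have h := congrArg (fun n : ℕ => (n : ℤ)) (ncard_six_class X hΦ hm hT)
  have hc := congrArg (fun n : ℕ => (n : ℤ)) hu
  simp only [Nat.cast_mul] at h hc
  rw [hw, Nat.cast_mul, card_GG_six X hΦ, ncard_regSix X hΦ] at h
  rw [six_size X hΦ] at hc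
  have hne : ((Nat.card T : ℤ)) ≠ 0 := by exact_mod_cast hpos.ne'
  refine mul_right_cancel₀ hne ?_
  linear_combination h - (qq : ℤ) ^ 3 * ((qq : ℤ) ^ 2 - 1) * hc

theorem six_mem (hm : 1 ≤ m) {g : GG} (hg : g ∈ sixSet K m) :
    ∃ T, IsSix T ∧ g ∈ T := by
  obtain ⟨l, hl, hlg⟩ := Nat.exists_prime_and_dvd (fun e => hg.1 (orderOf_eq_one_iff.1 e))
  exact ⟨_, ⟨l, _, hl, hg.2 l hl hlg, orderOf_pow_orderOf_div (orderOf_pos g).ne' hlg, rfl⟩,
    Subgroup.mem_centralizer_singleton_iff.2 (Commute.self_pow g _).eq⟩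

theorem exists_six {l : ℕ} (hl : l.Prime) (h : l ∣ qq ^ 2 - qq + 1) :
    ∃ T : Subgroup GG, IsSix T ∧ l ∣ Nat.card T := by
  haveI : Fact l.Prime := ⟨hl⟩
  have hd : l ∣ Nat.card GG := by
    rw [card_GG X, six_factor X]
    exact dvd_mul_of_dvd_right (dvd_mul_of_dvd_right h _) _
  obtain ⟨g, hg⟩ := exists_prime_orderOf_dvd_card' (G := GG) l hd
  exact ⟨_, ⟨l, g, hl, h, hg, rfl⟩, hg ▸ Subgroup.orderOf_dvd_natCard _
    (Subgroup.mem_centralizer_singleton_iff.2 rfl)⟩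

theorem size_bound (hm : 1 ≤ m) : 26 * (qq : ℤ) ≤ (qq : ℤ) ^ 2 - qq + 1 ∧ (27 : ℤ) ≤ qq := by
  have : (27 : ℤ) ≤ (qq : ℤ) := by exact_mod_cast twenty_seven_le X hm
  exact ⟨by nlinarith, this⟩

theorem no_cover (hm : 1 ≤ m) (hT : IsSix T) : Nat.card T ≠ qq ^ 2 - qq + 1 := by
  intro hcard
  obtain ⟨w, u, hw1, hw6, hN, hu, hx⟩ := six_share X hΦ hm hT
  rw [hcard] at hu
  obtain rfl : u = 1 := by
    have := six_pos X
    nlinarith
  have hset : sixSet K m = cset (regSix T) := by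
    refine Set.Subset.antisymm (fun g hg => ?_) (regSix_subset X hΦ hm hT)
    obtain ⟨T', hT', hgT⟩ := six_mem X hΦ hm hg
    obtain ⟨l, hl, hl'⟩ := Nat.exists_prime_and_dvd
      (show Nat.card T' ≠ 1 by have := six_seven X hΦ hm hT'; omega)
    obtain ⟨k, hk⟩ := six_common X hΦ hm hT' hT hl hl' (hcard ▸ six_prime_dvd X hΦ hm hT' hl hl')
    subst hk
    obtain ⟨a, ha, rfl⟩ := hgT
    exact ⟨k, by simpa [mul_assoc] using ha, fun e => hg.1 <| by
      have : a = 1 := by simpa [mul_assoc] using e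
      rw [this, map_one]⟩
  have hR := (counts X hΦ hm).2.2.2.2
  rw [hset] at hR
  obtain ⟨hb, h27⟩ := size_bound X hΦ hm
  have hD : (qq : ℤ) ^ 3 * ((qq : ℤ) ^ 2 - 1) ≠ 0 := by
    refine mul_ne_zero (pow_ne_zero 3 (by omega)) ?_
    nlinarith
  have key : (w : ℤ) * (2 * ((qq : ℤ) ^ 2 - qq + 1) - 2 * qq - 2) =
      6 * (((qq : ℤ) ^ 2 - qq + 1) - 1) := mul_left_cancel₀ hD (by
    push_cast at hx
    linear_combination 6 * hx - (w : ℤ) * hR)
  interval_cases w <;> push_cast at key <;> linarith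

theorem three_bound (hm : 1 ≤ m) {T1 T2 T3 : Subgroup GG} (h1 : IsSix T1) (h2 : IsSix T2)
    (h3 : IsSix T3) (d12 : Nat.card T1 ≠ Nat.card T2) (d13 : Nat.card T1 ≠ Nat.card T3)
    (d23 : Nat.card T2 ≠ Nat.card T3) : False := by
  have hdis1 := six_disjoint X hΦ hm h1 h2 d12
  have hdis2 := six_disjoint X hΦ hm h1 h3 d13
  have hdis3 := six_disjoint X hΦ hm h2 h3 d23
  have hle : (cset (regSix T1)).ncard + (cset (regSix T2)).ncard + (cset (regSix T3)).ncard ≤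
      (sixSet K m).ncard := by
    rw [← Set.ncard_union_eq hdis1, ← Set.ncard_union_eq (Set.disjoint_union_left.2 ⟨hdis2, hdis3⟩)]
    exact Set.ncard_le_ncard (Set.union_subset (Set.union_subset (regSix_subset X hΦ hm h1)
      (regSix_subset X hΦ hm h2)) (regSix_subset X hΦ hm h3))
  have hR := (counts X hΦ hm).2.2.2.2
  obtain ⟨hb, h27⟩ := size_bound X hΦ hm
  have hD : 0 < (qq : ℤ) ^ 3 * ((qq : ℤ) ^ 2 - 1) := mul_pos (by positivity) (by nlinarith)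
  have low : ∀ {T : Subgroup GG}, IsSix T →
      (qq : ℤ) ^ 3 * ((qq : ℤ) ^ 2 - 1) * (6 * ((qq : ℤ) ^ 2 - qq + 1)) ≤
        42 * ((cset (regSix T)).ncard : ℤ) := by
    intro T hT
    obtain ⟨w, u, hw1, hw6, -, hu, hx⟩ := six_share X hΦ hm hT
    have h7 : 7 * u ≤ qq ^ 2 - qq + 1 := by
      rw [hu]; exact Nat.mul_le_mul_right u (six_seven X hΦ hm hT)
    have h7' : 7 * (u : ℤ) ≤ (qq : ℤ) ^ 2 - qq + 1 := by
      rw [← six_size X hΦ]; exact_mod_cast h7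
    have hx6 : ((cset (regSix T)).ncard : ℤ) * w ≤ ((cset (regSix T)).ncard : ℤ) * 6 :=
      mul_le_mul_of_nonneg_left (by exact_mod_cast hw6) (by positivity)
    have h9 := mul_le_mul_of_nonneg_left h7' hD.le
    linear_combination 7 * hx6 + h9 - 7 * hx
  have l1 := low h1
  have l2 := low h2
  have l3 := low h3
  have hle' : ((cset (regSix T1)).ncard : ℤ) + (cset (regSix T2)).ncard + (cset (regSix T3)).ncard ≤
      (sixSet K m).ncard := by exact_mod_cast hle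
  have : (qq : ℤ) ^ 3 * ((qq : ℤ) ^ 2 - 1) * (18 * ((qq : ℤ) ^ 2 - qq + 1)) ≤
      (qq : ℤ) ^ 3 * ((qq : ℤ) ^ 2 - 1) * (7 * (2 * ((qq : ℤ) ^ 2 - qq + 1) - 2 * qq - 2)) := by
    linear_combination l1 + l2 + l3 + 42 * hle' + 7 * hR
  have := le_of_mul_le_mul_left this hD
  linarith

theorem coprime_six (hm : 1 ≤ m) (h : IsSix T) (h' : IsSix T') (hne : Nat.card T ≠ Nat.card T') :
    Nat.Coprime (Nat.card T) (Nat.card T') :=
  Nat.coprime_of_dvd fun l hl hd hd' => by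
    obtain ⟨k, hk⟩ := six_common X hΦ hm h h' hl hd hd'
    exact hne (by rw [hk, card_map_conj X hΦ])

/-- The two classes of tori. -/
theorem exists_tori (hm : 1 ≤ m) : ∃ Ta Tb : Subgroup GG, IsSix Ta ∧ IsSix Tb ∧
    Nat.card Ta = qq - 3 ^ (m + 1) + 1 ∧ Nat.card Tb = qq + 3 ^ (m + 1) + 1 ∧
    Nat.card (Subgroup.normalizer (Ta : Set GG)) = 6 * Nat.card Ta ∧
    Nat.card (Subgroup.normalizer (Tb : Set GG)) = 6 * Nat.card Tb ∧
    sixSet K m = cset (regSix Ta) ∪ cset (regSix Tb) := by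
  classical
  obtain ⟨hb, h27⟩ := size_bound X hΦ hm
  obtain ⟨l1, hl1, hl1'⟩ := Nat.exists_prime_and_dvd (show qq ^ 2 - qq + 1 ≠ 1 by
    have : ((qq ^ 2 - qq + 1 : ℕ) : ℤ) ≠ 1 := by rw [six_size X hΦ]; linarith
    exact_mod_cast this)
  obtain ⟨T1, h1, hd1⟩ := exists_six X hΦ hl1 hl1'
  obtain ⟨w1, u1, hw1, hw1', hN1, hu1, hx1⟩ := six_share X hΦ hm h1
  have hu1ne : u1 ≠ 1 := fun e => no_cover X hΦ hm h1 (by rw [hu1, e, mul_one])
  obtain ⟨l2, hl2, hl2'⟩ := Nat.exists_prime_and_dvd hu1ne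
  obtain ⟨T2, h2, hd2⟩ := exists_six X hΦ hl2 (hu1 ▸ dvd_mul_of_dvd_right hl2' _)
  have hne12 : Nat.card T1 ≠ Nat.card T2 := fun e => by
    have hd : l2 ∣ Nat.card T1 := e ▸ hd2
    have := six_factorization X hΦ hm h1 hl2 hd
    rw [hu1, Nat.factorization_mul Nat.card_pos.ne' (fun e => by simp [e] at hu1)] at this
    simp only [Finsupp.add_apply] at this
    have h' := Nat.Prime.factorization_pos_of_dvd hl2 (fun e => by simp [e] at hu1) hl2'
    omega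
  obtain ⟨v, hv⟩ := (coprime_six X hΦ hm h1 h2 hne12).mul_dvd_of_dvd_of_dvd
    (six_card_dvd X hΦ hm h1) (six_card_dvd X hΦ hm h2)
  have hv1 : v = 1 := by
    by_contra hv1
    obtain ⟨l3, hl3, hl3'⟩ := Nat.exists_prime_and_dvd hv1
    obtain ⟨T3, h3, hd3⟩ := exists_six X hΦ hl3 (hv ▸ dvd_mul_of_dvd_right hl3' _)
    have hv0 : v ≠ 0 := fun e => by simp [e] at hv
    have hfac : ∀ {T : Subgroup GG}, IsSix T → Nat.card T ∣ Nat.card T1 * Nat.card T2 →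
        ¬ l3 ∣ Nat.card T := fun {T} hT hdT hd => by
      have := six_factorization X hΦ hm hT hl3 hd
      rw [hv, Nat.factorization_mul (mul_ne_zero Nat.card_pos.ne' Nat.card_pos.ne') hv0] at this
      simp only [Finsupp.add_apply] at this
      have h' := Nat.Prime.factorization_pos_of_dvd hl3 hv0 hl3'
      have h'' := (Nat.factorization_le_iff_dvd Nat.card_pos.ne'
        (mul_ne_zero Nat.card_pos.ne' Nat.card_pos.ne')).2 hdT l3
      omega
    exact three_bound X hΦ hm h1 h2 h3 hne12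
      (fun e => hfac h1 (Nat.dvd_mul_right _ _) (e ▸ hd3))
      (fun e => hfac h2 (Nat.dvd_mul_left _ _) (e ▸ hd3))
  subst hv1
  rw [mul_one] at hv
  have hset : sixSet K m = cset (regSix T1) ∪ cset (regSix T2) := by
    refine Set.Subset.antisymm (fun g hg => ?_)
      (Set.union_subset (regSix_subset X hΦ hm h1) (regSix_subset X hΦ hm h2))
    obtain ⟨T', hT', hgT⟩ := six_mem X hΦ hm hg
    obtain ⟨l, hl, hl'⟩ := Nat.exists_prime_and_dvd
      (show Nat.card T' ≠ 1 by have := six_seven X hΦ hm hT'; omega)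
    have key : ∀ {T : Subgroup GG}, IsSix T → l ∣ Nat.card T → g ∈ cset (regSix T) := by
      intro T hT hlT
      obtain ⟨k, hk⟩ := six_common X hΦ hm hT' hT hl hl' hlT
      subst hk
      obtain ⟨a, ha, rfl⟩ := hgT
      exact ⟨k, by simpa [mul_assoc] using ha, fun e => hg.1 <| by
        have : a = 1 := by simpa [mul_assoc] using e
        rw [this, map_one]⟩
    rcases hl.dvd_mul.1 (hv ▸ six_prime_dvd X hΦ hm hT' hl hl') with h | h
    · exact Or.inl (key h1 h)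
    · exact Or.inr (key h2 h)
  obtain ⟨w2, u2, hw2, hw2', hN2, hu2, hx2⟩ := six_share X hΦ hm h2
  have hR := (counts X hΦ hm).2.2.2.2
  rw [hset, Set.ncard_union_eq (six_disjoint X hΦ hm h1 h2 hne12)] at hR
  push_cast at hR
  have eu1 : u1 = Nat.card T2 := Nat.eq_of_mul_eq_mul_left Nat.card_pos (hu1.symm.trans hv)
  have eu2 : u2 = Nat.card T1 := Nat.eq_of_mul_eq_mul_left Nat.card_pos
    (hu2.symm.trans (hv.trans (mul_comm _ _)))
  rw [eu1] at hx1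
  rw [eu2] at hx2
  obtain ⟨t1, ht1⟩ : ∃ t : ℤ, t = (Nat.card T1 : ℤ) := ⟨_, rfl⟩
  obtain ⟨t2, ht2⟩ : ∃ t : ℤ, t = (Nat.card T2 : ℤ) := ⟨_, rfl⟩
  rw [← ht1] at hx2
  rw [← ht2] at hx1
  have hs1 : (7 : ℤ) ≤ t1 := by rw [ht1]; exact_mod_cast six_seven X hΦ hm h1
  have hs2 : (7 : ℤ) ≤ t2 := by rw [ht2]; exact_mod_cast six_seven X hΦ hm h2
  have hprod : t1 * t2 = (qq : ℤ) ^ 2 - qq + 1 := by
    rw [← six_size X hΦ, hv, ht1, ht2, Nat.cast_mul]
  have hD : 0 < (qq : ℤ) ^ 3 * ((qq : ℤ) ^ 2 - 1) := mul_pos (by positivity) (by nlinarith)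
  have hsum7 : 7 * (t1 + t2) ≤ (qq : ℤ) ^ 2 - qq + 1 + 49 := by
    linear_combination (mul_nonneg (sub_nonneg.2 hs1) (sub_nonneg.2 hs2)) + hprod
  have hbad : ∀ (a b : ℕ) (x y s t : ℤ), a ≤ 5 → b ≤ 6 → 0 ≤ x → 0 ≤ y →
      x * a = (qq : ℤ) ^ 3 * ((qq : ℤ) ^ 2 - 1) * (((qq : ℤ) ^ 2 - qq + 1) - s) →
      y * b = (qq : ℤ) ^ 3 * ((qq : ℤ) ^ 2 - 1) * (((qq : ℤ) ^ 2 - qq + 1) - t) →
      x + y = ((cset (regSix T1)).ncard : ℤ) + (cset (regSix T2)).ncard →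
      7 ≤ s → 7 ≤ t → s + t = t1 + t2 → False := by
    intro a b x y s t ha hb' hx0 hy0 hxa hyb hxy hs ht hst
    have hx5 : x * a ≤ x * 5 := mul_le_mul_of_nonneg_left (by exact_mod_cast ha) hx0
    have hy6 : y * b ≤ y * 6 := mul_le_mul_of_nonneg_left (by exact_mod_cast hb') hy0
    have h30 : (qq : ℤ) ^ 3 * ((qq : ℤ) ^ 2 - 1) *
        (11 * ((qq : ℤ) ^ 2 - qq + 1) - 6 * s - 5 * t) ≤
        (qq : ℤ) ^ 3 * ((qq : ℤ) ^ 2 - 1) *
          (5 * (2 * ((qq : ℤ) ^ 2 - qq + 1) - 2 * qq - 2)) := by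
      linear_combination 6 * hx5 + 5 * hy6 + 5 * hR + 30 * hxy - 6 * hxa - 5 * hyb
    have := le_of_mul_le_mul_left h30 hD
    linarith
  have hw1e : w1 = 6 := by
    by_contra hne
    exact hbad w1 w2 _ _ t2 t1 (by omega) hw2' (by positivity) (by positivity) hx1 hx2 rfl hs2 hs1
      (add_comm _ _)
  have hw2e : w2 = 6 := by
    by_contra hne
    exact hbad w2 w1 _ _ t1 t2 (by omega) hw1' (by positivity) (by positivity) hx2 hx1
      (add_comm _ _) hs1 hs2 rfl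
  subst hw1e hw2e
  push_cast at hx1 hx2
  have hsum : t1 + t2 = 2 * (qq : ℤ) + 2 := mul_left_cancel₀ hD.ne' (by
    linear_combination hx1 + hx2 - hR)
  obtain ⟨r, hr⟩ : ∃ r : ℕ, r = 3 ^ (m + 1) := ⟨_, rfl⟩
  have hrq : r ≤ qq := by
    rw [hr, hK]; exact Nat.pow_le_pow_right (by norm_num) (by omega)
  have hr2 : (r : ℤ) * r = 3 * (qq : ℤ) := by
    exact_mod_cast (show r * r = 3 * qq by
      rw [hr, hK, ← pow_add, show m + 1 + (m + 1) = 2 * m + 1 + 1 by omega, pow_succ, mul_comm])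
  rw [← hr]
  have hroot : (t1 - ((qq : ℤ) - r + 1)) * (t1 - ((qq : ℤ) + r + 1)) = 0 := by
    linear_combination t1 * hsum - hprod - hr2
  have ha : ((qq - r + 1 : ℕ) : ℤ) = (qq : ℤ) - r + 1 := by push_cast [Nat.cast_sub hrq]; ring
  have hb' : ((qq + r + 1 : ℕ) : ℤ) = (qq : ℤ) + r + 1 := by push_cast; ring
  rcases mul_eq_zero.1 hroot with e | e
  · exact ⟨T1, T2, h1, h2, by exact_mod_cast (show (Nat.card T1 : ℤ) = ((qq - r + 1 : ℕ) : ℤ) by
      rw [ha, ← ht1]; linarith), by exact_mod_cast (show (Nat.card T2 : ℤ) = ((qq + r + 1 : ℕ) : ℤ) by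
      rw [hb', ← ht2]; linarith), hN1, hN2, hset⟩
  · exact ⟨T2, T1, h2, h1, by exact_mod_cast (show (Nat.card T2 : ℤ) = ((qq - r + 1 : ℕ) : ℤ) by
      rw [ha, ← ht2]; linarith), by exact_mod_cast (show (Nat.card T1 : ℤ) = ((qq + r + 1 : ℕ) : ℤ) by
      rw [hb', ← ht1]; linarith), hN2, hN1, hset.trans (Set.union_comm _ _)⟩

end Cfsg.Agent.Ree
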