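import Cfsg.Agent.Lib.Ree.Sorting

/-!
The numbers of elements in the parts of the sorting of the small Ree groups, and the resulting two
classes of tori of orders `q ∓ 3^(m+1) + 1`.
-/

set_option autoImplicit false
set_option linter.unusedSectionVars false
set_option linter.style.haveILetI false

open scoped Matrix Pointwise MatrixGroups

namespace Cfsg.Agent.Ree

open Cfsg.Lie Cfsg.Agent.Chevalley Cfsg.Agent.Chevalley.Cert Cfsg.Agent.Chevalley.Group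
  Cfsg.Agent.Chevalley.Twist Cfsg.Agent.Chevalley.Twist.G2 Cfsg.Agent.Chevalley.SL2

variable {K : Type*} [Field K] [Fintype K] [CharP K 3] {m : ℕ}

local notation "GG" => twistedG2 K (3 ^ m)
local notation "qq" => Fintype.card K

/-- The elements all of whose prime divisors of the order divide `q² - q + 1`. -/
def sixSet (K : Type*) [Field K] [Fintype K] (m : ℕ) : Set ↥(twistedG2 K (3 ^ m)) :=
  {g | g ≠ 1 ∧ ∀ l : ℕ, l.Prime → l ∣ orderOf g → l ∣ Fintype.card K ^ 2 - Fintype.card K + 1}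

variable {hK : Fintype.card K = 3 ^ (2 * m + 1)} (X : Setup (K := K) hK)
variable {Φ : SL(2, K) →* ↥(twistedG2 K (3 ^ m))} (hΦ : IsEmbed X Φ)
include hΦ

/-- The regular elements of the split torus. -/
abbrev regH (_hΦ : IsEmbed X Φ) : Set GG :=
  torusHom X '' {y | y ^ 2 ≠ 1}

/-- The regular elements of the torus of order `q + 1`. -/
abbrev regT (_hΦ : IsEmbed X Φ) : Set GG :=
  {g | g ∈ T0 X Φ ∧ g * g ≠ 1}

theorem cset_invol (hm : 1 ≤ m) : cset ({torusHom X (-1)} : Set GG) = {g | orderOf g = 2} := by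
  haveI : Fact (Nat.Prime 2) := ⟨Nat.prime_two⟩
  have hj : orderOf (torusHom X (-1)) = 2 := orderOf_eq_prime (by rw [sq, j_sq X hΦ]) fun e =>
    phi_ne_j X hΦ 1 (by rw [map_one]; exact e.symm)
  ext g
  constructor
  · rintro ⟨k, hk⟩
    rw [Set.mem_singleton_iff] at hk
    show orderOf g = 2
    rw [← orderOf_conj X k g, hk, hj]
  · intro hg
    have hg' : orderOf g = 2 := hg
    obtain ⟨k, rfl⟩ := involution_conj X hΦ hm (s := g) (fun e => by rw [e, orderOf_one] at hg'; norm_num at hg')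
      (by rw [← sq, ← hg', pow_orderOf_eq_one])
    exact ⟨k, by rw [Set.mem_singleton_iff]; group⟩

theorem ncard_invol (hm : 1 ≤ m) :
    {g : GG | orderOf g = 2}.ncard * (qq * ((qq - 1) * (qq + 1))) = Nat.card GG := by
  rw [← cset_invol X hΦ hm, ← card_centj X hΦ, ncard_cset _ _ ?_ ?_, Set.ncard_singleton, mul_one]
  · intro n hn x hx
    rw [Set.mem_singleton_iff] at hx ⊢
    rw [hx, Subgroup.mem_centralizer_singleton_iff.1 hn, mul_inv_cancel_right]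
  · intro g x hx hgx
    rw [Set.mem_singleton_iff] at hx hgx
    subst hx
    exact Subgroup.mem_centralizer_singleton_iff.2 (mul_inv_eq_iff_eq_mul.1 hgx)

theorem ncard_regH : (regH X hΦ).ncard = qq - 3 := by
  classical
  have hset : {y : Kˣ | y ^ 2 ≠ 1} = ({1, -1} : Set Kˣ)ᶜ := by
    ext y
    simp only [Set.mem_setOf_eq, Set.mem_compl_iff, Set.mem_insert_iff, Set.mem_singleton_iff]
    refine not_congr ⟨fun h => ?_, ?_⟩
    · rcases sq_eq_one_iff.1 (show (y : K) ^ 2 = 1 by rw [← Units.val_pow_eq_pow_val, h, Units.val_one])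
        with e | e
      · exact Or.inl (Units.ext e)
      · exact Or.inr (Units.ext (by rw [e]; simp))
    · rintro (rfl | rfl) <;> simp
  have hne : (1 : Kˣ) ≠ -1 := fun e => neg_one_ne_one (K := K) (congrArg Units.val e).symm
  rw [regH, Set.ncard_image_of_injective _ (torusHom_injective X), hset, Set.ncard_compl,
    Set.ncard_pair hne, Nat.card_units, Nat.card_eq_fintype_card]
  omega

theorem cset_H (hm : 1 ≤ m) :
    (cset (regH X hΦ)).ncard * (2 * (qq - 1)) = Nat.card GG * (qq - 3) := by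
  rw [← card_NH X hΦ hm, ncard_cset _ _ ?_ ?_, ncard_regH X hΦ]
  · rintro n hn _ ⟨y, hy, rfl⟩
    obtain ⟨y', e, rfl | rfl⟩ := hn y
    · exact ⟨_, hy, e.symm⟩
    · exact ⟨_, by simpa using hy, e.symm⟩
  · rintro g _ ⟨y, hy, rfl⟩ ⟨y', -, e⟩
    rw [mem_NH X hΦ hm]
    rcases tor_conj_cases X hΦ hm hy e.symm with ⟨z, hz, -⟩ | ⟨z, hz, -⟩
    · exact ⟨z, Or.inl hz⟩
    · exact ⟨z, Or.inr hz⟩

theorem ncard_T0_invol : {g : GG | g ∈ T0 X Φ ∧ g * g = 1}.ncard = 4 := by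
  classical
  have hset : {g : GG | g ∈ T0 X Φ ∧ g * g = 1} =
      elt X Φ '' ((Set.univ : Set Bool) ×ˢ ({0, 1} : Set (Fin 4))) := by
    ext g
    constructor
    · rintro ⟨h, h2⟩
      obtain ⟨b, i, hi, rfl⟩ := T0_involutions X hΦ h h2
      exact ⟨(b, i), ⟨Set.mem_univ _, by simpa using hi⟩, rfl⟩
    · rintro ⟨⟨b, i⟩, ⟨-, hi⟩, rfl⟩
      refine ⟨?_, elt_sq X hΦ _⟩
      rw [elt]
      refine mul_mem ?_ ?_
      · cases b
        · exact one_mem _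
        · exact j_mem_T0 X hΦ
      · rcases hi with rfl | rfl
        · rw [show Φ (qv 0) = 1 from map_one Φ]; exact one_mem _
        · exact (mem_T0 X hΦ).2 ⟨sw, sw_mem_T1 X, Or.inl rfl⟩
  rw [hset, Set.ncard_image_of_injective _ (elt_injective X hΦ), Set.ncard_prod, Set.ncard_univ,
    Set.ncard_pair (by decide), Nat.card_eq_fintype_card, Fintype.card_bool]

theorem ncard_regT : (regT X hΦ).ncard = qq - 3 := by
  have h : regT X hΦ = (T0 X Φ : Set GG) \ {g | g ∈ T0 X Φ ∧ g * g = 1} := by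
    ext g
    simp only [regT, Set.mem_setOf_eq, Set.mem_sdiff, SetLike.mem_coe]
    tauto
  rw [h, Set.ncard_sdiff (fun g hg => hg.1), ncard_T0_invol X hΦ, ← Nat.card_coe_set_eq]
  rw [show Nat.card ((T0 X Φ : Set GG) : Set GG) = qq + 1 from card_T0 X hΦ]
  omega

theorem cset_T (hm : 1 ≤ m) :
    (cset (regT X hΦ)).ncard * (6 * (qq + 1)) = Nat.card GG * (qq - 3) := by
  rw [← card_N0 X hΦ hm, ncard_cset _ _ ?_ ?_, ncard_regT X hΦ]
  · rintro n hn x ⟨hx, hx2⟩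
    exact ⟨(Subgroup.mem_normalizer_iff.1 hn x).1 hx, fun e => hx2 (by
      calc x * x = n⁻¹ * ((n * x * n⁻¹) * (n * x * n⁻¹)) * n := by group
        _ = 1 := by rw [e]; group)⟩
  · rintro g x ⟨hx, hx2⟩ ⟨hgx, hgx2⟩
    exact conj_T0_eq X hΦ (cent_T0_reg X hΦ hm hx hx2) (cent_T0_reg X hΦ hm hgx hgx2)

theorem regH_order {g : GG} (hg : g ∈ cset (regH X hΦ)) : orderOf g ∣ qq - 1 ∧ g * g ≠ 1 := by
  obtain ⟨k, y, hy, e⟩ := hg
  refine ⟨?_, fun h => hy (torusHom_injective X ?_)⟩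
  · rw [← orderOf_conj X k g, ← e, orderOf_injective _ (torusHom_injective X)]
    have := orderOf_dvd_natCard y
    rwa [Nat.card_units, Nat.card_eq_fintype_card] at this
  · rw [map_pow, map_one, e, sq, show k⁻¹ * g * k * (k⁻¹ * g * k) = k⁻¹ * (g * g) * k by group, h]
    group

theorem regT_order {g : GG} (hg : g ∈ cset (regT X hΦ)) : orderOf g ∣ (qq + 1) / 2 ∧ g * g ≠ 1 := by
  obtain ⟨k, hk, hk2⟩ := hg
  refine ⟨?_, fun h => hk2 ?_⟩
  · rw [← orderOf_conj X k g]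
    exact orderOf_dvd_of_pow_eq_one (pow_card_A0 X hΦ hk)
  · rw [show k⁻¹ * g * k * (k⁻¹ * g * k) = k⁻¹ * (g * g) * k by group, h]
    group

theorem sort_all (hm : 1 ≤ m) (g : GG) :
    orderOf g = 1 ∨ orderOf g = 2 ∨ orderOf g = 3 ∨ orderOf g = 6 ∨ orderOf g = 9 ∨
      g ∈ cset (regH X hΦ) ∨ g ∈ cset (regT X hΦ) ∨ g ∈ sixSet K m := by
  by_cases h1 : g = 1
  · exact Or.inl (by rw [h1, orderOf_one])
  by_cases h3 : 3 ∣ orderOf g
  · obtain ⟨-, -, h | h | h⟩ := three_sing X h3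
    · exact Or.inr (Or.inr (Or.inl h))
    · exact Or.inr (Or.inr (Or.inr (Or.inl h)))
    · exact Or.inr (Or.inr (Or.inr (Or.inr (Or.inl h))))
  by_cases h2 : g * g = 1
  · haveI : Fact (Nat.Prime 2) := ⟨Nat.prime_two⟩
    exact Or.inr (Or.inl (orderOf_eq_prime (by rw [sq, h2]) h1))
  right; right; right; right; right
  rcases classify X hΦ hm h2 h3 with ⟨k, y, hy, e⟩ | ⟨k, hk⟩ | h
  · exact Or.inl ⟨k, y, hy, e.symm⟩
  · exact Or.inr (Or.inl ⟨k, hk⟩)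
  · exact Or.inr (Or.inr ⟨h1, h⟩)

theorem not_dvd_six {g : GG} (hg : g ∈ sixSet K m) :
    ¬ 2 ∣ orderOf g ∧ ¬ 3 ∣ orderOf g ∧ 1 < orderOf g :=
  ⟨fun h => absurd (six_sep X Nat.prime_two (hg.2 2 Nat.prime_two h)).1 (by norm_num),
    fun h => absurd (six_sep X Nat.prime_three (hg.2 3 Nat.prime_three h)).1 (by norm_num),
    Nat.lt_of_le_of_ne (orderOf_pos g) fun e => hg.1 (orderOf_eq_one_iff.1 e.symm)⟩

theorem regH_not_small {g : GG} (hg : g ∈ cset (regH X hΦ)) :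
    orderOf g ≠ 1 ∧ orderOf g ≠ 2 ∧ ¬ 3 ∣ orderOf g := by
  obtain ⟨hd, h2⟩ := regH_order X hΦ hg
  refine ⟨fun e => h2 ?_, fun e => h2 ?_, fun h => three_not_dvd_pred X (h.trans hd)⟩
  · rw [orderOf_eq_one_iff.1 e, mul_one]
  · rw [← sq, ← e, pow_orderOf_eq_one]

theorem regT_not_small {g : GG} (hg : g ∈ cset (regT X hΦ)) :
    orderOf g ≠ 1 ∧ orderOf g ≠ 2 ∧ ¬ 3 ∣ orderOf g := by
  obtain ⟨hd, h2⟩ := regT_order X hΦ hg
  obtain ⟨c, hc⟩ := three_dvd_q X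
  refine ⟨fun e => h2 ?_, fun e => h2 ?_, fun h => ?_⟩
  · rw [orderOf_eq_one_iff.1 e, mul_one]
  · rw [← sq, ← e, pow_orderOf_eq_one]
  · obtain ⟨c', hc'⟩ := q_form X
    have h4 := h.trans (hd.trans (Nat.div_dvd_of_dvd (show 2 ∣ qq + 1 by omega)))
    omega

theorem regH_regT {g : GG} (h : g ∈ cset (regH X hΦ)) : g ∉ cset (regT X hΦ) := fun h' => by
  obtain ⟨hd, h2⟩ := regH_order X hΦ h
  obtain ⟨hd', -⟩ := regT_order X hΦ h'
  obtain ⟨c', hc'⟩ := q_form X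
  have h4 := Nat.dvd_sub (hd'.trans (Nat.div_dvd_of_dvd (show 2 ∣ qq + 1 by omega))) hd
  rw [show qq + 1 - (qq - 1) = 2 by omega] at h4
  exact h2 (by rw [← sq]; exact orderOf_dvd_iff_pow_eq_one.1 h4)

theorem six_not_H {g : GG} (hg : g ∈ sixSet K m) : g ∉ cset (regH X hΦ) := fun h => by
  obtain ⟨hd, -⟩ := regH_order X hΦ h
  obtain ⟨l, hl, hlg⟩ := Nat.exists_prime_and_dvd (fun e => hg.1 (orderOf_eq_one_iff.1 e))
  exact (six_sep X hl (hg.2 l hl hlg)).2.2.1 (hlg.trans hd)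

theorem six_not_T {g : GG} (hg : g ∈ sixSet K m) : g ∉ cset (regT X hΦ) := fun h => by
  obtain ⟨hd, -⟩ := regT_order X hΦ h
  obtain ⟨l, hl, hlg⟩ := Nat.exists_prime_and_dvd (fun e => hg.1 (orderOf_eq_one_iff.1 e))
  obtain ⟨c', hc'⟩ := q_form X
  exact (six_sep X hl (hg.2 l hl hlg)).2.2.2
    (hlg.trans (hd.trans (Nat.div_dvd_of_dvd (show 2 ∣ qq + 1 by omega))))

theorem total (hm : 1 ≤ m) :
    Nat.card GG = 1 + {g : GG | orderOf g = 2}.ncard + {g : GG | orderOf g = 3}.ncard +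
      {g : GG | orderOf g = 6}.ncard + {g : GG | orderOf g = 9}.ncard +
      (cset (regH X hΦ)).ncard + (cset (regT X hΦ)).ncard + (sixSet K m).ncard := by
  classical
  have h1 : ({g : GG | orderOf g = 1}).ncard = 1 := by
    rw [show {g : GG | orderOf g = 1} = {1} by ext g; simp, Set.ncard_singleton]
  have hcover : (Set.univ : Set GG) = {g : GG | orderOf g = 1} ∪ {g | orderOf g = 2} ∪
      {g | orderOf g = 3} ∪ {g | orderOf g = 6} ∪ {g | orderOf g = 9} ∪ cset (regH X hΦ) ∪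
      cset (regT X hΦ) ∪ sixSet K m := by
    refine Set.ext fun g => iff_of_true trivial ?_
    simp only [Set.mem_union, Set.mem_setOf_eq]
    have := sort_all X hΦ hm g
    tauto
  rw [← Set.ncard_univ, hcover]
  repeat rw [Set.ncard_union_eq]
  · rw [h1]
  all_goals
    rw [Set.disjoint_left]
    intro g hg hg'
    simp only [Set.mem_union, Set.mem_setOf_eq] at hg hg'
  all_goals try omega
  · obtain ⟨e1, e2, e3⟩ := regH_not_small X hΦ hg'
    omega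
  · obtain ⟨e1, e2, e3⟩ := regT_not_small X hΦ hg'
    rcases hg with h | h
    · omega
    · exact regH_regT X hΦ h hg'
  · obtain ⟨e1, e2, e3⟩ := not_dvd_six X hΦ hg'
    rcases hg with (h | h) | h
    · omega
    · exact six_not_H X hΦ hg' h
    · exact six_not_T X hΦ hg' h

theorem counts (hm : 1 ≤ m) :
    (({g : GG | orderOf g = 2}.ncard : ℤ) = (qq : ℤ) ^ 2 * ((qq : ℤ) ^ 2 - qq + 1)) ∧
    (({g : GG | orderOf g = 3}.ncard : ℤ) = ((qq : ℤ) ^ 2 - 1) * ((qq : ℤ) ^ 3 + 1)) ∧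
    (({g : GG | orderOf g = 6}.ncard : ℤ) = (qq : ℤ) ^ 2 * ((qq : ℤ) - 1) * ((qq : ℤ) ^ 3 + 1)) ∧
    (({g : GG | orderOf g = 9}.ncard : ℤ) = (qq : ℤ) ^ 2 * ((qq : ℤ) - 1) * ((qq : ℤ) ^ 3 + 1)) ∧
    (6 * ((sixSet K m).ncard : ℤ) = (qq : ℤ) ^ 3 * ((qq : ℤ) ^ 2 - 1) *
      (2 * ((qq : ℤ) ^ 2 - qq + 1) - 2 * qq - 2)) := by
  have h27 := twenty_seven_le X hm
  obtain ⟨b3, b9, b6⟩ := ncard_borOrd X
  have e2 := ncard_invol X hΦ hm
  have e3 := ncard_cset_bor X (d := 3) (dvd_refl 3)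
  have e6 := ncard_cset_bor X (d := 6) (by norm_num)
  have e9 := ncard_cset_bor X (d := 9) (by norm_num)
  rw [cset_bor_eq X (dvd_refl 3), b3] at e3
  rw [cset_bor_eq X (show 3 ∣ 6 by norm_num), b6] at e6
  rw [cset_bor_eq X (show 3 ∣ 9 by norm_num), b9] at e9
  have eH := cset_H X hΦ hm
  have eT := cset_T X hΦ hm
  have hsum := total X hΦ hm
  rw [card_GG X] at e2 e3 e6 e9 eH eT hsum
  obtain ⟨n2, hn2⟩ : ∃ x, x = {g : GG | orderOf g = 2}.ncard := ⟨_, rfl⟩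
  obtain ⟨n3, hn3⟩ : ∃ x, x = {g : GG | orderOf g = 3}.ncard := ⟨_, rfl⟩
  obtain ⟨n6, hn6⟩ : ∃ x, x = {g : GG | orderOf g = 6}.ncard := ⟨_, rfl⟩
  obtain ⟨n9, hn9⟩ : ∃ x, x = {g : GG | orderOf g = 9}.ncard := ⟨_, rfl⟩
  rw [← hn2, ← hn3, ← hn6, ← hn9] at hsum ⊢
  rw [← hn2] at e2
  rw [← hn3] at e3
  rw [← hn6] at e6
  rw [← hn9] at e9
  have hsq : 1 ≤ qq ^ 2 := Nat.one_le_pow _ _ (by omega)
  zify [show 1 ≤ qq by omega, show 3 ≤ qq by omega, hsq] at e2 e3 e6 e9 eH eT hsum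
  obtain ⟨Q, hQ⟩ : ∃ Q : ℤ, Q = (qq : ℤ) := ⟨_, rfl⟩
  have hQ27 : (27 : ℤ) ≤ Q := by rw [hQ]; exact_mod_cast h27
  rw [← hQ] at e2 e3 e6 e9 eH eT hsum ⊢
  have hq1 : Q - 1 ≠ 0 := by omega
  have hp1 : Q + 1 ≠ 0 := by omega
  have hq0 : Q ≠ 0 := by omega
  have r2 := mul_right_cancel₀ (mul_ne_zero hq0 (mul_ne_zero hq1 hp1))
    (e2.trans (show _ = Q ^ 2 * (Q ^ 2 - Q + 1) * (Q * ((Q - 1) * (Q + 1))) by ring))
  have r3 := mul_right_cancel₀ (mul_ne_zero (pow_ne_zero 3 hq0) hq1)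
    (e3.trans (show _ = (Q ^ 2 - 1) * (Q ^ 3 + 1) * (Q ^ 3 * (Q - 1)) by ring))
  have r6 := mul_right_cancel₀ (mul_ne_zero (pow_ne_zero 3 hq0) hq1)
    (e6.trans (show _ = Q ^ 2 * (Q - 1) * (Q ^ 3 + 1) * (Q ^ 3 * (Q - 1)) by ring))
  have r9 := mul_right_cancel₀ (mul_ne_zero (pow_ne_zero 3 hq0) hq1)
    (e9.trans (show _ = Q ^ 2 * (Q - 1) * (Q ^ 3 + 1) * (Q ^ 3 * (Q - 1)) by ring))
  refine ⟨r2, r3, r6, r9, ?_⟩
  have rH : 2 * ((cset (regH X hΦ)).ncard : ℤ) = Q ^ 3 * (Q ^ 3 + 1) * (Q - 3) :=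
    mul_right_cancel₀ hq1 (by linear_combination eH)
  have rT : 6 * ((cset (regT X hΦ)).ncard : ℤ) = Q ^ 3 * (Q - 1) * (Q ^ 2 - Q + 1) * (Q - 3) :=
    mul_right_cancel₀ hp1 (by linear_combination eT)
  linear_combination -6 * hsum - 6 * r2 - 6 * r3 - 6 * r6 - 6 * r9 - 3 * rH - rT

end Cfsg.Agent.Ree
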