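import Mathlib.Analysis.Fourier.FiniteAbelian.PontryaginDuality
import Mathlib.NumberTheory.LegendreSymbol.AddCharacter
import Mathlib.LinearAlgebra.Trace
import Mathlib.LinearAlgebra.Determinant
import Mathlib.LinearAlgebra.LinearIndependent.Basic
import Cfsg.Agent.Lib.Ree.Borel
import Cfsg.Agent.Lib.Characters.Basic

/-!
The minimal degree of a nontrivial complex representation of the small Ree groups.
-/

set_option autoImplicit false
set_option linter.unusedSectionVars false

open scoped Matrix Pointwise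

namespace Cfsg.Agent.Ree

open Finset Module Cfsg.Lie Cfsg.Agent.Chevalley Cfsg.Agent.Chevalley.Cert
  Cfsg.Agent.Chevalley.Twist Cfsg.Agent.Chevalley.Twist.G2

section Eigen

variable {A : Type*} [AddCommGroup A] {V : Type*} [AddCommGroup V] [Module ℂ V]

/-- Common eigenvectors for distinct characters are linearly independent. -/
theorem linearIndependent_eigen {ι : Type*} [Fintype ι] (R : A → Module.End ℂ V)
    (χ : ι → AddChar A ℂ) (hχ : Function.Injective χ) (w : ι → V) (hw : ∀ i, w i ≠ 0)
    (h : ∀ i a, R a (w i) = χ i a • w i) : LinearIndependent ℂ w := by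
  refine Fintype.linearIndependent_iff.2 fun g hg i => ?_
  have h0 : g i • w i = 0 := by
    rw [← Module.forall_dual_apply_eq_zero_iff ℂ]
    intro φ
    have hli := (linearIndependent_monoidHom (Multiplicative A) ℂ).comp
      (fun i => (χ i).toMonoidHom) (fun i j e => hχ (DFunLike.ext _ _ fun a =>
        DFunLike.congr_fun e (Multiplicative.ofAdd a)))
    refine Fintype.linearIndependent_iff.1 hli (fun j => φ (g j • w j)) ?_ i
    funext a
    have h1 := congrArg φ (congrArg (R a.toAdd) hg)
    simp only [map_sum, map_smul, h, smul_eq_mul, map_zero] at h1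
    simp only [Finset.sum_apply, Pi.smul_apply, Function.comp_apply, smul_eq_mul, Pi.zero_apply,
      map_smul]
    refine Eq.trans (Finset.sum_congr rfl fun j _ => ?_) h1
    show g j * φ (w j) * χ j a.toAdd = _
    ring
  exact (smul_eq_zero.1 h0).resolve_right (hw i)

/-- The weighted average of the operators over a character. -/
noncomputable def weightProj [Fintype A] (R : A → Module.End ℂ V) (l : AddChar A ℂ) : Module.End ℂ V :=
  ∑ b : A, l (-b) • R b

theorem weightProj_eigen [Fintype A] (R : A → Module.End ℂ V) (hR : ∀ a b, R (a + b) = R a * R b)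
    (l : AddChar A ℂ) (v : V) (a : A) :
    R a (weightProj R l v) = l a • weightProj R l v := by
  simp only [weightProj, LinearMap.sum_apply, LinearMap.smul_apply, map_sum, map_smul, smul_sum]
  refine Fintype.sum_equiv (Equiv.addLeft a) _ _ fun b => ?_
  rw [Equiv.coe_addLeft, smul_smul, hR, Module.End.mul_apply]
  congr 1
  rw [← AddChar.map_add_eq_mul, neg_add, add_neg_cancel_left]

theorem sum_weightProj [Fintype A] (R : A → Module.End ℂ V) (h0 : R 0 = 1) (v : V) :
    ∑ l : AddChar A ℂ, weightProj R l v = (Fintype.card A : ℂ) • v := by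
  classical
  simp only [weightProj, LinearMap.sum_apply, LinearMap.smul_apply]
  rw [sum_comm, sum_eq_single (0 : A)]
  · rw [← sum_smul, AddChar.sum_apply_eq_ite, if_pos neg_zero, h0, Module.End.one_apply]
  · intro b _ hb
    rw [← sum_smul, AddChar.sum_apply_eq_ite, if_neg (fun e => hb (neg_eq_zero.1 e)), zero_smul]
  · simp

theorem exists_weightProj_ne [Fintype A] (R : A → Module.End ℂ V) (h0 : R 0 = 1) {v : V}
    (hv : v ≠ 0) : ∃ l, weightProj R l v ≠ 0 := by
  by_contra hc
  push Not at hc
  have h := sum_weightProj R h0 v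
  rw [sum_eq_zero fun l _ => hc l] at h
  exact hv ((smul_eq_zero.1 h.symm).resolve_left (Nat.cast_ne_zero.2 Fintype.card_ne_zero))

/-- An involution with zero trace on a space of twice odd dimension has determinant `-1`. -/
theorem det_involution [FiniteDimensional ℂ V] (J : Module.End ℂ V) (hJ : ∀ v, J (J v) = v)
    (htr : LinearMap.trace ℂ V J = 0) {d : ℕ} (hd : finrank ℂ V = 2 * d) :
    LinearMap.det J = (-1) ^ d := by
  let P : Module.End ℂ V := (2 : ℂ)⁻¹ • (LinearMap.id - J)
  let W : Submodule ℂ V := LinearMap.ker (J + LinearMap.id)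
  have hW : ∀ v, v ∈ W ↔ J v = -v := fun v => by
    rw [LinearMap.mem_ker, LinearMap.add_apply, LinearMap.id_apply, add_eq_zero_iff_eq_neg]
  have hP : LinearMap.IsProj W P := by
    constructor
    · intro v
      rw [hW]
      simp only [P, LinearMap.smul_apply, LinearMap.sub_apply, LinearMap.id_apply, map_smul,
        map_sub, hJ]
      module
    · intro v hv
      rw [hW] at hv
      simp only [P, LinearMap.smul_apply, LinearMap.sub_apply, LinearMap.id_apply, hv]
      module
  have hfin : finrank ℂ W = d := by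
    have h := hP.trace
    simp only [P, map_smul, map_sub, LinearMap.trace_id, htr, sub_zero, hd, smul_eq_mul] at h
    have h2 : ((d : ℕ) : ℂ) = (finrank ℂ W : ℂ) := by
      rw [← h]; push_cast; ring
    exact (Nat.cast_injective h2).symm
  have hle : W ≤ W.comap J := fun v hv => by
    rw [Submodule.mem_comap, hW, hJ, (hW v).1 hv, neg_neg]
  rw [LinearMap.det_eq_det_mul_det W J hle]
  have h1 : J.restrict hle = (-1 : ℂ) • (LinearMap.id : W →ₗ[ℂ] W) := LinearMap.ext fun v => Subtype.ext (by
    rw [LinearMap.smul_apply, LinearMap.id_apply, Submodule.coe_smul, neg_one_smul]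
    exact (hW v.1).1 v.2)
  have h2 : W.mapQ W J hle = LinearMap.id := LinearMap.ext fun q => by
    obtain ⟨v, rfl⟩ := Submodule.Quotient.mk_surjective W q
    rw [Submodule.mapQ_apply, LinearMap.id_apply, Submodule.Quotient.eq, hW, map_sub, hJ, neg_sub]
  rw [h1, h2, LinearMap.det_id, mul_one, LinearMap.det_smul, LinearMap.det_id, mul_one, hfin]

end Eigen

variable {K : Type*} [Field K] [Fintype K] [CharP K 3] {m : ℕ}

local notation "GG" => twistedG2 K (3 ^ m)

variable {hK : Fintype.card K = 3 ^ (2 * m + 1)} (X : Setup (K := K) hK) {k : ℕ}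
variable (ρ : Representation ℂ ↥(twistedG2 K (3 ^ m)) (Fin k → ℂ))
include X

/-- The operators of the elements of order at most three in the standard Sylow subgroup. -/
noncomputable def opO (a : K × K) : Module.End ℂ (Fin k → ℂ) := ρ (uu X (0, a.1, a.2))

theorem opO_add (a b : K × K) : opO X ρ (a + b) = opO X ρ a * opO X ρ b := by
  rw [opO, opO, opO, ← map_mul, uu_mul, TT_zero]
  simp

theorem opO_zero : opO X ρ 0 = 1 := by
  rw [opO, Prod.fst_zero, Prod.snd_zero, uu_zero, map_one]

theorem rep_inv_ne (g : GG) {v : Fin k → ℂ} (hv : v ≠ 0) : ρ g v ≠ 0 := fun e => hv (by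
  have h := congrArg (ρ g⁻¹) e
  rwa [← Module.End.mul_apply, ← map_mul, inv_mul_cancel, map_one, Module.End.one_apply, map_zero] at h)

theorem faithful_of_irreducible (hm : 1 ≤ m) [ρ.IsIrreducible] (hk : 2 ≤ k) : Function.Injective ρ := by
  haveI := (Twist.G2.isSimple X hm).1
  let φ : GG →* (Module.End ℂ (Fin k → ℂ))ˣ := ρ.toHomUnits
  rcases φ.normal_ker.eq_bot_or_eq_top with h | h
  · rw [MonoidHom.ker_eq_bot_iff] at h
    intro g g' hg
    exact h (Units.ext hg)
  · exfalso
    have htriv : ∀ g, ρ g = 1 := fun g => by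
      have : g ∈ φ.ker := h ▸ Subgroup.mem_top g
      exact congrArg Units.val (MonoidHom.mem_ker.1 this)
    obtain ⟨-, hU⟩ := (Cfsg.Agent.Characters.isIrreducible_iff ρ).1 inferInstance
    let v : Fin k → ℂ := Pi.single ⟨0, by omega⟩ 1
    rcases hU (Submodule.span ℂ {v}) (fun g w hw => by rw [htriv]; exact hw) with h1 | h1
    · rw [Submodule.span_singleton_eq_bot] at h1
      exact one_ne_zero (by simpa [v] using congrFun h1 ⟨0, by omega⟩ : (1 : ℂ) = 0)
    · have h2 := finrank_span_le_card ({v} : Set (Fin k → ℂ)) (R := ℂ)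
      rw [h1, finrank_top, Module.finrank_fintype_fun_eq_card, Fintype.card_fin] at h2
      simp at h2
      omega

/-- The characters in the orbit of a weight. -/
noncomputable def orbitChar (Λ : AddChar (K × K) ℂ) (x : Kˣ) (t : K) : AddChar (K × K) ℂ where
  toFun a := Λ (a10 m x * a.1, (x : K) * a.2 - t * (a10 m x * a.1))
  map_zero_eq_one' := by
    simp only [Prod.fst_zero, Prod.snd_zero, mul_zero, sub_zero]
    exact Λ.map_zero_eq_one
  map_add_eq_mul' a b := by
    rw [← AddChar.map_add_eq_mul]
    congr 1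
    simp only [Prod.fst_add, Prod.snd_add, Prod.mk_add_mk, Prod.mk.injEq]
    constructor <;> ring

theorem orbit_eigen (Λ : AddChar (K × K) ℂ) {v : Fin k → ℂ} (hv : ∀ a, opO X ρ a v = Λ a • v)
    (x : Kˣ) (t : K) (a : K × K) :
    opO X ρ a (ρ ((torusHom X x)⁻¹ * uu X (t, 0, 0)) v) =
      orbitChar (m := m) Λ x t a • ρ ((torusHom X x)⁻¹ * uu X (t, 0, 0)) v := by
  obtain ⟨u, w⟩ := a
  have h2 : uu X (0, u, w) * ((torusHom X x)⁻¹ * uu X (t, 0, 0)) =
      ((torusHom X x)⁻¹ * uu X (t, 0, 0)) *
        uu X (0, a10 m x * u, (x : K) * w - t * (a10 m x * u)) := by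
    have e1 : uu X (0, a10 m x * u, (x : K) * w) * uu X (t, 0, 0) =
        uu X (t, 0, 0) * uu X (0, a10 m x * u, (x : K) * w - t * (a10 m x * u)) := by
      rw [uu_mul, uu_mul, TT_zero]
      congr 1
      simp
    rw [mul_assoc, ← e1, ← mul_assoc (torusHom X x)⁻¹, ← mul_assoc]
    congr 1
    rw [eq_inv_mul_iff_mul_eq, ← mul_assoc, mul_inv_eq_iff_eq_mul, ← mul_inv_eq_iff_eq_mul, tor_uu,
      mul_zero]
  show ρ (uu X (0, u, w)) _ = _
  rw [← Module.End.mul_apply, ← map_mul, h2, map_mul, Module.End.mul_apply]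
  have := hv (a10 m x * u, (x : K) * w - t * (a10 m x * u))
  rw [opO] at this
  rw [this, map_smul]
  rfl

theorem a10_ne (x : Kˣ) : a10 m x ≠ 0 := Units.ne_zero _

theorem min_degree (hm : 1 ≤ m) [ρ.IsIrreducible] (hk : 2 ≤ k) :
    (3 ^ (2 * m + 1)) ^ 2 - 3 ^ (2 * m + 1) + 1 ≤ k := by
  classical
  have hinj := faithful_of_irreducible X ρ hm hk
  -- a weight which is nontrivial on the centre
  obtain ⟨v₀, hv₀⟩ : ∃ v, ρ (uu X (0, 0, 1)) v ≠ v := by
    by_contra hc
    push Not at hc
    have e : ρ (uu X (0, 0, 1)) = ρ 1 := by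
      rw [map_one]
      exact LinearMap.ext hc
    have e' := hinj e
    rw [← uu_zero X] at e'
    exact one_ne_zero (uu_inj X e').2.2
  obtain ⟨Λ, hΛ1, hΛ⟩ : ∃ Λ : AddChar (K × K) ℂ, Λ (0, 1) ≠ 1 ∧
      ∃ v : Fin k → ℂ, v ≠ 0 ∧ ∀ a, opO X ρ a v = Λ a • v := by
    have hne : ρ (uu X (0, 0, 1)) v₀ - v₀ ≠ 0 := sub_ne_zero.2 hv₀
    obtain ⟨l, hl⟩ := exists_weightProj_ne (opO X ρ) (opO_zero X ρ) hne
    refine ⟨l, fun e => hl ?_, _, hl, fun a => weightProj_eigen _ (opO_add X ρ) l _ a⟩
    have hcomm : weightProj (opO X ρ) l (ρ (uu X (0, 0, 1)) v₀) =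
        ρ (uu X (0, 0, 1)) (weightProj (opO X ρ) l v₀) := by
      simp only [weightProj, LinearMap.sum_apply, LinearMap.smul_apply, map_sum, map_smul]
      refine sum_congr rfl fun b _ => ?_
      show _ • (opO X ρ b * opO X ρ (0, 1)) v₀ = _ • (opO X ρ (0, 1) * opO X ρ b) v₀
      rw [← opO_add, ← opO_add, add_comm]
    rw [map_sub, hcomm]
    have := weightProj_eigen _ (opO_add X ρ) l v₀ (0, 1)
    rw [opO] at this
    rw [this, e, one_smul, sub_self]
  obtain ⟨v, hv, hve⟩ := hΛ
  let ψ : AddChar K ℂ :=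
    { toFun := fun w => Λ (0, w)
      map_zero_eq_one' := Λ.map_zero_eq_one
      map_add_eq_mul' := fun a b => by rw [← AddChar.map_add_eq_mul]; simp }
  have hψ1 : ψ ≠ 1 := fun e => hΛ1 (DFunLike.congr_fun e (1 : K))
  have hψ := AddChar.IsPrimitive.of_ne_one hψ1
  have hshift := AddChar.to_mulShift_inj_of_isPrimitive hψ
  have horb0 : ∀ x t w, orbitChar (m := m) Λ x t (0, w) = ψ ((x : K) * w) := fun x t w => by
    show Λ (a10 m x * 0, (x : K) * w - t * (a10 m x * 0)) = Λ (0, (x : K) * w)
    simp
  have horbinj : Function.Injective (fun p : Kˣ × K => orbitChar (m := m) Λ p.1 p.2) := by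
    rintro ⟨x, t⟩ ⟨y, s⟩ e
    have hxy : x = y := Units.ext (hshift (DFunLike.ext _ _ fun w => by
      rw [AddChar.mulShift_apply, AddChar.mulShift_apply, ← horb0 x t, ← horb0 y s]
      exact DFunLike.congr_fun e (0, w)))
    subst hxy
    have hts : t = s := hshift (DFunLike.ext _ _ fun w => by
      rw [AddChar.mulShift_apply, AddChar.mulShift_apply]
      have h := DFunLike.congr_fun e (-((a10 m x)⁻¹ * w), 0)
      simp only [orbitChar, AddChar.coe_mk] at h
      have hsimp : ∀ r : K, ((a10 m x * -((a10 m x)⁻¹ * w), (x : K) * 0 -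
          r * (a10 m x * -((a10 m x)⁻¹ * w))) : K × K) = (-w, 0) + (0, r * w) := fun r => by
        rw [mul_neg, mul_inv_cancel_left₀ (a10_ne X x)]
        simp
      rw [hsimp, hsimp, AddChar.map_add_eq_mul, AddChar.map_add_eq_mul] at h
      exact mul_left_cancel₀ (AddChar.val_isUnit Λ _).ne_zero h)
    rw [hts]
  let w : Kˣ × K → (Fin k → ℂ) := fun p => ρ ((torusHom X p.1)⁻¹ * uu X (p.2, 0, 0)) v
  have hw : ∀ p, w p ≠ 0 := fun p => rep_inv_ne X ρ _ hv
  have hcard : Fintype.card (Kˣ × K) = (3 ^ (2 * m + 1)) ^ 2 - 3 ^ (2 * m + 1) := by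
    rw [Fintype.card_prod, Fintype.card_units, hK, sq, Nat.sub_mul, one_mul]
  by_cases hfix : ∃ u : Fin k → ℂ, u ≠ 0 ∧ ∀ z : K, ρ (uu X (0, 0, z)) u = u
  · -- one more weight, trivial on the centre
    obtain ⟨u, hu, hfu⟩ := hfix
    obtain ⟨l, hl⟩ := exists_weightProj_ne (opO X ρ) (opO_zero X ρ) hu
    have hl0 : ∀ z, l (0, z) = 1 := by
      intro z
      have h1 := weightProj_eigen _ (opO_add X ρ) l u (0, z)
      have h2 : opO X ρ (0, z) (weightProj (opO X ρ) l u) = weightProj (opO X ρ) l u := by
        simp only [weightProj, LinearMap.sum_apply, LinearMap.smul_apply, map_sum, map_smul]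
        refine sum_congr rfl fun b _ => ?_
        rw [← Module.End.mul_apply, ← opO_add, add_comm, opO_add, Module.End.mul_apply]
        congr 2
        exact hfu z
      rw [h2] at h1
      have h3 : (l (0, z) - 1) • weightProj (opO X ρ) l u = 0 := by
        rw [sub_smul, one_smul, ← h1, sub_self]
      exact sub_eq_zero.1 ((smul_eq_zero.1 h3).resolve_right hl)
    let χ : Option (Kˣ × K) → AddChar (K × K) ℂ := fun o => o.elim l fun p => orbitChar (m := m) Λ p.1 p.2
    have hχ : Function.Injective χ := by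
      have hne : ∀ p : Kˣ × K, orbitChar (m := m) Λ p.1 p.2 ≠ l := fun p e => hψ1 (DFunLike.ext _ _ fun z => by
        have h := DFunLike.congr_fun e (0, ((p.1⁻¹ : Kˣ) : K) * z)
        rw [horb0, hl0, Units.mul_inv_cancel_left] at h
        exact h)
      rintro (_ | p) (_ | q) e
      · rfl
      · exact absurd (Eq.symm e) (hne q)
      · exact absurd e (hne p)
      · exact congrArg some (horbinj e)
    have hli := linearIndependent_eigen (opO X ρ) χ hχ
      (fun o => o.elim (weightProj (opO X ρ) l u) w)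
      (by rintro (_ | p); exacts [hl, hw p])
      (by
        rintro (_ | p) a
        · exact weightProj_eigen _ (opO_add X ρ) l u a
        · exact orbit_eigen X ρ Λ hve p.1 p.2 a)
    have h := hli.fintype_card_le_finrank
    rwa [Fintype.card_option, hcard, Module.finrank_fintype_fun_eq_card, Fintype.card_fin] at h
  · push Not at hfix
    have hli := linearIndependent_eigen (opO X ρ) _ horbinj w hw
      (fun p a => orbit_eigen X ρ Λ hve p.1 p.2 a)
    have hle := hli.fintype_card_le_finrank
    rw [hcard, Module.finrank_fintype_fun_eq_card, Fintype.card_fin] at hle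
    by_contra hlt
    have hk' : k = (3 ^ (2 * m + 1)) ^ 2 - 3 ^ (2 * m + 1) := by omega
    -- the sum over the centre vanishes
    have hsum : ∑ z : K, ρ (uu X (0, 0, z)) = 0 := by
      apply LinearMap.ext
      intro u
      by_contra hne
      obtain ⟨z, hz⟩ := hfix _ hne
      refine hz ?_
      simp only [LinearMap.sum_apply, map_sum]
      refine Fintype.sum_equiv (Equiv.addLeft z) _ _ fun b => ?_
      rw [Equiv.coe_addLeft, ← Module.End.mul_apply, ← map_mul, uu_mul, TT_zero]
      simp
    -- the trace of the involution of the torus vanishes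
    let J := ρ (torusHom X (-1))
    have htr : LinearMap.trace ℂ (Fin k → ℂ) J = 0 := by
      have key : ∀ z : K, LinearMap.trace ℂ (Fin k → ℂ) (ρ (uu X (0, 0, -z)) * J) =
          LinearMap.trace ℂ (Fin k → ℂ) J := by
        intro z
        have e : uu X (0, 0, z) * torusHom X (-1) * (uu X (0, 0, z))⁻¹ =
            uu X (0, 0, -z) * torusHom X (-1) := by
          have e1 : torusHom X (-1) * uu X (0, 0, -z) = uu X (0, 0, z) * torusHom X (-1) := by
            rw [← mul_inv_eq_iff_eq_mul, tor_uu]
            simp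
          have e2 : (uu X (0, 0, z))⁻¹ = uu X (0, 0, -z) := by
            refine inv_eq_of_mul_eq_one_right ?_
            rw [uu_mul, TT_zero, ← uu_zero X]
            congr 1
            simp
          have e3 : uu X (0, 0, z) * uu X (0, 0, z) = uu X (0, 0, -z) := by
            rw [uu_mul, TT_zero]
            congr 1
            simp
            linear_combination z * three (K := K)
          rw [e2, mul_assoc, e1, ← mul_assoc, e3]
        rw [← map_mul ρ, ← e, map_mul ρ, LinearMap.trace_mul_comm, ← map_mul ρ, ← mul_assoc,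
          inv_mul_cancel, one_mul]
      have h1 : LinearMap.trace ℂ (Fin k → ℂ) ((∑ z : K, ρ (uu X (0, 0, -z))) * J) = 0 := by
        rw [Fintype.sum_equiv (Equiv.neg K) (fun z => ρ (uu X (0, 0, -z)))
          (fun z => ρ (uu X (0, 0, z))) (fun z => rfl), hsum, zero_mul, map_zero]
      rw [sum_mul, map_sum, sum_congr rfl fun z _ => key z, sum_const, card_univ, nsmul_eq_mul] at h1
      exact (mul_eq_zero.1 h1).resolve_left (Nat.cast_ne_zero.2 Fintype.card_ne_zero)
    have hJ2 : ∀ u, J (J u) = u := fun u => by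
      show ρ _ (ρ _ u) = u
      rw [← Module.End.mul_apply, ← map_mul, ← map_mul, neg_one_mul, neg_neg, map_one, map_one,
        Module.End.one_apply]
    obtain ⟨c, hc⟩ : ∃ c, 3 ^ (2 * m + 1) = 4 * c + 3 := by
      refine ⟨3 ^ (2 * m + 1) / 4, ?_⟩
      have : 3 ^ (2 * m + 1) % 4 = 3 := by
        rw [pow_succ, pow_mul, Nat.mul_mod, Nat.pow_mod]; norm_num
      omega
    have hd : k = 2 * ((4 * c + 3) * (2 * c + 1)) := by
      rw [hk', hc, sq, ← Nat.mul_sub_one, show 4 * c + 3 - 1 = 2 * (2 * c + 1) by omega]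
      ring
    have hdet := det_involution J hJ2 htr (d := (4 * c + 3) * (2 * c + 1))
      (by rw [Module.finrank_fintype_fun_eq_card, Fintype.card_fin]; exact hd)
    have hodd : Odd ((4 * c + 3) * (2 * c + 1)) := Odd.mul ⟨2 * c + 1, by ring⟩ ⟨c, rfl⟩
    rw [hodd.neg_one_pow] at hdet
    -- but the group is perfect
    let D : GG →* ℂˣ :=
      (LinearMap.det.comp ρ : GG →* ℂ).toHomUnits
    have hD : torusHom X (-1) ∈ D.ker := by
      refine Abelianization.commutator_subset_ker D ?_
      have : commutator GG = ⊤ := Twist.G2.perfect X hm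
      rw [this]
      exact Subgroup.mem_top _
    have h1 : LinearMap.det J = 1 := congrArg Units.val (MonoidHom.mem_ker.1 hD)
    rw [hdet] at h1
    norm_num at h1

end Cfsg.Agent.Ree
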