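import Cfsg.Agent.Lib.Ree.Borel
import Cfsg.Agent.Lib.Chevalley.SL2
import Mathlib.LinearAlgebra.Matrix.ProjectiveSpecialLinearGroup
import Mathlib.GroupTheory.NoncommCoprod

/-!
The centraliser of the standard involution of a small Ree group: the product of that involution
with the image of `SL₂` on a pair of orthogonal roots.
-/

set_option autoImplicit false
set_option linter.unusedSectionVars false

open scoped Matrix Pointwise MatrixGroups

namespace Cfsg.Agent.Ree

open Cfsg.Lie Cfsg.Agent.Chevalley Cfsg.Agent.Chevalley.Table Cfsg.Agent.Chevalley.Cert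
  Cfsg.Agent.Chevalley.Group Cfsg.Agent.Chevalley.Unip Cfsg.Agent.Chevalley.Borel
  Cfsg.Agent.Chevalley.Twist Cfsg.Agent.Chevalley.Twist.G2 Cfsg.Agent.Chevalley.SL2

variable {K : Type*} [Field K] [Fintype K] [CharP K 3] {m : ℕ}

local notation "GG" => twistedG2 K (3 ^ m)

/-- The diagonal element of `SL₂`. -/
def sd (a : K) : SL(2, K) := sx a * sy (-a⁻¹) * sx a * (sx (-1) * sy (-((-1 : K))⁻¹) * sx (-1))

theorem coe_sd {a : K} (ha : a ≠ 0) :
    (sd a : Matrix (Fin 2) (Fin 2) K) = !![a, 0; 0, a⁻¹] := by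
  ext i j
  fin_cases i <;> fin_cases j <;> simp [sd, Matrix.mul_apply, Fin.sum_univ_two, inv_neg] <;>
    field_simp <;> ring_nf <;> simp

theorem cartan_even : ∀ s ∈ [1, 3], (chevG2.cartan 0 s + chevG2.cartan 1 s) % 2 = 0 := by
  decide +kernel

theorem pair_cor : cor chevG2 8 0 + cor chevG2 10 0 = 2 ∧ cor chevG2 8 1 + cor chevG2 10 1 = 4 := by
  obtain ⟨h0, h0'⟩ := cor_ok 0 (by decide)
  obtain ⟨h1, h1'⟩ := cor_ok 1 (by decide)
  rw [h0, h0', h1, h1']
  decide

variable {hK : Fintype.card K = 3 ^ (2 * m + 1)} (X : Setup (K := K) hK)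
include X

/-- The properties of the embedding which are used. -/
structure IsEmbed (Φ : SL(2, K) →* ↥(twistedG2 K (3 ^ m))) : Prop where
  sx_eq : ∀ u, Φ (sx u) = uu X (0, u, 0)
  sd_tor : ∀ a : K, a ≠ 0 → ∃ y, Φ (sd a) = torusHom X y ∧ a10 m y = a ^ 2
  sy_neg : ∀ t, (Φ (sy t) : GL chevG2.Idx K) ∈ chevG2.negUnipotent K
  comm : ∀ A, Commute (torusHom X (-1)) (Φ A)
  neg_one : Φ (-1) = 1

theorem exists_embed : ∃ Φ, IsEmbed X Φ := by
  classical
  haveI : Fact (Nat.Prime 3) := ⟨Nat.prime_three⟩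
  obtain ⟨-, -, n8, n10, hnr, -, -⟩ := roots_ok
  have h8 : 8 < chevG2.nroots := by rw [hnr]; decide
  have h10 : 10 < chevG2.nroots := by rw [hnr]; decide
  obtain ⟨φ8, x8, y8, m8⟩ := exists_hom (rank1 (F := K) hC h8)
  obtain ⟨φ10, x10, y10, m10⟩ := exists_hom (rank1 (F := K) hC h10)
  obtain ⟨v1, v2, v3, v4⟩ := vanish_pair
  have c1 : ∀ x y, Commute (xg hC 10 x : GL chevG2.Idx K) (xg hC 8 y) := fun x y =>
    comm_vanish (by decide) (by decide) v3 y x
  have c2 : ∀ x y, Commute (xg hC 10 x : GL chevG2.Idx K) (xg hC 3 y) := fun x y =>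
    (comm_vanish (by decide) (by decide) v2 x y).symm
  have c3 : ∀ x y, Commute (xg hC 8 y : GL chevG2.Idx K) (xg hC 1 x) := fun x y =>
    (comm_vanish (by decide) (by decide) v1 y x).symm
  have c4 : ∀ x y, Commute (xg hC 3 y : GL chevG2.Idx K) (xg hC 1 x) := fun x y =>
    (comm_vanish (by decide) (by decide) v4 y x).symm
  have hcomm : ∀ A B, Commute (φ8 A) (φ10 B) := by
    intro A B
    have hle : Subgroup.closure (Set.range (fun t : K => xg hC 8 t) ∪
        Set.range (fun t : K => xg hC (chevG2.neg 8) t)) ≤ Subgroup.centralizer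
        (Subgroup.closure (Set.range (fun t : K => xg hC 10 t) ∪
          Set.range (fun t : K => xg hC (chevG2.neg 10) t)) : Set (GL chevG2.Idx K)) := by
      rw [Subgroup.centralizer_closure, Subgroup.closure_le]
      rw [n8, n10]
      rintro _ (⟨s, rfl⟩ | ⟨s, rfl⟩) _ (⟨t, rfl⟩ | ⟨t, rfl⟩)
      · exact (c1 t s).eq
      · exact (c3 t s).symm.eq
      · exact (c2 t s).eq
      · exact (c4 t s).symm.eq
    exact (hle (m8 A) _ (m10 B)).symm
  let σ : K →+* K := iterateFrobenius K 3 m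
  let mapσ : SL(2, K) →* SL(2, K) := Matrix.SpecialLinearGroup.map σ
  let Φ0 : SL(2, K) →* GL chevG2.Idx K := MonoidHom.mk' (fun A => φ8 (mapσ A) * φ10 A) fun A B => by
    rw [map_mul, map_mul, map_mul, mul_assoc (φ8 (mapσ A)), mul_assoc (φ8 (mapσ A)),
      ← mul_assoc (φ8 (mapσ B)), (hcomm (mapσ B) A).eq, mul_assoc (φ10 A)]
  have hσ : ∀ t : K, σ t = t ^ 3 ^ m := fun t => iterateFrobenius_def ..
  have msx : ∀ t, mapσ (sx t) = sx (σ t) := fun t => by
    ext i j; fin_cases i <;> fin_cases j <;> simp [mapσ, Matrix.map_apply]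
  have msy : ∀ t, mapσ (sy t) = sy (σ t) := fun t => by
    ext i j; fin_cases i <;> fin_cases j <;> simp [mapσ, Matrix.map_apply]
  have hE0 : (0 : K) ^ 3 ^ m = 0 := zero_pow (pow_ne_zero m (by norm_num))
  have hEodd : Odd (3 ^ m) := (show Odd 3 by decide).pow
  have hX0 : ∀ t, Φ0 (sx t) = wU (3 ^ m) 0 t 0 := fun t => by
    show φ8 (mapσ (sx t)) * φ10 (sx t) = _
    rw [msx, x8, x10, hσ]
    simp [wU, wd, yP, hE0, zero_pow (Nat.succ_ne_zero (3 ^ m)),
      zero_pow (Nat.succ_ne_zero (2 * 3 ^ m)), xg_zero hC]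
  have hY0 : ∀ t, Φ0 (sy t) = wV (3 ^ m) 0 (-t) 0 := fun t => by
    show φ8 (mapσ (sy t)) * φ10 (sy t) = _
    rw [msy, y8, y10, hσ]
    simp [wV, wd, yN, hE0, zero_pow (Nat.succ_ne_zero (3 ^ m)),
      zero_pow (Nat.succ_ne_zero (2 * 3 ^ m)), xg_zero hC, hEodd.neg_pow, n8, n10]
  have hmem : ∀ A, Φ0 A ∈ GG := fun A => by
    refine mem_of_generators (K := (GG).comap Φ0) (fun t => ?_) (fun t => ?_) A
    · rw [Subgroup.mem_comap, hX0]; exact (X.cls_mem _ _ _).1
    · rw [Subgroup.mem_comap, hY0]; exact (X.cls_mem _ _ _).2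
  let Φ : SL(2, K) →* GG := Φ0.codRestrict GG hmem
  -- the diagonal elements
  have hsd8 : ∀ a : K, φ8 (sd a) = hg hC 8 a := fun a => by
    simp only [sd, map_mul, x8, y8, hg, ng]
  have hsd10 : ∀ a : K, φ10 (sd a) = hg hC 10 a := fun a => by
    simp only [sd, map_mul, x10, y10, hg, ng]
  have hcΦ : ∀ a : Kˣ, Φ0 (sd (a : K)) =
      tor chevG2 (fun i => (a ^ 3 ^ m) ^ cor chevG2 8 i * a ^ cor chevG2 10 i) := fun a => by
    show φ8 (mapσ (sd (a : K))) * φ10 (sd (a : K)) = _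
    have e : mapσ (sd (a : K)) = sd ((a ^ 3 ^ m : Kˣ) : K) := by
      rw [Units.val_pow_eq_pow_val, sd, sd, map_mul, map_mul, map_mul, map_mul, map_mul, msx, msx,
        msy, msy, hσ, hσ, hσ, hσ]
      simp [hEodd.neg_pow]
    rw [e, hsd8, hsd10, hg_eq_tor hC h8, hg_eq_tor hC h10, tor_mul]
    rfl
  refine ⟨Φ, ?_, ?_, ?_, ?_, ?_⟩
  · exact fun t => Subtype.ext (hX0 t)
  · intro a ha
    obtain ⟨y, hy⟩ := (mem_torus X).1 (Subgroup.mem_inf.2
      (⟨hcΦ (Units.mk0 a ha) ▸ tor_mem_H hC _, hmem _⟩ :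
        Φ0 (sd a) ∈ chevG2.diagonalSubgroup K ∧ Φ0 (sd a) ∈ GG))
    have hy' : Φ (sd a) = torusHom X y := Subtype.ext hy
    refine ⟨y, hy', ?_⟩
    have h1 : (sd a) * sx (1 : K) * (sd a)⁻¹ = sx (a ^ 2) := by
      rw [mul_inv_eq_iff_eq_mul]
      ext i j
      simp only [Matrix.SpecialLinearGroup.coe_mul, coe_sd ha, coe_sx]
      fin_cases i <;> fin_cases j <;> simp [Matrix.mul_apply, Fin.sum_univ_two] <;> field_simp
    have h2 : torusHom X y * uu X (0, 1, 0) * (torusHom X y)⁻¹ = uu X (0, a ^ 2, 0) := by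
      rw [← hy', ← show Φ (sx 1) = uu X (0, 1, 0) from Subtype.ext (hX0 1),
        ← show Φ (sx (a ^ 2)) = uu X (0, a ^ 2, 0) from Subtype.ext (hX0 _), ← map_inv, ← map_mul,
        ← map_mul, h1]
    rw [tor_uu] at h2
    simpa using (uu_inj X h2).2.1
  · intro t
    show Φ0 (sy t) ∈ _
    rw [hY0]
    have hneg : ∀ i < 6, N.getD i 0 < chevG2.nroots ∧ Data.G2.tab.phi (N.getD i 0) < 0 := by
      decide +kernel
    simp only [wV, wd, yN]
    exact mul_mem (mul_mem (xg_mem_V hC (hneg 0 (by decide)).1 (hneg 0 (by decide)).2 _)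
      (xg_mem_V hC (hneg 1 (by decide)).1 (hneg 1 (by decide)).2 _))
      (mul_mem (xg_mem_V hC (hneg 2 (by decide)).1 (hneg 2 (by decide)).2 _)
        (mul_mem (xg_mem_V hC (hneg 3 (by decide)).1 (hneg 3 (by decide)).2 _)
          (mul_mem (xg_mem_V hC (hneg 4 (by decide)).1 (hneg 4 (by decide)).2 _)
            (xg_mem_V hC (hneg 5 (by decide)).1 (hneg 5 (by decide)).2 _))))
  · intro A
    refine Subgroup.mem_centralizer_singleton_iff.1
      (?_ : Φ A ∈ Subgroup.centralizer {torusHom X (-1)}) |>.symm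
    refine mem_of_generators (K := (Subgroup.centralizer {torusHom X (-1)}).comap Φ)
      (fun t => ?_) (fun t => ?_) A <;>
      rw [Subgroup.mem_comap, Subgroup.mem_centralizer_singleton_iff]
    · rw [show Φ (sx t) = uu X (0, t, 0) from Subtype.ext (hX0 t), eq_comm, ← mul_inv_eq_iff_eq_mul,
        tor_uu, a10_neg_one]
      simp
    · refine Subtype.ext ?_
      show Φ0 (sy t) * tor chevG2 (tc m (-1 : Kˣ)) = tor chevG2 (tc m (-1 : Kˣ)) * Φ0 (sy t)
      have hc : ∀ i, tc m (-1 : Kˣ) i = -1 := fun i => by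
        simp only [tc]
        split_ifs
        · simp [hEodd.neg_one_pow, (show Odd 3 by decide).neg_one_pow]
        · rfl
      have hχ : ∀ s ∈ [1, 3], torChar chevG2 (tc m (-1 : Kˣ)) s = 1 := fun s hs => by
        obtain ⟨k, hk⟩ := Int.dvd_of_emod_eq_zero (cartan_even s hs)
        have hrank : chevG2.rank = 2 := rfl
        rw [torChar, hrank, Finset.prod_range_succ, Finset.prod_range_succ, Finset.prod_range_zero,
          one_mul, hc, hc, ← zpow_add, hk, zpow_mul]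
        simp
      have h1 := tor_conj_x hC (tc m (-1 : Kˣ)) 3 (t ^ 3 ^ m) (by rw [hnr]; decide)
      have h2 := tor_conj_x hC (tc m (-1 : Kˣ)) 1 t (by rw [hnr]; decide)
      rw [hχ 3 (by decide), Units.val_one, one_mul, mul_inv_eq_iff_eq_mul] at h1
      rw [hχ 1 (by decide), Units.val_one, one_mul, mul_inv_eq_iff_eq_mul] at h2
      have e : Φ0 (sy t) = xg hC 3 (t ^ 3 ^ m) * xg hC 1 t := by
        show φ8 (mapσ (sy t)) * φ10 (sy t) = _
        rw [msy, y8, y10, hσ, n8, n10]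
      rw [e, mul_assoc, ← h2, ← mul_assoc, ← h1, mul_assoc]
  · have e : (-1 : SL(2, K)) = sd ((-1 : Kˣ) : K) := by
      refine Subtype.ext ?_
      rw [Units.val_neg, Units.val_one, coe_sd (neg_ne_zero.2 one_ne_zero)]
      ext i j
      fin_cases i <;> fin_cases j <;> simp
    refine Subtype.ext ?_
    show Φ0 (-1) = 1
    rw [e, hcΦ, ← tor_one (D := chevG2) (F := K)]
    refine dg_congr fun s _ => Finset.prod_congr rfl fun i hi => ?_
    congr 1
    show ((-1 : Kˣ) ^ 3 ^ m) ^ cor chevG2 8 i * (-1 : Kˣ) ^ cor chevG2 10 i = 1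
    rw [hEodd.neg_one_pow, ← zpow_add]
    have hi2 : i < 2 := Finset.mem_range.1 hi
    obtain ⟨p0, p1⟩ := pair_cor
    interval_cases i
    · rw [p0]; simp
    · rw [p1, zpow_ofNat]; simp [pow_succ]

variable {Φ : SL(2, K) →* ↥(twistedG2 K (3 ^ m))} (hΦ : IsEmbed X Φ)
include hΦ

theorem phi_upper {A : SL(2, K)} (hc : el A 1 0 = 0) :
    el A 0 0 ≠ 0 ∧ ∃ y : Kˣ, Φ A = uu X (0, el A 0 0 * el A 0 1, 0) * torusHom X y ∧
      a10 m y = el A 0 0 ^ 2 := by
  have hdet := el_det A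
  rw [hc, mul_zero, sub_zero] at hdet
  have ha : el A 0 0 ≠ 0 := left_ne_zero_of_mul (hdet ▸ one_ne_zero)
  refine ⟨ha, ?_⟩
  obtain ⟨y, hy, hy2⟩ := hΦ.sd_tor _ ha
  refine ⟨y, ?_, hy2⟩
  have e : A = sx (el A 0 0 * el A 0 1) * sd (el A 0 0) := by
    refine Subtype.ext ?_
    rw [Matrix.SpecialLinearGroup.coe_mul, coe_sd ha, coe_sx]
    have hdd : el A 1 1 = (el A 0 0)⁻¹ := eq_inv_of_mul_eq_one_right hdet
    ext i j
    fin_cases i <;> fin_cases j <;> simp [Matrix.mul_apply, Fin.sum_univ_two, el] at hc hdd ha ⊢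
    · field_simp
    · exact hc
    · exact hdd
  conv_lhs => rw [e, map_mul, hΦ.sx_eq, hy]

theorem phi_mem_bor {A : SL(2, K)} : Φ A ∈ bor X ↔ el A 1 0 = 0 := by
  constructor
  · intro h
    by_contra hc
    have hx : ∀ t, Φ (sx t) ∈ bor X := fun t => by rw [hΦ.sx_eq]; exact uu_mem_bor X _
    have hsy : Φ (sy (el A 1 0)) ∈ bor X := by
      rw [decomp hc, map_mul, map_mul] at h
      exact (Subgroup.mul_mem_cancel_left _ (hx _)).1 ((Subgroup.mul_mem_cancel_right _ (hx _)).1 h)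
    have h1 : Φ (sy (el A 1 0)) = 1 := Subtype.ext (Subgroup.mem_bot.1
      (B_inf_V (F := K) hC ▸ Subgroup.mem_inf.2 ⟨(mem_bor X).1 hsy, hΦ.sy_neg _⟩))
    have e : sy (el A 1 0) = sw * sx (-el A 1 0) * sw⁻¹ := by
      rw [eq_mul_inv_iff_mul_eq]
      ext i j; fin_cases i <;> fin_cases j <;> simp [Matrix.mul_apply, Fin.sum_univ_two]
    rw [e, map_mul, map_mul, map_inv, mul_inv_eq_one, mul_eq_left, hΦ.sx_eq, ← uu_zero X] at h1
    exact hc (neg_eq_zero.1 (uu_inj X h1).2.1)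
  · intro hc
    obtain ⟨-, y, hy, -⟩ := phi_upper X hΦ hc
    rw [hy]
    exact mul_mem (uu_mem_bor X _) (tor_mem_bor X y)

theorem phi_eq_pm {A : SL(2, K)} {x : Kˣ} (h : Φ A = torusHom X x) (hx : a10 m x = 1) :
    (A = 1 ∨ A = -1) ∧ x = 1 := by
  have hc := (phi_mem_bor X hΦ).1 (h ▸ tor_mem_bor X x)
  obtain ⟨ha, y, hy, hy2⟩ := phi_upper X hΦ hc
  rw [h, eq_comm, ← eq_mul_inv_iff_mul_eq, ← map_inv, ← map_mul] at hy
  obtain ⟨h1, h2⟩ := uu_eq_tor X hy
  have hxy : y = x := (mul_inv_eq_one.1 h2).symm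
  subst hxy
  have hb : el A 0 1 = 0 := (mul_eq_zero.1 (congrArg (fun p : K × K × K => p.2.1) h1 :)).resolve_left ha
  have hdet := el_det A
  rw [hc, mul_zero, sub_zero] at hdet
  have hA : A = 1 ∨ A = -1 := by
    rcases sq_eq_one_iff.1 (hy2.symm.trans hx) with e | e
    · left
      rw [e, one_mul] at hdet
      ext i j
      fin_cases i <;> fin_cases j <;> simp [el] at e hb hdet hc ⊢ <;> assumption
    · right
      rw [e] at hdet
      have hd : el A 1 1 = -1 := by linear_combination -hdet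
      ext i j
      fin_cases i <;> fin_cases j <;> simp [el] at e hb hd hc ⊢ <;> assumption
  refine ⟨hA, torusHom_injective X ?_⟩
  rw [map_one, ← h]
  rcases hA with e | e
  · rw [e, map_one]
  · rw [e, hΦ.neg_one]

theorem phi_eq_one {A : SL(2, K)} (h : Φ A = 1) : A = 1 ∨ A = -1 :=
  (phi_eq_pm X hΦ (x := 1) (by rw [map_one]; exact h)
    (by rw [a10_eq, Units.val_one, TT_one, inv_one, mul_one])).1

theorem phi_ne_j (A : SL(2, K)) : Φ A ≠ torusHom X (-1) := fun h => by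
  have e : (-1 : K) = 1 := congrArg Units.val (phi_eq_pm X hΦ h a10_neg_one).2
  exact neg_one_ne_one e

theorem j_fix {z : GG ⧸ bor X} (h : torusHom X (-1) • z = z) :
    z = ((1 : GG) : GG ⧸ bor X) ∨ ∃ u, z = ((uu X (0, u, 0) * nn X : GG) : GG ⧸ bor X) := by
  rcases coset_cases X z with rfl | ⟨⟨t, u, v⟩, rfl⟩
  · exact Or.inl rfl
  · right
    have e : torusHom X (-1) • ((uu X (t, u, v) * nn X : GG) : GG ⧸ bor X) =
        ((uu X (-t, u, -v) * nn X : GG) : GG ⧸ bor X) := by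
      have e0 : uu X (-t, u, -v) = torusHom X (-1) * uu X (t, u, v) * (torusHom X (-1))⁻¹ := by
        rw [tor_uu, a6_neg_one, a10_neg_one]
        simp
      rw [e0]
      conv_rhs => rw [← smul_eq_mul, ← MulAction.Quotient.smul_coe]
      conv_lhs => rw [← smul_eq_mul, ← MulAction.Quotient.smul_coe]
      rw [mul_smul, mul_smul, show (torusHom X (-1))⁻¹ • ((nn X : GG) : GG ⧸ bor X) =
        ((nn X : GG) : GG ⧸ bor X) from inv_smul_eq_iff.2 (tor_smul_nn X _).symm]
    rw [e] at h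
    have h' := uu_coset_inj X h
    simp only [Prod.mk.injEq] at h'
    have h2 : (2 : K) ≠ 0 := fun e => neg_one_ne_one (K := K) (by linear_combination -e)
    have ht : t = 0 := (mul_eq_zero.1 (show (2 : K) * t = 0 by linear_combination -h'.1)).resolve_left h2
    have hv : v = 0 := (mul_eq_zero.1 (show (2 : K) * v = 0 by linear_combination -h'.2.2)).resolve_left h2
    exact ⟨u, by rw [ht, hv]⟩

theorem cent_decomp {g : GG} (hg : Commute (torusHom X (-1)) g) :
    ∃ A, g = Φ A ∨ g = torusHom X (-1) * Φ A := by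
  have hb : torusHom X (-1) • ((1 : GG) : GG ⧸ bor X) = ((1 : GG) : GG ⧸ bor X) :=
    (smul_base X).2 (tor_mem_bor X _)
  -- move the image of the base coset back
  obtain ⟨B, hB⟩ : ∃ B, Φ B • ((1 : GG) : GG ⧸ bor X) = g • ((1 : GG) : GG ⧸ bor X) := by
    have hfix : ∀ x : GG, Commute (torusHom X (-1)) x →
        torusHom X (-1) • (x • ((1 : GG) : GG ⧸ bor X)) = x • ((1 : GG) : GG ⧸ bor X) := fun x hx => by
      rw [← mul_smul, hx.eq, mul_smul, hb]
    have hsw : Φ sw ∉ bor X := fun h => by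
      simpa [el] using (phi_mem_bor X hΦ).1 h
    obtain ⟨u0, hu0⟩ := (j_fix X hΦ (hfix _ (hΦ.comm sw))).resolve_left
      fun h => hsw ((smul_base X).1 h)
    rcases j_fix X hΦ (hfix g hg) with h | ⟨u, h⟩
    · exact ⟨1, by rw [map_one, one_smul, h]⟩
    · refine ⟨sx (u - u0) * sw, ?_⟩
      rw [map_mul, mul_smul, hu0, h, hΦ.sx_eq, MulAction.Quotient.smul_coe, smul_eq_mul,
        ← mul_assoc, uu_mul, TT_zero]
      congr 4
      all_goals simp
  obtain ⟨p, y, hy⟩ := bor_decomp X ((smul_base X).1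
    (show ((Φ B)⁻¹ * g) • ((1 : GG) : GG ⧸ bor X) = _ by rw [mul_smul, ← hB, inv_smul_smul]))
  obtain ⟨t, u, v⟩ := p
  have hc : Commute (torusHom X (-1)) (uu X (t, u, v) * torusHom X y) :=
    hy ▸ ((hΦ.comm B).inv_right.mul_right hg)
  have hcy : Commute (torusHom X (-1)) (torusHom X y) := (Commute.all _ _).map _
  have hcu : Commute (torusHom X (-1)) (uu X (t, u, v)) := by
    simpa using hc.mul_right hcy.inv_right
  have e : torusHom X (-1) * uu X (t, u, v) * (torusHom X (-1))⁻¹ = uu X (t, u, v) := by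
    rw [hcu.eq, mul_inv_cancel_right]
  rw [tor_uu, a6_neg_one, a10_neg_one] at e
  obtain ⟨e1, -, e3⟩ := uu_inj X e
  have h2 : (2 : K) ≠ 0 := fun e => neg_one_ne_one (K := K) (by linear_combination -e)
  obtain rfl : t = 0 := (mul_eq_zero.1 (show (2 : K) * t = 0 by linear_combination -e1)).resolve_left h2
  obtain rfl : v = 0 := (mul_eq_zero.1 (show (2 : K) * v = 0 by
    rw [Units.val_neg, Units.val_one] at e3
    linear_combination -e3)).resolve_left h2
  -- the torus part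
  obtain ⟨k, hk⟩ : ∃ k, 3 ^ m * 3 = 2 * k + 1 := ((show Odd 3 by decide).pow.mul (by decide))
  obtain ⟨z, hz, hz2⟩ := hΦ.sd_tor (((y ^ k : Kˣ) : K)) (Units.ne_zero _)
  have h1 : a10 m (y * z⁻¹) = 1 := by
    have hy10 : a10 m y = ((y ^ k : Kˣ) : K) ^ 2 := by
      rw [a10_eq, TT, ← pow_mul, hk, Units.val_pow_eq_pow_val, ← pow_mul, pow_succ,
        mul_inv_cancel_right₀ y.ne_zero, mul_comm 2 k]
    have hmul : a10 m (y * z⁻¹) * a10 m z = a10 m y := by
      rw [a10_eq, a10_eq, a10_eq, mul_mul_mul_comm, ← TT_mul, ← mul_inv, ← Units.val_mul,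
        inv_mul_cancel_right]
    rw [hz2, hy10] at hmul
    exact (mul_eq_right₀ (pow_ne_zero 2 (Units.ne_zero _))).1 hmul
  have hsq : ((y * z⁻¹ : Kˣ) : K) ^ 2 = 1 := by
    rw [← Units.val_pow_eq_pow_val, a10_triv X h1, Units.val_one]
  obtain ⟨ε, hε, hy'⟩ : ∃ ε : Kˣ, (ε = 1 ∨ ε = -1) ∧ y = ε * z :=
    ⟨y * z⁻¹, (sq_eq_one_iff.1 hsq).imp (fun e => Units.ext e) (fun e => Units.ext (by rw [e]; simp)),
      by rw [inv_mul_cancel_right]⟩
  refine ⟨B * (sx u * sd ((y ^ k : Kˣ) : K)), ?_⟩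
  rw [map_mul, map_mul, hΦ.sx_eq, hz]
  have hg' : g = Φ B * (uu X (0, u, 0) * torusHom X y) := by rw [← hy, mul_inv_cancel_left]
  rcases hε with rfl | rfl
  · left
    rw [hg', hy', one_mul]
  · right
    rw [hg', hy', map_mul, ← mul_assoc (torusHom X (-1)) (Φ B), (hΦ.comm B).eq, mul_assoc (Φ B),
      ← mul_assoc (torusHom X (-1)) (uu X (0, u, 0)), hcu.eq, mul_assoc]

theorem j_sq : torusHom X (-1) * torusHom X (-1) = 1 := by
  rw [← map_mul, neg_one_mul, neg_neg, map_one]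

theorem center_pm {A : SL(2, K)} (h : A ∈ Subgroup.center SL(2, K)) : A = 1 ∨ A = -1 := by
  obtain ⟨r, hr, e⟩ := Matrix.SpecialLinearGroup.mem_center_iff.1 h
  rw [Fintype.card_fin] at hr
  rcases sq_eq_one_iff.1 hr with rfl | rfl
  · exact Or.inl (Subtype.ext (by rw [← e]; simp))
  · exact Or.inr (Subtype.ext (by rw [← e]; ext i j; fin_cases i <;> fin_cases j <;> simp))

theorem centralizer_iso : Nonempty (↥(Subgroup.centralizer {torusHom X (-1)}) ≃*
    Multiplicative (ZMod 2) × Matrix.ProjectiveSpecialLinearGroup (Fin 2) K) := by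
  classical
  let ψ : Matrix.ProjectiveSpecialLinearGroup (Fin 2) K →* GG :=
    QuotientGroup.lift _ Φ fun A hA => by
      rcases center_pm X hΦ hA with rfl | rfl
      · exact map_one Φ
      · exact hΦ.neg_one
  let ε : Multiplicative (ZMod 2) →* GG := MonoidHom.mk'
    (fun e => if e = 1 then 1 else torusHom X (-1)) (by
      have hcases : ∀ e : Multiplicative (ZMod 2), e = 1 ∨ e = Multiplicative.ofAdd 1 := by decide
      have hne : Multiplicative.ofAdd (1 : ZMod 2) ≠ 1 := by decide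
      have hsq : Multiplicative.ofAdd (1 : ZMod 2) * Multiplicative.ofAdd 1 = 1 := by decide
      intro a b
      rcases hcases a with rfl | rfl <;> rcases hcases b with rfl | rfl
      · simp
      · simp [hne]
      · simp [hne]
      · rw [hsq, if_pos rfl, if_neg hne, j_sq X hΦ])
  have hε : ∀ e, ε e = if e = 1 then 1 else torusHom X (-1) := fun e => rfl
  have hcomm : ∀ e x, Commute (ε e) (ψ x) := by
    intro e x
    obtain ⟨A, rfl⟩ := QuotientGroup.mk_surjective x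
    rw [hε]
    split_ifs
    · exact Commute.one_left _
    · exact hΦ.comm A
  let f := MonoidHom.noncommCoprod ε ψ hcomm
  have hf : ∀ e A, f (e, (QuotientGroup.mk A : Matrix.ProjectiveSpecialLinearGroup (Fin 2) K)) =
      (if e = 1 then 1 else torusHom X (-1)) * Φ A := fun e A => rfl
  have hinj : Function.Injective f := by
    rw [injective_iff_map_eq_one]
    rintro ⟨e, x⟩ h
    obtain ⟨A, rfl⟩ := QuotientGroup.mk_surjective x
    rw [hf] at h
    split_ifs at h with he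
    · rw [one_mul] at h
      subst he
      refine Prod.ext rfl ((QuotientGroup.eq_one_iff A).2 ?_)
      rcases phi_eq_one X hΦ h with rfl | rfl
      · exact one_mem _
      · exact Matrix.SpecialLinearGroup.mem_center_iff.2 ⟨-1, by simp, by ext i j; fin_cases i <;> fin_cases j <;> simp⟩
    · refine absurd ?_ (phi_ne_j X hΦ A)
      rw [eq_inv_of_mul_eq_one_right h, inv_eq_of_mul_eq_one_right (j_sq X hΦ)]
  have hmem : ∀ p, f p ∈ Subgroup.centralizer {torusHom X (-1)} := by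
    rintro ⟨e, x⟩
    obtain ⟨A, rfl⟩ := QuotientGroup.mk_surjective x
    rw [Subgroup.mem_centralizer_singleton_iff, hf]
    split_ifs
    · rw [one_mul]; exact (hΦ.comm A).eq.symm
    · exact ((Commute.refl _).mul_right (hΦ.comm A)).eq.symm
  refine ⟨(MulEquiv.ofBijective (f.codRestrict _ hmem) ⟨fun a b h => hinj (Subtype.ext_iff.1 h), ?_⟩).symm⟩
  rintro ⟨g, hg⟩
  obtain ⟨A, h | h⟩ := cent_decomp X hΦ (Subgroup.mem_centralizer_singleton_iff.1 hg).symm
  · exact ⟨(1, QuotientGroup.mk A), Subtype.ext (by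
      show f (1, QuotientGroup.mk A) = g
      rw [hf, if_pos rfl, one_mul, h])⟩
  · exact ⟨(Multiplicative.ofAdd 1, QuotientGroup.mk A), Subtype.ext (by
      show f (Multiplicative.ofAdd 1, QuotientGroup.mk A) = g
      rw [hf, if_neg (by decide), h])⟩

end Cfsg.Agent.Ree
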