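import Cfsg.Agent.Lib.Ree.Embed
import Cfsg.Agent.GroupStructure3.FrattiniAut
import Mathlib.GroupTheory.Transfer
import Mathlib.GroupTheory.Perm.Cycle.Type

/-!
The Sylow `2`-subgroups of the small Ree groups and the single class of involutions.
-/

set_option autoImplicit false
set_option linter.unusedSectionVars false

open scoped Matrix Pointwise MatrixGroups

namespace Cfsg.Agent.Ree

open Cfsg.Lie Cfsg.Agent.Chevalley Cfsg.Agent.Chevalley.Cert Cfsg.Agent.Chevalley.Group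
  Cfsg.Agent.Chevalley.Twist Cfsg.Agent.Chevalley.Twist.G2 Cfsg.Agent.Chevalley.SL2

variable {K : Type*} [Field K] [Fintype K] [CharP K 3] {m : ℕ}

local notation "GG" => twistedG2 K (3 ^ m)

/-- The second quaternion unit of `SL₂` in characteristic three. -/
def qM : SL(2, K) :=
  ⟨!![1, 1; 1, -1], by rw [Matrix.det_fin_two_of]; linear_combination -three (K := K)⟩

/-- The element permuting the quaternion units cyclically. -/
def qh : SL(2, K) := ⟨!![-1, -1; 1, 0], by rw [Matrix.det_fin_two_of]; ring⟩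

@[simp] theorem coe_qM : ((qM : SL(2, K)) : Matrix (Fin 2) (Fin 2) K) = !![1, 1; 1, -1] := rfl

@[simp] theorem coe_qh : ((qh : SL(2, K)) : Matrix (Fin 2) (Fin 2) K) = !![-1, -1; 1, 0] := rfl

/-- The quaternion units. -/
def qv : Fin 4 → SL(2, K) := ![1, sw, qM, sw * qM]

/-- The permutation of the units induced by `qh`. -/
def qp : Fin 4 → Fin 4 := ![0, 3, 1, 2]

theorem qh_conj (i : Fin 4) : (qh : SL(2, K)) * qv i = qv (qp i) * qh := by
  have h3 := three (K := K)
  ext a b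
  fin_cases i <;> fin_cases a <;> fin_cases b <;>
    simp [qv, qp, Matrix.mul_apply, Fin.sum_univ_two] <;>
    first
      | linear_combination h3
      | linear_combination -h3
      | ring

theorem qv_sq (i : Fin 4) : (qv i : SL(2, K)) * qv i = 1 ∨ (qv i : SL(2, K)) * qv i = -1 := by
  have h3 := three (K := K)
  fin_cases i
  · exact Or.inl (one_mul 1)
  all_goals
    right
    ext a b
    fin_cases a <;> fin_cases b <;> simp [qv, Matrix.mul_apply, Fin.sum_univ_two] <;>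
      first
        | linear_combination h3
        | linear_combination -h3
        | ring

theorem qv_comm (i k : Fin 4) :
    (qv i : SL(2, K)) * qv k = qv k * qv i ∨ (qv i : SL(2, K)) * qv k = -(qv k * qv i) := by
  have h3 := three (K := K)
  fin_cases i <;> fin_cases k <;>
    first
      | exact Or.inl rfl
      | (left; simp [qv]; done)
      | (right
         ext a b
         fin_cases a <;> fin_cases b <;> simp [qv, Matrix.mul_apply, Fin.sum_univ_two] <;>
           first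
             | linear_combination h3
             | linear_combination -h3
             | ring)

theorem qv_inj {i k : Fin 4} (h : (qv i : SL(2, K)) = qv k ∨ (qv i : SL(2, K)) = -qv k) : i = k := by
  have h1 : (1 : K) ≠ 0 := one_ne_zero
  have h2 : (-1 : K) ≠ 1 := neg_one_ne_one
  rcases h with h | h
  all_goals
    have e00 := congrArg (fun A : SL(2, K) => (A : Matrix (Fin 2) (Fin 2) K) 0 0) h
    have e01 := congrArg (fun A : SL(2, K) => (A : Matrix (Fin 2) (Fin 2) K) 0 1) h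
    fin_cases i <;> fin_cases k <;>
      simp [qv, Matrix.mul_apply, Fin.sum_univ_two, h2, h2.symm] at e00 e01 ⊢

theorem quat_cases {p r s t : K} (hdet : p * t - r * s = 1) {e1 e2 : K} (he1 : e1 = 1 ∨ e1 = -1)
    (he2 : e2 = 1 ∨ e2 = -1) (w1 : -r = e1 * s) (w2 : p = e1 * t) (m1 : p + r = e2 * (p + s))
    (m2 : p - r = e2 * (r + t)) :
    ∃ i : Fin 4, (!![p, r; s, t] : Matrix (Fin 2) (Fin 2) K) = (qv i : SL(2, K)) ∨
      (!![p, r; s, t] : Matrix (Fin 2) (Fin 2) K) = -((qv i : SL(2, K)) : Matrix (Fin 2) (Fin 2) K) := by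
  have h3 := three (K := K)
  have h2 : (2 : K) ≠ 0 := fun e => neg_one_ne_one (K := K) (by linear_combination -e)
  rcases he1 with rfl | rfl
  · obtain rfl : s = -r := by linear_combination -w1
    obtain rfl : p = t := by linear_combination w2
    rcases he2 with rfl | rfl
    · obtain rfl : r = 0 :=
        (mul_eq_zero.1 (show (2 : K) * r = 0 by linear_combination m1)).resolve_left h2
      refine ⟨0, ?_⟩
      rcases sq_eq_one_iff.1 (show p ^ 2 = 1 by linear_combination hdet) with rfl | rfl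
      · left; ext a b; fin_cases a <;> fin_cases b <;> simp [qv]
      · right; ext a b; fin_cases a <;> fin_cases b <;> simp [qv]
    · obtain rfl : p = 0 :=
        (mul_eq_zero.1 (show (2 : K) * p = 0 by linear_combination m1)).resolve_left h2
      refine ⟨1, ?_⟩
      rcases sq_eq_one_iff.1 (show r ^ 2 = 1 by linear_combination hdet) with rfl | rfl
      · left; ext a b; fin_cases a <;> fin_cases b <;> simp [qv]
      · right; ext a b; fin_cases a <;> fin_cases b <;> simp [qv]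
  · obtain rfl : r = s := by linear_combination -w1
    obtain rfl : t = -p := by linear_combination w2
    rcases he2 with rfl | rfl
    · obtain rfl : p = r :=
        sub_eq_zero.1 ((mul_eq_zero.1 (show (2 : K) * (p - r) = 0 by linear_combination m2)).resolve_left h2)
      refine ⟨2, ?_⟩
      rcases sq_eq_one_iff.1 (show p ^ 2 = 1 by linear_combination hdet + p ^ 2 * h3) with rfl | rfl
      · left; ext a b; fin_cases a <;> fin_cases b <;> simp [qv]
      · right; ext a b; fin_cases a <;> fin_cases b <;> simp [qv]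
    · obtain rfl : r = -p :=
        (eq_neg_iff_add_eq_zero.2 ((mul_eq_zero.1
          (show (2 : K) * (r + p) = 0 by linear_combination m1)).resolve_left h2))
      refine ⟨3, ?_⟩
      rcases sq_eq_one_iff.1 (show p ^ 2 = 1 by linear_combination hdet + p ^ 2 * h3) with rfl | rfl
      · left; ext a b; fin_cases a <;> fin_cases b <;> simp [qv, Matrix.mul_apply, Fin.sum_univ_two]
      · right; ext a b; fin_cases a <;> fin_cases b <;> simp [qv, Matrix.mul_apply, Fin.sum_univ_two]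

variable {hK : Fintype.card K = 3 ^ (2 * m + 1)} (X : Setup (K := K) hK)
  {Φ : SL(2, K) →* ↥(twistedG2 K (3 ^ m))} (hΦ : IsEmbed X Φ)
include X hΦ

theorem phi_neg (A : SL(2, K)) : Φ (-A) = Φ A := by
  rw [← neg_one_mul A, map_mul, hΦ.neg_one, one_mul]

theorem phi_eq {A B : SL(2, K)} (h : Φ A = Φ B) : A = B ∨ A = -B := by
  have e : Φ (A * B⁻¹) = 1 := by rw [map_mul, h, ← map_mul, mul_inv_cancel, map_one]
  rcases phi_eq_one X hΦ e with e' | e'
  · exact Or.inl (mul_inv_eq_one.1 e')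
  · exact Or.inr (by rw [mul_inv_eq_iff_eq_mul] at e'; rw [e', neg_one_mul])

omit hΦ in
/-- The elements of the standard Sylow `2`-subgroup. -/
noncomputable def elt (Φ : SL(2, K) →* ↥(twistedG2 K (3 ^ m))) (p : Bool × Fin 4) : GG :=
  (if p.1 then torusHom X (-1) else 1) * Φ (qv p.2)

omit hΦ in
/-- The standard Sylow `2`-subgroup. -/
noncomputable abbrev S0 (Φ : SL(2, K) →* ↥(twistedG2 K (3 ^ m))) : Subgroup GG :=
  Subgroup.centralizer {torusHom X (-1), Φ (qv 1), Φ (qv 2)}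

theorem elt_injective : Function.Injective (elt X Φ) := by
  have hkey : ∀ i k, torusHom X (-1) * Φ (qv i) ≠ Φ (qv k) := fun i k h => phi_ne_j X hΦ (qv k * (qv i)⁻¹)
    (by rw [map_mul, map_inv, ← h, mul_inv_cancel_right])
  have hsame : ∀ i k, Φ (qv i) = Φ (qv k) → i = k := fun i k h => qv_inj (phi_eq X hΦ h)
  rintro ⟨b, i⟩ ⟨c, k⟩ h
  cases b <;> cases c <;> simp only [elt, Bool.false_eq_true, ↓reduceIte, one_mul] at h
  · rw [hsame _ _ h]
  · exact absurd h.symm (hkey _ _)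
  · exact absurd h (hkey _ _)
  · rw [hsame _ _ (mul_left_cancel h)]

theorem phi_qv_comm (i k : Fin 4) : Commute (Φ (qv i)) (Φ (qv k)) := by
  show Φ (qv i) * Φ (qv k) = Φ (qv k) * Φ (qv i)
  rcases qv_comm (K := K) i k with e | e
  · rw [← map_mul, e, map_mul]
  · rw [← map_mul, e, phi_neg X hΦ, map_mul]

theorem elt_comm (p q : Bool × Fin 4) : Commute (elt X Φ p) (elt X Φ q) := by
  have hj : ∀ (b : Bool) (x : GG), Commute (torusHom X (-1)) x →
      Commute (if b then torusHom X (-1) else 1) x := fun b x hx => by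
    cases b
    · exact Commute.one_left _
    · exact hx
  refine Commute.mul_left (hj _ _ (Commute.mul_right ?_ (hΦ.comm _)))
    (Commute.mul_right (hj _ _ (hΦ.comm _)).symm (phi_qv_comm X hΦ _ _))
  exact (hj _ _ (Commute.refl _)).symm

theorem elt_sq (p : Bool × Fin 4) : elt X Φ p * elt X Φ p = 1 := by
  have h1 : Φ (qv p.2) * Φ (qv p.2) = 1 := by
    rcases qv_sq (K := K) p.2 with e | e <;> rw [← map_mul, e]
    · exact map_one Φ
    · exact hΦ.neg_one
  obtain ⟨b, i⟩ := p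
  cases b
  · simpa [elt] using h1
  · simp only [elt, ↓reduceIte]
    rw [(hΦ.comm _).symm.mul_mul_mul_comm, j_sq X hΦ, one_mul]
    · exact h1

theorem mem_S0 {g : GG} : g ∈ S0 X Φ ↔ ∃ p, g = elt X Φ p := by
  constructor
  · intro hg
    have hg' := Subgroup.mem_centralizer_iff.1 hg
    obtain ⟨A, hA⟩ := cent_decomp X hΦ (hg' _ (by simp) : Commute (torusHom X (-1)) g)
    obtain ⟨b, hb⟩ : ∃ b : Bool, g = (if b then torusHom X (-1) else 1) * Φ A := by
      rcases hA with h | h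
      · exact ⟨false, by simp [h]⟩
      · exact ⟨true, by simp [h]⟩
    have hcA : ∀ i : Fin 4, i = 1 ∨ i = 2 → Φ (qv i) * Φ A = Φ A * Φ (qv i) := by
      intro i hi
      have h := hg' (Φ (qv i)) (by rcases hi with rfl | rfl <;> simp)
      rw [hb] at h
      cases b
      · simpa using h
      · simp only [↓reduceIte] at h
        rw [← mul_assoc, ← (hΦ.comm _).eq, mul_assoc, mul_assoc] at h
        exact mul_left_cancel h
    have hs : ∀ i : Fin 4, i = 1 ∨ i = 2 →
        A * qv i = qv i * A ∨ A * qv i = -(qv i * A) := fun i hi =>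
      phi_eq X hΦ (by rw [map_mul, map_mul, hcA i hi])
    obtain ⟨e1, he1, hw⟩ : ∃ e1 : K, (e1 = 1 ∨ e1 = -1) ∧ ∀ a c, el (A * qv 1) a c = e1 * el (qv 1 * A) a c := by
      rcases hs 1 (Or.inl rfl) with e | e
      · exact ⟨1, Or.inl rfl, fun a c => by rw [e, one_mul]⟩
      · exact ⟨-1, Or.inr rfl, fun a c => by rw [e]; simp [el]⟩
    obtain ⟨e2, he2, hM⟩ : ∃ e2 : K, (e2 = 1 ∨ e2 = -1) ∧ ∀ a c, el (A * qv 2) a c = e2 * el (qv 2 * A) a c := by
      rcases hs 2 (Or.inr rfl) with e | e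
      · exact ⟨1, Or.inl rfl, fun a c => by rw [e, one_mul]⟩
      · exact ⟨-1, Or.inr rfl, fun a c => by rw [e]; simp [el]⟩
    have w1 := hw 0 0
    have w2 := hw 0 1
    have m1 := hM 0 0
    have m2 := hM 0 1
    simp only [el_mul] at w1 w2 m1 m2
    simp [qv, el] at w1 w2 m1 m2
    obtain ⟨i, hi⟩ := quat_cases (el_det A) he1 he2 (by simpa [el] using w1) (by simpa [el] using w2)
      (by simpa [el] using m1) (by linear_combination m2)
    have eA : ((A : SL(2, K)) : Matrix (Fin 2) (Fin 2) K) = !![el A 0 0, el A 0 1; el A 1 0, el A 1 1] :=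
      Matrix.eta_fin_two _
    refine ⟨(b, i), ?_⟩
    rw [hb, elt]
    congr 1
    rcases hi with hi | hi
    · rw [show A = qv i from Subtype.ext (eA.trans hi)]
    · rw [show A = -qv i from Subtype.ext (eA.trans hi), phi_neg X hΦ]
  · rintro ⟨p, rfl⟩
    refine Subgroup.mem_centralizer_iff.2 ?_
    have h0 : torusHom X (-1) = elt X Φ (true, 0) := by simp [elt, qv]
    have h1 : Φ (qv 1) = elt X Φ (false, 1) := by simp [elt]
    have h2 : Φ (qv 2) = elt X Φ (false, 2) := by simp [elt]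
    rintro x (rfl | rfl | rfl)
    · rw [h0]; exact (elt_comm X hΦ _ _).eq
    · rw [h1]; exact (elt_comm X hΦ _ _).eq
    · rw [h2]; exact (elt_comm X hΦ _ _).eq

theorem card_S0 : Nat.card (S0 X Φ) = 8 := by
  let f : Bool × Fin 4 → S0 X Φ := fun p => ⟨elt X Φ p, (mem_S0 X hΦ).2 ⟨p, rfl⟩⟩
  have hf : Function.Bijective f := by
    refine ⟨fun p q h => elt_injective X hΦ (congrArg Subtype.val h), ?_⟩
    rintro ⟨g, hg⟩
    obtain ⟨p, rfl⟩ := (mem_S0 X hΦ).1 hg
    exact ⟨p, rfl⟩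
  rw [← Nat.card_eq_of_bijective f hf, Nat.card_prod, Nat.card_eq_fintype_card, Nat.card_eq_fintype_card,
    Fintype.card_bool, Fintype.card_fin]

theorem S0_comm {x y : GG} (hx : x ∈ S0 X Φ) (hy : y ∈ S0 X Φ) : x * y = y * x := by
  obtain ⟨p, rfl⟩ := (mem_S0 X hΦ).1 hx
  obtain ⟨q, rfl⟩ := (mem_S0 X hΦ).1 hy
  exact (elt_comm X hΦ p q).eq

theorem centralizer_S0 : Subgroup.centralizer (S0 X Φ : Set GG) = S0 X Φ := by
  refine le_antisymm (Subgroup.centralizer_le ?_)
    fun x hx => Subgroup.mem_centralizer_iff.2 fun y hy => S0_comm X hΦ hy hx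
  rintro x (rfl | rfl | rfl)
  · exact (mem_S0 X hΦ).2 ⟨(true, 0), by simp [elt, qv]⟩
  · exact (mem_S0 X hΦ).2 ⟨(false, 1), by simp [elt]⟩
  · exact (mem_S0 X hΦ).2 ⟨(false, 2), by simp [elt]⟩

omit hΦ in
theorem factorization_two : (Nat.card GG).factorization 2 = 3 := by
  obtain ⟨c, hc⟩ : ∃ c, 3 ^ (2 * m + 1) = 8 * c + 3 := by
    refine ⟨3 ^ (2 * m + 1) / 8, ?_⟩
    have : 3 ^ (2 * m + 1) % 8 = 3 := by
      rw [pow_succ, pow_mul, Nat.mul_mod, Nat.pow_mod]; norm_num
    omega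
  rw [card_group X, hc]
  have e : (8 * c + 3) ^ 3 * (8 * c + 3 - 1) * ((8 * c + 3) ^ 3 + 1) =
      2 ^ 3 * ((8 * c + 3) ^ 3 * (4 * c + 1) * (128 * c ^ 3 + 144 * c ^ 2 + 54 * c + 7)) := by
    rw [show 8 * c + 3 - 1 = 8 * c + 2 by omega]; ring
  have hodd : ¬ 2 ∣ (8 * c + 3) ^ 3 * (4 * c + 1) * (128 * c ^ 3 + 144 * c ^ 2 + 54 * c + 7) := by
    refine Odd.not_two_dvd_nat ((Odd.mul (Odd.pow ⟨4 * c + 1, by ring⟩) ⟨2 * c, by ring⟩).mul ?_)
    exact ⟨64 * c ^ 3 + 72 * c ^ 2 + 27 * c + 3, by ring⟩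
  rw [e, Nat.factorization_mul (by norm_num) (fun h => hodd (by rw [h]; exact dvd_zero 2)),
    Finsupp.add_apply, Nat.factorization_eq_zero_of_not_dvd hodd, add_zero,
    Nat.Prime.factorization_pow Nat.prime_two, Finsupp.single_eq_same]

theorem exists_sylow_two : ∃ P : Sylow 2 GG, (P : Subgroup GG) = S0 X Φ := by
  haveI : Fact (Nat.Prime 2) := ⟨Nat.prime_two⟩
  exact ⟨Sylow.ofCard (S0 X Φ) (by rw [card_S0 X hΦ, factorization_two X]; norm_num),
    Sylow.coe_ofCard _ _⟩

theorem sylow_conj (P : Sylow 2 GG) :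
    ∃ g : GG, (P : Subgroup GG) = (S0 X Φ).map (MulAut.conj g).toMonoidHom := by
  haveI : Fact (Nat.Prime 2) := ⟨Nat.prime_two⟩
  obtain ⟨P0, hP0⟩ := exists_sylow_two X hΦ
  obtain ⟨g, rfl⟩ := MulAction.exists_smul_eq GG P0 P
  exact ⟨g, by rw [Sylow.coe_subgroup_smul, ← hP0]; rfl⟩

theorem sylow_sq (P : Sylow 2 GG) : Nat.card P = 8 ∧ ∀ x ∈ P, x * x = 1 := by
  obtain ⟨g, hg⟩ := sylow_conj X hΦ P
  refine ⟨?_, fun x hx => ?_⟩
  · rw [show Nat.card P = Nat.card (P : Subgroup GG) from rfl, hg,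
      Subgroup.card_map_of_injective (MulAut.conj g).injective, card_S0 X hΦ]
  · obtain ⟨y, hy, rfl⟩ := Subgroup.mem_map.1 (hg ▸ hx : x ∈ (S0 X Φ).map (MulAut.conj g).toMonoidHom)
    obtain ⟨p, rfl⟩ := (mem_S0 X hΦ).1 hy
    rw [← map_mul, elt_sq X hΦ, map_one]

theorem qh_mem_normalizer : Φ qh ∈ Subgroup.normalizer (S0 X Φ : Set GG) := by
  classical
  have hmaps : ∀ x ∈ S0 X Φ, Φ qh * x * (Φ qh)⁻¹ ∈ S0 X Φ := by
    intro x hx
    obtain ⟨⟨b, i⟩, rfl⟩ := (mem_S0 X hΦ).1 hx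
    refine (mem_S0 X hΦ).2 ⟨(b, qp i), ?_⟩
    rw [mul_inv_eq_iff_eq_mul, elt, elt]
    cases b <;> simp only [Bool.false_eq_true, ↓reduceIte, one_mul]
    · rw [← map_mul, ← map_mul, qh_conj]
    · rw [← mul_assoc, ← (hΦ.comm qh).eq, mul_assoc, mul_assoc, ← map_mul, ← map_mul, qh_conj]
  refine Subgroup.mem_normalizer_iff.2 fun y => ⟨hmaps y, fun hy => ?_⟩
  let f : S0 X Φ → S0 X Φ := fun x => ⟨_, hmaps x.1 x.2⟩
  have hf : Function.Injective f := fun a b h =>
    Subtype.ext (mul_left_cancel (mul_right_cancel (congrArg Subtype.val h)))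
  obtain ⟨x, hx⟩ := Finite.surjective_of_injective hf ⟨_, hy⟩
  rw [← mul_left_cancel (mul_right_cancel (congrArg Subtype.val hx : Φ qh * x * (Φ qh)⁻¹ = _))]
  exact x.2

theorem no_fixed (hm : 1 ≤ m) {x : GG} (hx : x ∈ S0 X Φ)
    (hfix : ∀ n ∈ Subgroup.normalizer (S0 X Φ : Set GG), n * x * n⁻¹ = x) : x = 1 := by
  classical
  haveI : Fact (Nat.Prime 2) := ⟨Nat.prime_two⟩
  obtain ⟨P, hP⟩ := exists_sylow_two X hΦ
  letI cg : CommGroup (S0 X Φ) :=
    { (inferInstance : Group (S0 X Φ)) with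
      mul_comm := fun a b => Subtype.ext (S0_comm X hΦ a.2 b.2) }
  haveI : IsMulCommutative (P : Subgroup GG) := ⟨⟨fun a b =>
    Subtype.ext (S0_comm X hΦ (hP ▸ a.2) (hP ▸ b.2))⟩⟩
  have key : ∀ (k : ℕ) (g₀ : GG), g₀⁻¹ * x ^ k * g₀ ∈ S0 X Φ → g₀⁻¹ * x ^ k * g₀ = x ^ k := by
    intro k g₀ hk
    obtain ⟨n, hn, hne⟩ := Sylow.conj_eq_normalizer_conj_of_mem P (x ^ k) g₀
      (by rw [← SetLike.mem_coe, ← Sylow.coe_coe, hP]; exact pow_mem hx k)
      (by rw [← SetLike.mem_coe, ← Sylow.coe_coe, hP]; exact hk)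
    have hn' : n ∈ Subgroup.normalizer (S0 X Φ : Set GG) := by rw [← hP]; exact hn
    have h1 := hfix n⁻¹ (inv_mem hn')
    rw [inv_inv] at h1
    rw [hne]
    have h2 := (MulAut.conj n⁻¹).toMonoidHom.map_pow x k
    simp only [MulEquiv.coe_toMonoidHom, MulAut.conj_apply, inv_inv, h1] at h2
    exact h2
  have h1 := MonoidHom.transfer_eq_pow (MonoidHom.id (S0 X Φ)) x key
  have hker : x ∈ (MonoidHom.transfer (MonoidHom.id (S0 X Φ))).ker := by
    refine Abelianization.commutator_subset_ker _ ?_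
    rw [Twist.G2.perfect X hm |> (fun h => (h : commutator GG = ⊤))]
    exact Subgroup.mem_top x
  rw [MonoidHom.mem_ker, h1] at hker
  have h2 : x ^ (S0 X Φ).index = 1 := congrArg Subtype.val hker
  have hsq : x ^ 2 = 1 := by
    obtain ⟨p, rfl⟩ := (mem_S0 X hΦ).1 hx
    rw [sq, elt_sq X hΦ]
  have hodd : ¬ 2 ∣ (S0 X Φ).index := hP ▸ P.not_dvd_index
  have h3 := pow_gcd_eq_one.2 ⟨hsq, h2⟩
  rwa [Nat.Coprime.gcd_eq_one ((Nat.Prime.coprime_iff_not_dvd Nat.prime_two).2 hodd), pow_one] at h3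

omit hΦ in
/-- The action of the normaliser on the standard Sylow subgroup. -/
noncomputable abbrev act (Φ : SL(2, K) →* ↥(twistedG2 K (3 ^ m))) :
    Subgroup.normalizer (S0 X Φ : Set GG) →* MulAut (S0 X Φ) :=
  Subgroup.normalizerMonoidHom (S0 X Φ)

theorem card_normalizer_eq :
    Nat.card (Subgroup.normalizer (S0 X Φ : Set GG)) = 8 * Nat.card (act X Φ).range := by
  have h1 := Subgroup.card_mul_index (act X Φ).ker
  rw [Subgroup.index_ker, Subgroup.normalizerMonoidHom_ker, centralizer_S0 X hΦ,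
    Nat.card_congr (Subgroup.subgroupOfEquivOfLe Subgroup.le_normalizer).toEquiv, card_S0 X hΦ] at h1
  exact h1.symm

theorem card_act (hm : 1 ≤ m) : Nat.card (act X Φ).range = 21 := by
  classical
  haveI : Fact (Nat.Prime 2) := ⟨Nat.prime_two⟩
  letI cg : CommGroup (S0 X Φ) :=
    { (inferInstance : Group (S0 X Φ)) with
      mul_comm := fun a b => Subtype.ext (S0_comm X hΦ a.2 b.2) }
  obtain ⟨n, hn⟩ : ∃ n, n = Nat.card (act X Φ).range := ⟨_, rfl⟩
  rw [← hn]
  have hdvd : n ∣ 168 := by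
    have h := Cfsg.Agent.GroupStructure3.FrattiniAut.card_mulAut_elementary (Q := S0 X Φ) (p := 2) (r := 3)
      (by rw [card_S0 X hΦ]; norm_num) (fun x => Subtype.ext (by
        obtain ⟨p, hp⟩ := (mem_S0 X hΦ).1 x.2
        rw [Subgroup.coe_pow, Subgroup.coe_one, hp, sq, elt_sq X hΦ]))
    rw [show (∏ i ∈ Finset.range 3, (2 ^ 3 - 2 ^ i)) = 168 by decide] at h
    rw [hn, ← h]
    exact Subgroup.card_subgroup_dvd_card _
  have hodd : ¬ 2 ∣ n := by
    intro h2
    have h16 : 2 ^ 4 ∣ Nat.card GG := by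
      refine dvd_trans ?_ (Subgroup.card_subgroup_dvd_card (Subgroup.normalizer (S0 X Φ : Set GG)))
      rw [card_normalizer_eq X hΦ, ← hn]
      exact (show (2 : ℕ) ^ 4 = 8 * 2 by norm_num) ▸ mul_dvd_mul_left 8 h2
    have := (Nat.Prime.pow_dvd_iff_le_factorization Nat.prime_two Nat.card_pos.ne').1 h16
    rw [factorization_two X] at this
    omega
  have h21 : n ∣ 21 := by
    have : n ∣ 2 ^ 3 * 21 := by norm_num; exact hdvd
    exact (Nat.Coprime.pow_right 3 ((Nat.Prime.coprime_iff_not_dvd Nat.prime_two).2 hodd).symm).dvd_of_dvd_mul_left this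
  -- the element permuting the units
  let α : (act X Φ).range := ⟨_, ⟨Φ qh, qh_mem_normalizer X hΦ⟩, rfl⟩
  have hα : ∀ i, ((α : MulAut (S0 X Φ)) ⟨elt X Φ (false, i), (mem_S0 X hΦ).2 ⟨_, rfl⟩⟩ : GG) =
      elt X Φ (false, qp i) := fun i => by
    show Φ qh * elt X Φ (false, i) * (Φ qh)⁻¹ = _
    simp only [elt, Bool.false_eq_true, ↓reduceIte, one_mul]
    rw [mul_inv_eq_iff_eq_mul, ← map_mul, ← map_mul, qh_conj]
  have hαp : ∀ k : ℕ, ∀ i, (((α : MulAut (S0 X Φ)) ^ k) ⟨elt X Φ (false, i), (mem_S0 X hΦ).2 ⟨_, rfl⟩⟩ : GG) =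
      elt X Φ (false, qp^[k] i) := by
    intro k
    induction k with
    | zero => intro i; rfl
    | succ k ih =>
      intro i
      rw [pow_succ, MulAut.mul_apply,
        show (α : MulAut (S0 X Φ)) ⟨elt X Φ (false, i), (mem_S0 X hΦ).2 ⟨_, rfl⟩⟩ =
          ⟨elt X Φ (false, qp i), (mem_S0 X hΦ).2 ⟨_, rfl⟩⟩ from Subtype.ext (hα i), ih,
        Function.iterate_succ_apply]
  have h3 : 3 ∣ n := by
    by_contra h3
    have h7 : n ∣ 7 := ((Nat.Prime.coprime_iff_not_dvd Nat.prime_three).2 h3).symm.dvd_of_dvd_mul_left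
      (show n ∣ 3 * 7 by norm_num; exact h21)
    have e : (α : MulAut (S0 X Φ)) ^ 7 = 1 := by
      have : α ^ 7 = 1 := by
        obtain ⟨c, hc⟩ := h7
        rw [hc, pow_mul, hn, pow_card_eq_one', one_pow]
      exact congrArg Subtype.val this
    have h := hαp 7 1
    rw [e] at h
    exact absurd (Prod.ext_iff.1 (elt_injective X hΦ h)).2 (by decide)
  have h7 : 7 ∣ n := by
    by_contra h7
    have hn3 : n = 3 := Nat.dvd_antisymm
      (((Nat.Prime.coprime_iff_not_dvd (by norm_num : Nat.Prime 7)).2 h7).symm.dvd_of_dvd_mul_left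
        (show n ∣ 7 * 3 by norm_num; exact h21)) h3
    haveI : Fact (Nat.Prime 3) := ⟨Nat.prime_three⟩
    have hp : IsPGroup 3 (act X Φ).range := IsPGroup.of_card (n := 1) (by rw [← hn, hn3, pow_one])
    have hmod := hp.card_modEq_card_fixedPoints (S0 X Φ)
    rw [card_S0 X hΦ] at hmod
    obtain ⟨s, hs, hs1⟩ : ∃ s ∈ MulAction.fixedPoints (act X Φ).range (S0 X Φ), s ≠ 1 := by
      by_contra hc
      push Not at hc
      have : Nat.card (MulAction.fixedPoints (act X Φ).range (S0 X Φ)) = 1 := by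
        rw [Nat.card_eq_one_iff_unique]
        exact ⟨⟨fun a b => Subtype.ext ((hc _ a.2).trans (hc _ b.2).symm)⟩,
          ⟨⟨1, fun g => smul_one g⟩⟩⟩
      rw [this] at hmod
      exact absurd hmod (by decide)
    refine hs1 (Subtype.ext (no_fixed X hΦ hm s.2 fun g hg => ?_))
    exact congrArg Subtype.val (hs ⟨_, ⟨g, hg⟩, rfl⟩)
  exact Nat.dvd_antisymm h21
    (Nat.Coprime.mul_dvd_of_dvd_of_dvd (by norm_num : Nat.Coprime 3 7) h3 h7)

theorem card_normalizer (hm : 1 ≤ m) :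
    Nat.card (Subgroup.normalizer (S0 X Φ : Set GG)) = 168 := by
  rw [card_normalizer_eq X hΦ, card_act X hΦ hm]

theorem sylow_two_structure (hm : 1 ≤ m) (P : Sylow 2 GG) :
    Subgroup.centralizer ((P : Subgroup GG) : Set GG) = P ∧
      Nat.card (Subgroup.normalizer ((P : Subgroup GG) : Set GG)) = 168 := by
  obtain ⟨g, hg⟩ := sylow_conj X hΦ P
  rw [hg]
  constructor
  · ext x
    constructor
    · intro hx
      refine Subgroup.mem_map.2 ⟨g⁻¹ * x * g, ?_, by simp [mul_assoc]⟩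
      rw [← centralizer_S0 X hΦ, Subgroup.mem_centralizer_iff]
      intro y hy
      have h := Subgroup.mem_centralizer_iff.1 hx (g * y * g⁻¹) (Subgroup.mem_map.2 ⟨y, hy, rfl⟩)
      calc y * (g⁻¹ * x * g) = g⁻¹ * (g * y * g⁻¹ * x) * g := by group
        _ = g⁻¹ * (x * (g * y * g⁻¹)) * g := by rw [h]
        _ = g⁻¹ * x * g * y := by group
    · intro hx
      obtain ⟨y, hy, rfl⟩ := Subgroup.mem_map.1 hx
      refine Subgroup.mem_centralizer_iff.2 fun z hz => ?_
      obtain ⟨w, hw, rfl⟩ := Subgroup.mem_map.1 hz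
      rw [← map_mul, S0_comm X hΦ hw hy, map_mul]
  · rw [← Subgroup.map_equiv_normalizer_eq, Subgroup.card_map_of_injective (MulAut.conj g).injective,
      card_normalizer X hΦ hm]

theorem involution_conj (hm : 1 ≤ m) {s : GG} (hs1 : s ≠ 1) (hs2 : s * s = 1) :
    ∃ g : GG, s = g * torusHom X (-1) * g⁻¹ := by
  classical
  haveI : Fact (Nat.Prime 2) := ⟨Nat.prime_two⟩
  have hpg : IsPGroup 2 (Subgroup.zpowers s) := IsPGroup.of_card (n := 1) (by
    rw [Nat.card_zpowers, pow_one]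
    exact orderOf_eq_prime (by rw [sq, hs2]) hs1)
  obtain ⟨P, hP⟩ := hpg.exists_le_sylow
  obtain ⟨g, hg⟩ := sylow_conj X hΦ P
  obtain ⟨y, hy, rfl⟩ := Subgroup.mem_map.1 (hg ▸ hP (Subgroup.mem_zpowers s) :
    s ∈ (S0 X Φ).map (MulAut.conj g).toMonoidHom)
  have hy1 : y ≠ 1 := fun e => hs1 (by rw [e, map_one])
  suffices h : ∃ n : GG, y = n * torusHom X (-1) * n⁻¹ by
    obtain ⟨n, rfl⟩ := h
    exact ⟨g * n, by simp [mul_assoc]⟩
  haveI : Fact (Nat.Prime 7) := ⟨by norm_num⟩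
  obtain ⟨β, hβ⟩ := exists_prime_orderOf_dvd_card' 7
    (show 7 ∣ Nat.card (act X Φ).range by rw [card_act X hΦ hm]; norm_num)
  have hβ7 : Nat.card (Subgroup.zpowers β) = 7 := by rw [Nat.card_zpowers, hβ]
  let B := Subgroup.zpowers β
  have hfix : Nat.card (MulAction.fixedPoints B (S0 X Φ)) = 1 := by
    have hmod := (IsPGroup.of_card (n := 1) (by rw [hβ7, pow_one]) : IsPGroup 7 B).card_modEq_card_fixedPoints
      (S0 X Φ)
    have hle : Nat.card (MulAction.fixedPoints B (S0 X Φ)) ≤ 8 := by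
      rw [← card_S0 X hΦ]; exact Nat.card_le_card_of_injective _ Subtype.val_injective
    have hne8 : Nat.card (MulAction.fixedPoints B (S0 X Φ)) ≠ 8 := by
      intro h8
      have hsurj := ((Nat.bijective_iff_injective_and_card
        (Subtype.val : MulAction.fixedPoints B (S0 X Φ) → S0 X Φ)).2
          ⟨Subtype.val_injective, by rw [h8, card_S0 X hΦ]⟩).2
      have : β = 1 := Subtype.ext (MulEquiv.ext fun x => by
        obtain ⟨⟨z, hz⟩, rfl⟩ := hsurj x
        exact hz ⟨β, Subgroup.mem_zpowers β⟩)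
      rw [this, orderOf_one] at hβ
      norm_num at hβ
    rw [card_S0 X hΦ] at hmod
    unfold Nat.ModEq at hmod
    omega
  let j0 : S0 X Φ := ⟨torusHom X (-1), (mem_S0 X hΦ).2 ⟨(true, 0), by simp [elt, qv]⟩⟩
  let y0 : S0 X Φ := ⟨y, hy⟩
  have hone : ∀ x ∈ MulAction.fixedPoints B (S0 X Φ), x = (1 : S0 X Φ) := by
    intro x hx
    obtain ⟨hsub, -⟩ := Nat.card_eq_one_iff_unique.1 hfix
    exact congrArg Subtype.val (hsub.elim ⟨x, hx⟩ ⟨1, fun b => smul_one b⟩)
  have hj1 : j0 ≠ 1 := fun e => by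
    have e' : torusHom X (-1) = torusHom X 1 := (congrArg Subtype.val e).trans (map_one _).symm
    exact neg_one_ne_one (K := K) (congrArg Units.val (torusHom_injective X e'))
  have horb : MulAction.orbit B j0 = {x | x ≠ 1} := by
    refine Set.eq_of_subset_of_ncard_le ?_ ?_ (Set.toFinite _)
    · rintro _ ⟨b, rfl⟩ e
      exact hj1 (by rwa [smul_eq_iff_eq_inv_smul, smul_one] at e)
    · have h1 : Nat.card (MulAction.orbit B j0) = 7 := by
        have h := MulAction.card_orbit_mul_card_stabilizer_eq_card_group B j0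
        simp only [← Nat.card_eq_fintype_card] at h
        rcases (Nat.dvd_prime (Fact.out : Nat.Prime 7)).1 (hβ7 ▸ Dvd.intro _ h) with h1 | h1
        · exfalso
          refine hj1 (hone j0 fun b => ?_)
          obtain ⟨hsub, -⟩ := Nat.card_eq_one_iff_unique.1 h1
          exact congrArg Subtype.val (hsub.elim ⟨b • j0, ⟨b, rfl⟩⟩ ⟨j0, MulAction.mem_orbit_self j0⟩)
        · exact h1
      rw [← Nat.card_coe_set_eq, ← Nat.card_coe_set_eq, h1]
      haveI := Fintype.ofFinite (S0 X Φ)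
      have h2 := Nat.card_eq_fintype_card (α := {x : S0 X Φ // x ≠ 1})
      rw [Fintype.card_subtype_compl, Fintype.card_subtype_eq, ← Nat.card_eq_fintype_card,
        card_S0 X hΦ] at h2
      exact le_of_eq h2
  obtain ⟨b, hb⟩ : y0 ∈ MulAction.orbit B j0 := by
    rw [horb]
    exact fun e => hy1 (congrArg Subtype.val e)
  obtain ⟨⟨nn, hnn⟩, hn'⟩ := b.1.2
  refine ⟨nn, ?_⟩
  have : (y0 : GG) = ((b.1.1 : MulAut (S0 X Φ)) j0 : GG) := congrArg Subtype.val hb.symm
  rw [← hn'] at this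
  exact this

end Cfsg.Agent.Ree
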