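import Cfsg.Agent.Lib.Ree.Solvable
import Cfsg.Agent.Lib.Suzuki.Multiplier

/-!
The preimages of the Sylow 2-subgroups and of the Sylow 3-subgroups in a central extension of a
small Ree group: the derived subgroup meets the kernel trivially.
-/

set_option autoImplicit false
set_option linter.unusedSectionVars false
set_option linter.style.haveILetI false

open scoped Matrix Pointwise MatrixGroups commutatorElement

namespace Cfsg.Agent.Ree

namespace Central

variable {Γ G : Type*} [Group Γ] [Group G] (σ : Γ →* G) (hsur : Function.Surjective σ)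

/-- A chosen lift. -/
noncomputable def L (g : G) : Γ := Function.surjInv hsur g

@[simp] theorem sigma_L (g : G) : σ (L σ hsur g) = g := Function.surjInv_eq hsur g

/-- The commutator of chosen lifts. -/
noncomputable def cm (p q : G) : Γ := ⁅L σ hsur p, L σ hsur q⁆

theorem sigma_cm (p q : G) : σ (cm σ hsur p q) = ⁅p, q⁆ := by
  rw [cm, map_commutatorElement, sigma_L, sigma_L]

theorem cm_ker {p q : G} (h : Commute p q) : σ (cm σ hsur p q) = 1 := by
  rw [sigma_cm, commutatorElement_eq_one_iff_mul_comm.2 h.eq]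

variable (hc : σ.ker ≤ Subgroup.center Γ)
include hc

theorem central {z : Γ} (hz : σ z = 1) (g : Γ) : Commute g z :=
  Subgroup.mem_center_iff.1 (hc (MonoidHom.mem_ker.2 hz)) g

theorem exists_central {g g' : Γ} (h : σ g = σ g') : ∃ z, σ z = 1 ∧ g' = g * z :=
  ⟨g⁻¹ * g', by rw [map_mul, map_inv, h, inv_mul_cancel], (mul_inv_cancel_left g g').symm⟩

theorem conj_congr {t t' : Γ} (h : σ t = σ t') (g : Γ) : t * g * t⁻¹ = t' * g * t'⁻¹ := by
  obtain ⟨z, hz, rfl⟩ := exists_central σ hc h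
  rw [mul_inv_rev, show t * z * g * (z⁻¹ * t⁻¹) = t * (z * g) * (z⁻¹ * t⁻¹) by group,
    ← (central σ hc hz g).eq]
  group

theorem comm_congr {g g' h h' : Γ} (hg : σ g = σ g') (hh : σ h = σ h') : ⁅g, h⁆ = ⁅g', h'⁆ := by
  rw [commutatorElement_def, commutatorElement_def, conj_congr σ hc hg h]
  obtain ⟨z, hz, rfl⟩ := exists_central σ hc hh
  rw [mul_inv_rev, show g' * (h * z) * g'⁻¹ * (z⁻¹ * h⁻¹) = g' * h * (z * g'⁻¹) * z⁻¹ * h⁻¹ by group,
    ← (central σ hc hz g'⁻¹).eq]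
  group

theorem comm_eq (X Y : Γ) : ⁅X, Y⁆ = cm σ hsur (σ X) (σ Y) :=
  comm_congr σ hc (sigma_L σ hsur _).symm (sigma_L σ hsur _).symm

theorem cm_conj (T : Γ) (p q : G) :
    T * cm σ hsur p q * T⁻¹ = cm σ hsur (σ T * p * (σ T)⁻¹) (σ T * q * (σ T)⁻¹) := by
  have : T * cm σ hsur p q * T⁻¹ = ⁅T * L σ hsur p * T⁻¹, T * L σ hsur q * T⁻¹⁆ := by
    simp only [cm, commutatorElement_def]
    group
  rw [this, comm_eq σ hsur hc]
  simp

theorem cm_mul_left (p p' q : G) : cm σ hsur (p * p') q =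
    L σ hsur p * cm σ hsur p' q * (L σ hsur p)⁻¹ * cm σ hsur p q := by
  have e : cm σ hsur (p * p') q = ⁅L σ hsur p * L σ hsur p', L σ hsur q⁆ := by
    rw [comm_eq σ hsur hc (L σ hsur p * L σ hsur p') (L σ hsur q), map_mul, sigma_L, sigma_L, sigma_L]
  rw [e]
  simp only [cm, commutatorElement_def]
  group

theorem cm_mul_right (p q q' : G) : cm σ hsur p (q * q') =
    cm σ hsur p q * (L σ hsur q * cm σ hsur p q' * (L σ hsur q)⁻¹) := by
  have e : cm σ hsur p (q * q') = ⁅L σ hsur p, L σ hsur q * L σ hsur q'⁆ := by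
    rw [comm_eq σ hsur hc (L σ hsur p) (L σ hsur q * L σ hsur q'), map_mul, sigma_L, sigma_L, sigma_L]
  rw [e]
  simp only [cm, commutatorElement_def]
  group

theorem cm_add_left {p p' q : G} (h : Commute p' q) :
    cm σ hsur (p * p') q = cm σ hsur p q * cm σ hsur p' q := by
  have h1 := central σ hc (cm_ker σ hsur h)
  rw [cm_mul_left σ hsur hc, (h1 _).eq, mul_inv_cancel_right, (h1 _).eq]

theorem cm_add_right {p q q' : G} (h : Commute p q') :
    cm σ hsur p (q * q') = cm σ hsur p q * cm σ hsur p q' := by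
  have h1 := central σ hc (cm_ker σ hsur h)
  rw [cm_mul_right σ hsur hc, (h1 _).eq, mul_inv_cancel_right]

theorem comm_lift {p q : G} (h : cm σ hsur p q = 1) {X Y : Γ} (hX : σ X = p) (hY : σ Y = q) :
    Commute X Y := by
  have e := comm_eq σ hsur hc X Y
  rw [hX, hY, h, commutatorElement_eq_one_iff_mul_comm] at e
  exact e

theorem cm_swap {p q : G} (h : cm σ hsur p q = 1) : cm σ hsur q p = 1 := by
  rw [cm, ← commutatorElement_inv]
  rw [cm] at h
  rw [h, inv_one]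

end Central

open Cfsg.Lie Cfsg.Agent.Chevalley Cfsg.Agent.Chevalley.Cert Cfsg.Agent.Chevalley.Group
  Cfsg.Agent.Chevalley.Twist Cfsg.Agent.Chevalley.Twist.G2 Cfsg.Agent.Chevalley.SL2
open Central

variable {K : Type*} [Field K] [Fintype K] [CharP K 3] {m : ℕ}

local notation "GG" => twistedG2 K (3 ^ m)
local notation "qq" => Fintype.card K

theorem even_add {A : Type*} [CommGroup A] (B : K → A) (hl : ∀ x x', B (x + x') = B x * B x')
    (he : ∀ x, B (-x) = B x) (x : K) : B x = 1 := by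
  have h0 : B 0 = 1 := mul_eq_left.1 (by rw [← hl, add_zero] : B 0 * B 0 = B 0)
  have h2 : B x * B x = 1 := by
    nth_rewrite 2 [← he x]
    rw [← hl, add_neg_cancel, h0]
  have h3 : B x * B x * B x = 1 := by
    rw [← hl, ← hl, show x + x + x = 0 by linear_combination x * three (K := K), h0]
  rwa [h2, one_mul] at h3

theorem diag_zero (hwx : ∃ w : K, w ≠ 0 ∧ w ≠ 1 ∧ w ≠ -1) {A : Type*} [CommGroup A] (B : K → K → A)
    (hl : ∀ x x' y, B (x + x') y = B x y * B x' y) (hr : ∀ x y y', B x (y + y') = B x y * B x y')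
    (hs : ∀ μ : K, μ ≠ 0 → ∀ x y, B (μ * x) (μ * y) = B x y) : ∀ x y, B x y = 1 := by
  refine Suzuki.Multiplier.pairing_eq_one B (fun w => w⁻¹) hl hr (fun x w hw => ?_)
    (fun y hy => ⟨y⁻¹, inv_ne_zero hy, inv_inv y⟩) ?_
  · rw [← hs w hw x w⁻¹, mul_inv_cancel₀ hw, mul_comm]
  · obtain ⟨w, h0, h1, hm1⟩ := hwx
    have hw1 : 1 + w ≠ 0 := fun e => hm1 (by linear_combination e)
    refine ⟨1, w, one_ne_zero, h0, hw1, ?_, ?_⟩
    · rw [inv_one]
      intro e
      have : w * (1 + w⁻¹) = 0 := by rw [e, mul_zero]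
      rw [mul_add, mul_one, mul_inv_cancel₀ h0] at this
      exact hw1 (by linear_combination this)
    · rw [inv_one]
      intro e
      field_simp at e
      have : (w - 1) ^ 2 = 0 := by linear_combination -e - w * three (K := K)
      exact h1 (sub_eq_zero.1 (sq_eq_zero_iff.1 this))

variable {hK : Fintype.card K = 3 ^ (2 * m + 1)} (X : Setup (K := K) hK)
include X

/-- A square is a value of the second torus character. -/
theorem exists_a10 {s : K} (hs : s ≠ 0) : ∃ y : Kˣ, a10 m y = s ^ 2 := by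
  classical
  let F : Kˣ →* Kˣ := MonoidHom.mk' (fun y => (y ^ 3 ^ m) ^ 3 * y⁻¹) fun a b => by
    simp only [mul_pow, mul_inv]
    exact mul_mul_mul_comm _ _ _ _
  have hker : ∀ y : Kˣ, F y = 1 ↔ y ^ 2 = 1 := fun y => by
    constructor
    · intro h
      exact a10_triv X (show a10 m y = 1 from congrArg Units.val h)
    · intro h
      have h' : (y : K) ^ 2 = 1 := by rw [← Units.val_pow_eq_pow_val, h, Units.val_one]
      refine Units.ext ?_
      show a10 m y = 1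
      rcases sq_eq_one_iff.1 h' with e | e
      · rw [a10_eq, e, TT_one, inv_one, one_mul]
      · rw [a10_eq, e, TT_neg, TT_one]; norm_num
  obtain ⟨k, hk⟩ : ∃ k, 3 ^ m * 3 = 2 * k + 1 := ((show Odd 3 by decide).pow.mul (by decide))
  have hle : F.range ≤ (powMonoidHom 2 : Kˣ →* Kˣ).range := by
    rintro _ ⟨y, rfl⟩
    refine ⟨y ^ k, ?_⟩
    show (y ^ k) ^ 2 = (y ^ 3 ^ m) ^ 3 * y⁻¹
    rw [← pow_mul, ← pow_mul, hk, pow_succ, mul_inv_cancel_right, mul_comm]
  have hk2 : F.ker = (powMonoidHom 2 : Kˣ →* Kˣ).ker := by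
    ext y
    exact hker y
  have heq := Subgroup.eq_of_le_of_card_ge hle
    (by rw [← Subgroup.index_ker, ← Subgroup.index_ker, hk2])
  obtain ⟨y, hy⟩ : Units.mk0 s hs ^ 2 ∈ F.range := heq ▸ ⟨_, rfl⟩
  refine ⟨y, ?_⟩
  show ((F y : Kˣ) : K) = s ^ 2
  rw [hy]
  simp

theorem square_or (μ : K) (hμ : μ ≠ 0) : ∃ ε s : K, (ε = 1 ∨ ε = -1) ∧ s ≠ 0 ∧ μ = ε * s ^ 2 := by
  classical
  rcases em (IsSquare μ) with ⟨s, hs⟩ | hn
  · exact ⟨1, s, Or.inl rfl, fun e => hμ (by rw [hs, e, mul_zero]), by rw [hs]; ring⟩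
  · have hm1 : ¬ IsSquare (-1 : K) := fun ⟨s, hs⟩ =>
      neg_one_nonsquare (hK := hK) s (by linear_combination -hs)
    have hsq : quadraticChar K (-μ) = 1 := by
      rw [neg_eq_neg_one_mul, map_mul, quadraticChar_neg_one_iff_not_isSquare.2 hm1,
        quadraticChar_neg_one_iff_not_isSquare.2 hn]
      norm_num
    obtain ⟨s, hs⟩ := (quadraticChar_one_iff_isSquare (neg_ne_zero.2 hμ)).1 hsq
    exact ⟨-1, s, Or.inr rfl, fun e => hμ (neg_eq_zero.1 (by rw [hs, e, mul_zero])),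
      by rw [show μ = -(-μ) by ring, hs]; ring⟩

theorem a6_recover (y : Kˣ) : (y : K) = (a6 m y) ^ 2 * TT m (a6 m y) := by
  have hT : TT m (y : K) ≠ 0 := by rw [TT]; exact pow_ne_zero _ (pow_ne_zero _ y.ne_zero)
  have h1 : a6 m y * TT m (y : K) = (y : K) ^ 2 := by
    rw [a6_eq, mul_right_comm, inv_mul_cancel₀ hT, one_mul]
  have h2 : TT m (a6 m y) * (y : K) ^ 3 = TT m (y : K) ^ 2 := by
    have := congrArg (TT m) h1
    rw [TT_mul, TT_TT hK, sq, TT_mul, ← sq] at this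
    exact this
  refine mul_right_cancel₀ (mul_ne_zero (pow_ne_zero 3 y.ne_zero) (pow_ne_zero 2 hT)) ?_
  linear_combination -(a6 m y * TT m (y : K)) ^ 2 * h2 - TT m (y : K) ^ 2 * (a6 m y * TT m (y : K) + (y : K) ^ 2) * h1

theorem weight_witness (hm : 1 ≤ m) : ∃ w : K, w ≠ 0 ∧ 1 + w ≠ 0 ∧
    ((1 + w) ^ 2 * TT m (1 + w))⁻¹ ≠ 1 + (w ^ 2 * TT m w)⁻¹ := by
  classical
  obtain ⟨r, hr⟩ : ∃ r, r = 3 ^ m * 3 := ⟨_, rfl⟩
  have hr9 : 9 ≤ r := by
    rw [hr, ← pow_succ]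
    exact (show 3 ^ 2 = 9 by norm_num) ▸ Nat.pow_le_pow_right (by norm_num) (by omega)
  obtain ⟨P, hP⟩ : ∃ P : Polynomial K, P = (Polynomial.X + 1) ^ 2 * (Polynomial.X ^ r + 1) *
      (Polynomial.X ^ (r + 2) + 1) - Polynomial.X ^ (r + 2) :=
    ⟨_, rfl⟩
  have hdeg : P.natDegree ≤ 2 * r + 4 := by
    rw [hP]
    refine (Polynomial.natDegree_sub_le _ _).trans (max_le ?_ ?_)
    · refine Polynomial.natDegree_mul_le.trans ?_
      refine (add_le_add (Polynomial.natDegree_mul_le.trans (add_le_add Polynomial.natDegree_pow_le le_rfl)) le_rfl).trans ?_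
      have e1 : (Polynomial.X + 1 : Polynomial K).natDegree ≤ 1 := by compute_degree
      have e2 : (Polynomial.X ^ r + 1 : Polynomial K).natDegree ≤ r := by
        refine (Polynomial.natDegree_add_le _ _).trans (max_le (by simp) (by simp))
      have e3 : (Polynomial.X ^ (r + 2) + 1 : Polynomial K).natDegree ≤ r + 2 := by
        refine (Polynomial.natDegree_add_le _ _).trans (max_le (by simp) (by simp))
      omega
    · rw [Polynomial.natDegree_X_pow]
      omega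
  have hP0 : P ≠ 0 := fun h => by
    have := congrArg (Polynomial.eval (0 : K)) h
    simp [hP, show r ≠ 0 by omega] at this
  obtain ⟨w, hw⟩ : ∃ w : K, w ∉ ({0, -1} : Finset K) ∪ P.roots.toFinset := by
    by_contra hcon
    push Not at hcon
    have h1 := Finset.card_le_card (s := Finset.univ) fun x _ => hcon x
    have h3 := P.roots.toFinset_card_le
    have h4 := P.card_roots'
    rw [Finset.card_univ, hK] at h1
    have h5 := Finset.card_union_le ({0, -1} : Finset K) P.roots.toFinset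
    have h6 : ({0, -1} : Finset K).card ≤ 2 := Finset.card_le_two
    have h7 : 3 ^ (2 * m + 1) = r * 3 ^ m := by rw [hr, ← pow_succ, ← pow_add]; congr 1; omega
    have h8 : 3 * r ≤ r * 3 ^ m := by
      rw [mul_comm r]
      exact Nat.mul_le_mul_right r (Nat.le_self_pow (by omega) 3)
    omega
  simp only [Finset.mem_union, Finset.mem_insert, Finset.mem_singleton, Multiset.mem_toFinset,
    not_or] at hw
  obtain ⟨⟨hw0, hw1⟩, hwr⟩ := hw
  have hw1' : 1 + w ≠ 0 := fun e => hw1 (by linear_combination e)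
  refine ⟨w, hw0, hw1', fun h => hwr ?_⟩
  have hT : TT m w ≠ 0 := by rw [TT]; exact pow_ne_zero _ (pow_ne_zero _ hw0)
  have hT1 : TT m (1 + w) ≠ 0 := by rw [TT]; exact pow_ne_zero _ (pow_ne_zero _ hw1')
  have key : w ^ 2 * TT m w = (1 + w) ^ 2 * TT m (1 + w) * (w ^ 2 * TT m w + 1) := by
    field_simp at h
    linear_combination h
  have hTr : TT m w = w ^ r := by rw [hr, TT, pow_mul]
  rw [TT_add, TT_one, hTr] at key
  rw [Polynomial.mem_roots', Polynomial.IsRoot.def]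
  refine ⟨hP0, ?_⟩
  simp only [hP, Polynomial.eval_mul, Polynomial.eval_sub, Polynomial.eval_pow, Polynomial.eval_add,
    Polynomial.eval_one, Polynomial.eval_X]
  rw [pow_add w r 2]
  linear_combination -key

section Extension

variable {Φ : SL(2, K) →* ↥(twistedG2 K (3 ^ m))} (hΦ : IsEmbed X Φ)
variable {Γ : Type*} [Group Γ] (σ : Γ →* ↥(twistedG2 K (3 ^ m))) (hsur : Function.Surjective σ)
  (hc : σ.ker ≤ Subgroup.center Γ)
include hΦ hsur hc

/-! ### The prime two -/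

theorem cm_j_sw : cm σ hsur (torusHom X (-1)) (Φ sw) = 1 := by
  have hjc : ∀ i : Fin 4, Commute (torusHom X (-1)) (Φ (qv i)) := fun i => hΦ.comm _
  have hrot : ∀ i : Fin 4, cm σ hsur (torusHom X (-1)) (Φ (qv i)) =
      cm σ hsur (torusHom X (-1)) (Φ (qv (qp i))) := fun i => by
    have h := cm_conj σ hsur hc (L σ hsur (Φ qh)) (torusHom X (-1)) (Φ (qv i))
    rw [(central σ hc (cm_ker σ hsur (hjc i)) _).eq, mul_inv_cancel_right, sigma_L,
      ← (hΦ.comm qh).eq, mul_inv_cancel_right, ← map_mul, qh_conj, map_mul, mul_inv_cancel_right] at h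
    exact h
  have e1 := hrot 1
  have e2 := hrot 3
  simp only [qp, qv, Matrix.cons_val_one, Matrix.cons_val_zero, Matrix.cons_val] at e1 e2
  rw [map_mul] at e1 e2
  rw [cm_add_right σ hsur hc (hΦ.comm _)] at e1 e2
  exact mul_eq_right.1 e2

theorem commute_invol (hm : 1 ≤ m) {p q : GG} (hp : p * p = 1) (hq : q * q = 1) (h : Commute p q)
    {P Q : Γ} (hP : σ P = p) (hQ : σ Q = q) : Commute P Q := by
  refine comm_lift σ hsur hc ?_ hP hQ
  have htriv : ∀ {r : GG}, cm σ hsur r r = 1 := fun {r} => by rw [cm, commutatorElement_self]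
  have hone : ∀ {r : GG}, cm σ hsur r 1 = 1 := fun {r} => by
    have h1 := cm_add_right σ hsur hc (p := r) (q := 1) (Commute.one_right r)
    rw [mul_one] at h1
    exact (mul_eq_left.1 h1.symm)
  by_cases hp1 : p = 1
  · subst hp1; exact cm_swap σ hsur hc hone
  by_cases hq1 : q = 1
  · subst hq1; exact hone
  by_cases hpq : q = p
  · subst hpq; exact htriv
  obtain ⟨k, rfl⟩ := involution_conj X hΦ hm hp1 hp
  have hjq : Commute (torusHom X (-1)) (k⁻¹ * q * k) := by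
    simpa [mul_assoc] using h.map (MulAut.conj k⁻¹).toMonoidHom
  obtain ⟨B, hB⟩ := cent_decomp X hΦ hjq
  have hq' : k⁻¹ * q * k * (k⁻¹ * q * k) = 1 := by
    calc _ = k⁻¹ * (q * q) * k := by group
      _ = 1 := by rw [hq]; group
  have hBB : Φ (B * B) = 1 := by
    rw [map_mul]
    rcases hB with h' | h' <;> rw [h'] at hq'
    · exact hq'
    · rwa [(hΦ.comm B).symm.mul_mul_mul_comm, j_sq X hΦ, one_mul] at hq'
  have hB4 : B * B = -1 := by
    refine (phi_eq_one X hΦ hBB).resolve_left fun h' => ?_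
    have hB1 : Φ B = 1 := by
      have hd := el_det B
      have e00 := congrArg (fun A : SL(2, K) => el A 0 0) h'
      have e01 := congrArg (fun A : SL(2, K) => el A 0 1) h'
      have e10 := congrArg (fun A : SL(2, K) => el A 1 0) h'
      simp [el, Matrix.mul_apply, Fin.sum_univ_two] at e00 e01 e10 hd
      have h2 : (2 : K) ≠ 0 := fun e => neg_one_ne_one (K := K) (by linear_combination -e)
      have htr : B.1 0 0 + B.1 1 1 ≠ 0 := fun ht => h2 (by
        linear_combination -hd + B.1 0 0 * ht - e00)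
      have hb : B.1 0 1 = 0 :=
        (mul_eq_zero.1 (show B.1 0 1 * (B.1 0 0 + B.1 1 1) = 0 by linear_combination e01)).resolve_right htr
      have hcc : B.1 1 0 = 0 :=
        (mul_eq_zero.1 (show B.1 1 0 * (B.1 0 0 + B.1 1 1) = 0 by linear_combination e10)).resolve_right htr
      rw [hb, hcc] at e00 hd
      rcases sq_eq_one_iff.1 (show B.1 0 0 ^ 2 = 1 by linear_combination e00) with ha | ha
      · rw [show B = 1 by
          ext i j
          fin_cases i <;> fin_cases j <;> simp [ha, hb, hcc]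
          rw [ha] at hd; linear_combination hd, map_one]
      · rw [show B = -1 by
          ext i j
          fin_cases i <;> fin_cases j <;> simp [ha, hb, hcc]
          rw [ha] at hd; linear_combination -hd, hΦ.neg_one]
    have e3 : q = k * (k⁻¹ * q * k) * k⁻¹ := by group
    rcases hB with h'' | h'' <;> rw [h'', hB1] at e3
    · exact hq1 (by rw [e3]; group)
    · exact hpq (by rw [e3, mul_one])
  obtain ⟨C, hC⟩ := conj_sw X hΦ hB4
  have hbase : cm σ hsur (torusHom X (-1)) (Φ C * (k⁻¹ * q * k) * (Φ C)⁻¹) = 1 := by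
    rcases hB with h' | h' <;> rw [h']
    · rw [hC]; exact cm_j_sw X hΦ σ hsur hc
    · rw [show Φ C * (torusHom X (-1) * Φ B) * (Φ C)⁻¹ = torusHom X (-1) * (Φ C * Φ B * (Φ C)⁻¹) by
        rw [← mul_assoc (Φ C), ← (hΦ.comm C).eq]; group, hC,
        cm_add_right σ hsur hc (hΦ.comm sw), cm_j_sw X hΦ σ hsur hc, mul_one]
      exact htriv
  have e := cm_conj σ hsur hc (L σ hsur (k * (Φ C)⁻¹)) (torusHom X (-1))
    (Φ C * (k⁻¹ * q * k) * (Φ C)⁻¹)
  rw [hbase, mul_one, mul_inv_cancel, sigma_L] at e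
  rw [show k * (Φ C)⁻¹ * torusHom X (-1) * (k * (Φ C)⁻¹)⁻¹ =
      k * ((Φ C)⁻¹ * torusHom X (-1) * Φ C) * k⁻¹ by group,
    ← ((hΦ.comm C).inv_right).eq, inv_mul_cancel_right,
    show k * (Φ C)⁻¹ * (Φ C * (k⁻¹ * q * k) * (Φ C)⁻¹) * (k * (Φ C)⁻¹)⁻¹ = q by group] at e
  exact e.symm

/-! ### The prime three -/

omit hΦ hsur hc in
theorem w2_mul (a b a' b' : K) :
    uu X (0, a, b) * uu X (0, a', b') = uu X (0, a + a', b + b') := by
  rw [uu_mul, TT_zero]
  simp

omit hΦ hsur hc in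
theorem w2_comm (a b a' b' : K) : Commute (uu X (0, a, b)) (uu X (0, a', b')) := by
  show _ * _ = _ * _
  rw [w2_mul, w2_mul, add_comm a, add_comm b]

omit hΦ hsur hc in
theorem z_comm (t u v v' : K) : Commute (uu X (t, u, v)) (uu X (0, 0, v')) := by
  show _ * _ = _ * _
  rw [uu_mul, uu_mul, TT_zero]
  refine congrArg _ (Prod.ext ?_ (Prod.ext ?_ ?_)) <;> simp <;> ring

omit hΦ hsur hc in
theorem uu_split_parts (t u v : K) :
    uu X (t, u, v) = uu X (t, 0, 0) * uu X (0, u, v) := by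
  rw [uu_mul, TT_zero]
  refine congrArg _ (Prod.ext ?_ (Prod.ext ?_ ?_)) <;> simp <;> ring

theorem cm_zz (hm : 1 ≤ m) (v v' : K) : cm σ hsur (uu X (0, 0, v)) (uu X (0, 0, v')) = 1 := by
  letI : CommGroup σ.ker :=
    { mul_comm := fun x y => Subtype.ext (central σ hc (MonoidHom.mem_ker.1 y.2) x.1).eq }
  let B : K → K → σ.ker := fun a b =>
    ⟨cm σ hsur (uu X (0, 0, a)) (uu X (0, 0, b)), cm_ker σ hsur (w2_comm X _ _ _ _)⟩
  obtain ⟨x, hx⟩ := exists_sq_ne X hm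
  have hw : ∃ w : K, w ≠ 0 ∧ w ≠ 1 ∧ w ≠ -1 := ⟨x, x.ne_zero,
    fun e => hx (Units.ext (by simp [e])), fun e => hx (Units.ext (by simp [e]))⟩
  have hB := diag_zero hw B
    (fun a a' b => Subtype.ext (by
      show cm σ hsur _ _ = cm σ hsur _ _ * cm σ hsur _ _
      rw [← cm_add_left σ hsur hc (w2_comm X _ _ _ _), w2_mul, add_zero]))
    (fun a b b' => Subtype.ext (by
      show cm σ hsur _ _ = cm σ hsur _ _ * cm σ hsur _ _
      rw [← cm_add_right σ hsur hc (w2_comm X _ _ _ _), w2_mul, add_zero]))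
    (fun μ hμ a b => Subtype.ext (by
      show cm σ hsur _ _ = cm σ hsur _ _
      have h := cm_conj σ hsur hc (L σ hsur (torusHom X (Units.mk0 μ hμ))) (uu X (0, 0, a)) (uu X (0, 0, b))
      rw [(central σ hc (cm_ker σ hsur (w2_comm X _ _ _ _)) _).eq, mul_inv_cancel_right, sigma_L,
        tor_uu, tor_uu, mul_zero, mul_zero, Units.val_mk0] at h
      exact h.symm)) v v'
  exact congrArg Subtype.val hB

omit hΦ in
theorem cm_sign {t u v t' u' v' : K} (h : Commute (uu X (t, u, v)) (uu X (t', u', v'))) :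
    cm σ hsur (uu X (t, u, v)) (uu X (t', u', v')) =
      cm σ hsur (uu X (-t, u, -v)) (uu X (-t', u', -v')) := by
  have h' := cm_conj σ hsur hc (L σ hsur (torusHom X (-1))) (uu X (t, u, v)) (uu X (t', u', v'))
  rwa [(central σ hc (cm_ker σ hsur h) _).eq, mul_inv_cancel_right, sigma_L, tor_neg_uu,
    tor_neg_uu] at h'

theorem cm_uz (hm : 1 ≤ m) (u v : K) : cm σ hsur (uu X (0, u, 0)) (uu X (0, 0, v)) = 1 := by
  letI : CommGroup σ.ker :=
    { mul_comm := fun x y => Subtype.ext (central σ hc (MonoidHom.mem_ker.1 y.2) x.1).eq }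
  let B : K → σ.ker := fun b =>
    ⟨cm σ hsur (uu X (0, u, 0)) (uu X (0, 0, b)), cm_ker σ hsur (w2_comm X _ _ _ _)⟩
  have hB := even_add B
    (fun b b' => Subtype.ext (by
      show cm σ hsur _ _ = cm σ hsur _ _ * cm σ hsur _ _
      rw [← cm_add_right σ hsur hc (w2_comm X _ _ _ _), w2_mul, add_zero]))
    (fun b => Subtype.ext (by
      show cm σ hsur _ _ = cm σ hsur _ _
      have h := cm_sign X σ hsur hc (w2_comm X u 0 0 b)
      rw [neg_zero] at h
      exact h.symm)) v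
  exact congrArg Subtype.val hB

theorem cm_uu' (hm : 1 ≤ m) (u u' : K) : cm σ hsur (uu X (0, u, 0)) (uu X (0, u', 0)) = 1 := by
  letI : CommGroup σ.ker :=
    { mul_comm := fun x y => Subtype.ext (central σ hc (MonoidHom.mem_ker.1 y.2) x.1).eq }
  let B : K → K → σ.ker := fun a b =>
    ⟨cm σ hsur (uu X (0, a, 0)) (uu X (0, b, 0)), cm_ker σ hsur (w2_comm X _ _ _ _)⟩
  obtain ⟨x, hx⟩ := exists_sq_ne X hm
  have hw : ∃ w : K, w ≠ 0 ∧ w ≠ 1 ∧ w ≠ -1 := ⟨x, x.ne_zero,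
    fun e => hx (Units.ext (by simp [e])), fun e => hx (Units.ext (by simp [e]))⟩
  have hl : ∀ a a' b, B (a + a') b = B a b * B a' b := fun a a' b => Subtype.ext (by
    show cm σ hsur _ _ = cm σ hsur _ _ * cm σ hsur _ _
    rw [← cm_add_left σ hsur hc (w2_comm X _ _ _ _), w2_mul, add_zero])
  have hr : ∀ a b b', B a (b + b') = B a b * B a b' := fun a b b' => Subtype.ext (by
    show cm σ hsur _ _ = cm σ hsur _ _ * cm σ hsur _ _
    rw [← cm_add_right σ hsur hc (w2_comm X _ _ _ _), w2_mul, add_zero])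
  have hn1 : ∀ a b, B (-a) b = (B a b)⁻¹ := fun a b => by
    have h0 : B 0 b = 1 := mul_eq_left.1 (by rw [← hl, add_zero] : B 0 b * B 0 b = B 0 b)
    exact eq_inv_of_mul_eq_one_left (by rw [← hl, neg_add_cancel, h0])
  have hn2 : ∀ a b, B a (-b) = (B a b)⁻¹ := fun a b => by
    have h0 : B a 0 = 1 := mul_eq_left.1 (by rw [← hr, add_zero] : B a 0 * B a 0 = B a 0)
    exact eq_inv_of_mul_eq_one_left (by rw [← hr, neg_add_cancel, h0])
  have hB := diag_zero hw B hl hr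
    (fun μ hμ a b => by
      obtain ⟨ε, s, hε, hs, rfl⟩ := square_or X μ hμ
      obtain ⟨y, hy⟩ := exists_a10 X hs
      have h1 : B (s ^ 2 * a) (s ^ 2 * b) = B a b := Subtype.ext (by
        show cm σ hsur _ _ = cm σ hsur _ _
        have h := cm_conj σ hsur hc (L σ hsur (torusHom X y)) (uu X (0, a, 0)) (uu X (0, b, 0))
        rw [(central σ hc (cm_ker σ hsur (w2_comm X _ _ _ _)) _).eq, mul_inv_cancel_right, sigma_L,
          tor_uu, tor_uu, mul_zero, mul_zero, hy] at h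
        exact h.symm)
      rcases hε with rfl | rfl
      · rw [one_mul]; exact h1
      · rw [neg_one_mul, neg_mul, neg_mul, hn1, hn2, inv_inv, h1]) u u'
  exact congrArg Subtype.val hB

/-- Lifts of the abelian normal subgroup commute. -/
theorem cm_w2 (hm : 1 ≤ m) (a b a' b' : K) :
    cm σ hsur (uu X (0, a, b)) (uu X (0, a', b')) = 1 := by
  have e : ∀ a b : K, uu X (0, a, b) = uu X (0, a, 0) * uu X (0, 0, b) := fun a b => by
    rw [w2_mul, add_zero, zero_add]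
  rw [e a b, e a' b', cm_add_left σ hsur hc ((w2_comm X _ _ _ _).mul_right (w2_comm X _ _ _ _)),
    cm_add_right σ hsur hc (w2_comm X _ _ _ _), cm_add_right σ hsur hc (w2_comm X _ _ _ _),
    cm_uu' X hΦ σ hsur hc hm, cm_uz X hΦ σ hsur hc hm, cm_zz X hΦ σ hsur hc hm,
    cm_swap σ hsur hc (cm_uz X hΦ σ hsur hc hm a' b)]
  simp

theorem cm_tz (hm : 1 ≤ m) (t v : K) : cm σ hsur (uu X (t, 0, 0)) (uu X (0, 0, v)) = 1 := by
  letI : CommGroup σ.ker :=
    { mul_comm := fun x y => Subtype.ext (central σ hc (MonoidHom.mem_ker.1 y.2) x.1).eq }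
  let B : K → K → σ.ker := fun a b =>
    ⟨cm σ hsur (uu X (a, 0, 0)) (uu X (0, 0, b)), cm_ker σ hsur (z_comm X _ _ _ _)⟩
  have hB := Suzuki.Multiplier.pairing_eq_one B (fun w : K => (w⁻¹) ^ 2 * TT m (w⁻¹))
    (fun a a' b => Subtype.ext (by
      show cm σ hsur _ _ = cm σ hsur _ _ * cm σ hsur _ _
      have e : uu X (a, 0, 0) * uu X (a', 0, 0) = uu X (a + a', 0, 0) *
          uu X (0, -(TT m a' * a), -(TT m a' * a ^ 2) + a' * (TT m a' * a)) := by
        rw [uu_mul, uu_mul, TT_zero]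
        refine congrArg _ (Prod.ext ?_ (Prod.ext ?_ ?_)) <;> simp <;> ring
      have h := cm_add_left σ hsur hc (p := uu X (a, 0, 0)) (p' := uu X (a', 0, 0))
        (z_comm X a' 0 0 b)
      rw [e, cm_add_left σ hsur hc (w2_comm X _ _ _ _), cm_w2 X hΦ σ hsur hc hm, mul_one] at h
      exact h))
    (fun a b b' => Subtype.ext (by
      show cm σ hsur _ _ = cm σ hsur _ _ * cm σ hsur _ _
      rw [← cm_add_right σ hsur hc (z_comm X _ _ _ _), w2_mul, add_zero]))
    (fun a w hw => Subtype.ext (by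
      show cm σ hsur _ _ = cm σ hsur _ _
      obtain ⟨y, hy⟩ := exists_a6 X (inv_ne_zero hw)
      have h := cm_conj σ hsur hc (L σ hsur (torusHom X y)) (uu X (a * w, 0, 0)) (uu X (0, 0, 1))
      rw [(central σ hc (cm_ker σ hsur (z_comm X _ _ _ _)) _).eq, mul_inv_cancel_right, sigma_L,
        tor_uu, tor_uu, mul_zero, mul_zero, mul_zero, hy, mul_comm a w, inv_mul_cancel_left₀ hw,
        mul_one, a6_recover X y, hy] at h
      rw [mul_comm a w]
      exact h.symm))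
    (fun z hz => ⟨(a6 m (Units.mk0 z hz))⁻¹, inv_ne_zero (a6_ne _), by
      simp only [inv_inv]
      exact (a6_recover X (Units.mk0 z hz)).symm⟩)
    (by
      obtain ⟨w, hw0, hw1, hne⟩ := weight_witness X hm
      refine ⟨1, w, one_ne_zero, hw0, hw1, ?_, ?_⟩
      · intro e
        obtain ⟨y, hy⟩ := exists_a6 X (inv_ne_zero hw0)
        rw [← hy, ← a6_recover X y] at e
        simp only [inv_one, one_pow, TT_one, mul_one] at e
        have hy1 : y = -1 := Units.ext (by rw [Units.val_neg, Units.val_one]; linear_combination e)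
        rw [hy1, a6_neg_one] at hy
        have : w = -1 := by rw [← inv_inv w, ← hy]; norm_num
        exact hw1 (by rw [this]; ring)
      · simp only [inv_one, one_pow, TT_one, mul_one]
        have hTi : ∀ z : K, TT m z⁻¹ = (TT m z)⁻¹ := fun z => by simp [TT, inv_pow]
        rw [hTi, hTi, inv_pow, inv_pow, ← mul_inv, ← mul_inv]
        exact hne) t v
  exact congrArg Subtype.val hB

/-- The lifts of the centre of the unipotent subgroup are central there. -/
theorem cm_z (hm : 1 ≤ m) (t u v v' : K) : cm σ hsur (uu X (t, u, v)) (uu X (0, 0, v')) = 1 := by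
  rw [uu_split_parts X t u v, cm_add_left σ hsur hc (w2_comm X _ _ _ _), cm_tz X hΦ σ hsur hc hm,
    cm_w2 X hΦ σ hsur hc hm, one_mul]

/-- The torus equivariant lift of the abelian normal subgroup. -/
noncomputable def sec (_hΦ : IsEmbed X Φ) (σ : Γ →* ↥(twistedG2 K (3 ^ m)))
    (hsur : Function.Surjective σ) (x : Kˣ) (a b : K) : Γ :=
  cm σ hsur (torusHom X x) (uu X (0, (a10 m x - 1)⁻¹ * a, ((x : K) - 1)⁻¹ * b))

variable {x : Kˣ} (hx : x ^ 2 ≠ 1)
include hx

omit hc in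
theorem sigma_sec (a b : K) : σ (sec X hΦ σ hsur x a b) = uu X (0, a, b) := by
  have h1 : a10 m x - 1 ≠ 0 := sub_ne_zero.2 fun e => hx (a10_triv X e)
  have h2 : (x : K) - 1 ≠ 0 := sub_ne_zero.2 fun e => hx (by rw [Units.val_eq_one.1 e, one_pow])
  rw [sec, sigma_cm, commutatorElement_def, tor_uu, mul_inv_eq_iff_eq_mul, w2_mul, mul_zero]
  refine congrArg _ (Prod.ext rfl (Prod.ext ?_ ?_))
  · field_simp
    ring
  · field_simp
    ring

omit hx in
theorem sec_add (hm : 1 ≤ m) (a b a' b' : K) : sec X hΦ σ hsur x (a + a') (b + b') =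
    sec X hΦ σ hsur x a b * sec X hΦ σ hsur x a' b' := by
  have hC : ∀ a b : K, ∃ a' b', σ (cm σ hsur (torusHom X x) (uu X (0, a, b))) = uu X (0, a', b') :=
    fun a b => ⟨a10 m x * a + -a, (x : K) * b + -b, by
      rw [sigma_cm, commutatorElement_def, tor_uu, mul_inv_eq_iff_eq_mul, w2_mul, mul_zero]
      refine congrArg _ (Prod.ext rfl (Prod.ext ?_ ?_)) <;> ring⟩
  simp only [sec]
  rw [mul_add, mul_add, ← w2_mul, cm_mul_right σ hsur hc]
  congr 1
  obtain ⟨c, d, hcd⟩ := hC ((a10 m x - 1)⁻¹ * a') (((x : K) - 1)⁻¹ * b')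
  rw [mul_inv_eq_iff_eq_mul]
  exact (comm_lift σ hsur hc (cm_w2 X hΦ σ hsur hc hm _ _ _ _) (sigma_L σ hsur _) hcd).eq

theorem sec_zero (hm : 1 ≤ m) : sec X hΦ σ hsur x 0 0 = 1 := by
  have h := sec_add X hΦ σ hsur hc (x := x) hm 0 0 0 0
  rw [add_zero] at h
  exact mul_eq_left.1 h.symm

omit hx in
theorem sec_tor (y : Kˣ) (a b : K) :
    L σ hsur (torusHom X y) * sec X hΦ σ hsur x a b * (L σ hsur (torusHom X y))⁻¹ =
      sec X hΦ σ hsur x (a10 m y * a) ((y : K) * b) := by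
  rw [sec, cm_conj σ hsur hc, sigma_L, tor_uu, mul_zero]
  rw [show torusHom X y * torusHom X x * (torusHom X y)⁻¹ = torusHom X x by
    rw [← map_mul, mul_comm y x, map_mul, mul_inv_cancel_right]]
  rw [sec, mul_left_comm (a10 m y), mul_left_comm ((y : K))]

omit hsur hx hc hΦ in
theorem w2_inj {a b a' b' : K} (h : uu X (0, a, b) = uu X (0, a', b')) : a = a' ∧ b = b' :=
  ⟨(uu_inj X h).2.1, (uu_inj X h).2.2⟩

/-- The lift of a member of the abelian normal subgroup. -/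
noncomputable def s2 (hΦ : IsEmbed X Φ) (σ : Γ →* ↥(twistedG2 K (3 ^ m)))
    (hsur : Function.Surjective σ) (x : Kˣ) : ↥(twistedG2 K (3 ^ m)) → Γ :=
  Function.extend (fun p : K × K => uu X (0, p.1, p.2))
    (fun p => sec X hΦ σ hsur x p.1 p.2) fun _ => 1

omit hx hc in
theorem s2_apply (a b : K) : s2 X hΦ σ hsur x (uu X (0, a, b)) = sec X hΦ σ hsur x a b := by
  have hinj : Function.Injective fun p : K × K => uu X (0, p.1, p.2) := fun p p' h =>
    Prod.ext (w2_inj X h).1 (w2_inj X h).2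
  exact hinj.extend_apply _ _ (a, b)

/-- The defect of an element over the lift. -/
noncomputable def chi (hΦ : IsEmbed X Φ) (σ : Γ →* ↥(twistedG2 K (3 ^ m)))
    (hsur : Function.Surjective σ) (x : Kˣ) (Z : Γ) : Γ :=
  Z * (s2 X hΦ σ hsur x (σ Z))⁻¹

theorem sigma_chi {Z : Γ} {a b : K} (hZ : σ Z = uu X (0, a, b)) : σ (chi X hΦ σ hsur x Z) = 1 := by
  rw [chi, map_mul, map_inv, hZ, s2_apply X hΦ σ hsur, sigma_sec X hΦ σ hsur hx, mul_inv_cancel]

theorem chi_sec (a b : K) : chi X hΦ σ hsur x (sec X hΦ σ hsur x a b) = 1 := by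
  rw [chi, sigma_sec X hΦ σ hsur hx, s2_apply X hΦ σ hsur, mul_inv_cancel]

theorem eq_sec {Z : Γ} {a b : K} (hZ : σ Z = uu X (0, a, b)) (h : chi X hΦ σ hsur x Z = 1) :
    Z = sec X hΦ σ hsur x a b := by
  rw [chi, hZ, s2_apply X hΦ σ hsur, mul_inv_eq_one] at h
  exact h

theorem chi_one (hm : 1 ≤ m) : chi X hΦ σ hsur x 1 = 1 := by
  rw [chi, map_one, ← uu_zero X, s2_apply X hΦ σ hsur, sec_zero X hΦ σ hsur hc hx hm, inv_one, one_mul]

theorem chi_mul (hm : 1 ≤ m) {Z W : Γ} {a b a' b' : K} (hZ : σ Z = uu X (0, a, b))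
    (hW : σ W = uu X (0, a', b')) :
    chi X hΦ σ hsur x (Z * W) = chi X hΦ σ hsur x Z * chi X hΦ σ hsur x W := by
  simp only [chi, map_mul]
  rw [hZ, hW, w2_mul, s2_apply X hΦ σ hsur, s2_apply X hΦ σ hsur, s2_apply X hΦ σ hsur,
    sec_add X hΦ σ hsur hc hm, mul_inv_rev]
  have h : Commute (W * (sec X hΦ σ hsur x a' b')⁻¹) (sec X hΦ σ hsur x a b)⁻¹ :=
    (central σ hc (z := W * (sec X hΦ σ hsur x a' b')⁻¹) (by
      rw [map_mul, map_inv, hW, sigma_sec X hΦ σ hsur hx, mul_inv_cancel]) _).symm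
  calc Z * W * ((sec X hΦ σ hsur x a' b')⁻¹ * (sec X hΦ σ hsur x a b)⁻¹)
      = Z * ((W * (sec X hΦ σ hsur x a' b')⁻¹) * (sec X hΦ σ hsur x a b)⁻¹) := by group
    _ = _ := by rw [h.eq]; group

theorem chi_inv (hm : 1 ≤ m) {Z : Γ} {a b : K} (hZ : σ Z = uu X (0, a, b)) :
    chi X hΦ σ hsur x Z⁻¹ = (chi X hΦ σ hsur x Z)⁻¹ := by
  refine eq_inv_of_mul_eq_one_left ?_
  have hZ' : σ Z⁻¹ = uu X (0, -a, -b) := by
    rw [map_inv, hZ]
    exact inv_eq_of_mul_eq_one_right (by rw [w2_mul, add_neg_cancel, add_neg_cancel, uu_zero])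
  rw [← chi_mul X hΦ σ hsur hc hx hm hZ' hZ, inv_mul_cancel, chi_one X hΦ σ hsur hc hx hm]

/-- Conjugation by an element respects the lift. -/
def Equi (hΦ : IsEmbed X Φ) (σ : Γ →* ↥(twistedG2 K (3 ^ m))) (hsur : Function.Surjective σ)
    (x : Kˣ) (T : Γ) : Prop :=
  ∀ a b, ∃ a' b', σ T * uu X (0, a, b) * (σ T)⁻¹ = uu X (0, a', b') ∧
    T * sec X hΦ σ hsur x a b * T⁻¹ = sec X hΦ σ hsur x a' b'

theorem equi_tor (y : Kˣ) : Equi X hΦ σ hsur x (L σ hsur (torusHom X y)) := fun a b =>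
  ⟨a10 m y * a, (y : K) * b, by rw [sigma_L, tor_uu, mul_zero], sec_tor X hΦ σ hsur hc y a b⟩

theorem equi_mul {T T' : Γ} (h : Equi X hΦ σ hsur x T) (h' : Equi X hΦ σ hsur x T') :
    Equi X hΦ σ hsur x (T * T') := fun a b => by
  obtain ⟨a', b', e1, e2⟩ := h' a b
  obtain ⟨a'', b'', f1, f2⟩ := h a' b'
  refine ⟨a'', b'', ?_, ?_⟩
  · rw [← f1, ← e1, map_mul]; group
  · rw [← f2, ← e2]; group

theorem equi_congr {T T' : Γ} (e : σ T = σ T') (h : Equi X hΦ σ hsur x T) :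
    Equi X hΦ σ hsur x T' := fun a b => by
  obtain ⟨a', b', e1, e2⟩ := h a b
  exact ⟨a', b', e ▸ e1, by rw [← conj_congr σ hc e]; exact e2⟩

theorem equi_w2 (hm : 1 ≤ m) (a b : K) : Equi X hΦ σ hsur x (L σ hsur (uu X (0, a, b))) := fun c d =>
  ⟨c, d, by rw [sigma_L, (w2_comm X a b c d).eq, mul_inv_cancel_right],
    by rw [(comm_lift σ hsur hc (cm_w2 X hΦ σ hsur hc hm a b c d) (sigma_L σ hsur _)
      (sigma_sec X hΦ σ hsur hx c d)).eq, mul_inv_cancel_right]⟩

theorem chi_conj {T Z : Γ} {a b : K} (hT : Equi X hΦ σ hsur x T) (hZ : σ Z = uu X (0, a, b)) :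
    chi X hΦ σ hsur x (T * Z * T⁻¹) = chi X hΦ σ hsur x Z ∧
      ∃ a' b', σ (T * Z * T⁻¹) = uu X (0, a', b') := by
  obtain ⟨a', b', e1, e2⟩ := hT a b
  have he : σ (T * Z * T⁻¹) = uu X (0, a', b') := by rw [map_mul, map_mul, map_inv, hZ, e1]
  refine ⟨?_, a', b', he⟩
  have h1 := central σ hc (sigma_chi X hΦ σ hsur hc hx hZ) T
  calc chi X hΦ σ hsur x (T * Z * T⁻¹)
      = T * chi X hΦ σ hsur x Z * T⁻¹ := by
        rw [chi, chi, he, hZ, s2_apply X hΦ σ hsur, s2_apply X hΦ σ hsur, ← e2]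
        group
    _ = _ := by rw [h1.eq, mul_inv_cancel_right]

omit hΦ hsur hx hc in
theorem comm_uu (p q : K × K × K) : ∃ a b, ⁅uu X p, uu X q⁆ = uu X (0, a, b) := by
  obtain ⟨a0, a, b, e⟩ := mem_UB X (g := ⁅uu X p, uu X q⁆) (by
    rw [commutatorElement_def]
    exact mul_mem (mul_mem (mul_mem (uu_mem X p) (uu_mem X q)) (inv_mem (uu_mem X p))) (inv_mem (uu_mem X q)))
  have h : uu X p * uu X q = uu X (a0, a, b) * (uu X q * uu X p) := by
    rw [← e, commutatorElement_def]; group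
  obtain ⟨t, u, v⟩ := p
  obtain ⟨t', u', v'⟩ := q
  rw [uu_mul, uu_mul, uu_mul] at h
  obtain ⟨h1, -, -⟩ := uu_inj X h
  obtain rfl : a0 = 0 := by linear_combination -h1
  exact ⟨a, b, e⟩

omit hΦ hsur hx hc in
theorem comm_uw (t u v a b : K) : ∃ c, ⁅uu X (t, u, v), uu X (0, a, b)⁆ = uu X (0, 0, c) := by
  obtain ⟨c1, c, e⟩ := comm_uu X (t, u, v) (0, a, b)
  have h : uu X (t, u, v) * uu X (0, a, b) = uu X (0, c1, c) * (uu X (0, a, b) * uu X (t, u, v)) := by
    rw [← e, commutatorElement_def]; group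
  rw [uu_mul, uu_mul, uu_mul] at h
  obtain ⟨-, h2, -⟩ := uu_inj X h
  rw [TT_zero] at h2
  obtain rfl : c1 = 0 := by linear_combination -h2
  exact ⟨c, e⟩

omit hΦ hsur hx hc in
theorem uu_pair (a a' : K) : ∃ α β, uu X (a, 0, 0) * uu X (a', 0, 0) =
    uu X (a + a', 0, 0) * uu X (0, α, β) :=
  ⟨-(TT m a' * a), -(TT m a' * a ^ 2) + a' * (TT m a' * a), by
    rw [uu_mul, uu_mul, TT_zero]
    refine congrArg _ (Prod.ext ?_ (Prod.ext ?_ ?_)) <;> simp <;> ring⟩

theorem chi_tu (hm : 1 ≤ m) (t u : K) :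
    chi X hΦ σ hsur x (cm σ hsur (uu X (t, 0, 0)) (uu X (0, u, 0))) = 1 := by
  letI : CommGroup σ.ker :=
    { mul_comm := fun x y => Subtype.ext (central σ hc (MonoidHom.mem_ker.1 y.2) x.1).eq }
  have hval : ∀ t, ∃ c, σ (cm σ hsur (uu X (t, 0, 0)) (uu X (0, u, 0))) = uu X (0, 0, c) := fun t => by
    rw [sigma_cm]
    exact comm_uw X t 0 0 u 0
  choose c hcv using hval
  let B : K → σ.ker := fun t =>
    ⟨chi X hΦ σ hsur x (cm σ hsur (uu X (t, 0, 0)) (uu X (0, u, 0))),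
      MonoidHom.mem_ker.2 (sigma_chi X hΦ σ hsur hc hx (hcv t))⟩
  have hB := even_add B
    (fun a a' => Subtype.ext (by
      show chi X hΦ σ hsur x _ = chi X hΦ σ hsur x _ * chi X hΦ σ hsur x _
      rw [← chi_mul X hΦ σ hsur hc hx hm (hcv a) (hcv a')]
      congr 1
      obtain ⟨α, β, e⟩ := uu_pair X a a'
      have h1 := cm_mul_left σ hsur hc (uu X (a, 0, 0)) (uu X (a', 0, 0)) (uu X (0, u, 0))
      rw [e, cm_mul_left σ hsur hc, cm_w2 X hΦ σ hsur hc hm, mul_one, mul_inv_cancel, one_mul] at h1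
      have h2 : Commute (L σ hsur (uu X (a, 0, 0))) (cm σ hsur (uu X (a', 0, 0)) (uu X (0, u, 0))) :=
        comm_lift σ hsur hc (cm_z X hΦ σ hsur hc hm a 0 0 _) (sigma_L σ hsur _) (hcv a')
      rw [h2.eq, mul_inv_cancel_right] at h1
      rw [h1]
      exact comm_lift σ hsur hc (cm_w2 X hΦ σ hsur hc hm _ _ _ _) (hcv a') (hcv a)))
    (fun a => Subtype.ext (by
      show chi X hΦ σ hsur x _ = chi X hΦ σ hsur x _
      have h := cm_conj σ hsur hc (L σ hsur (torusHom X (-1))) (uu X (a, 0, 0)) (uu X (0, u, 0))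
      rw [sigma_L, tor_neg_uu, tor_neg_uu, neg_zero] at h
      rw [← h, (chi_conj X hΦ σ hsur hc hx (equi_tor X hΦ σ hsur hc hx (-1)) (hcv a)).1])) t
  exact congrArg Subtype.val hB

theorem chi_gw (hm : 1 ≤ m) (t u v a b : K) :
    chi X hΦ σ hsur x (cm σ hsur (uu X (t, u, v)) (uu X (0, a, b))) = 1 := by
  rw [uu_split_parts X t u v, cm_mul_left σ hsur hc, cm_w2 X hΦ σ hsur hc hm, mul_one, mul_inv_cancel,
    one_mul, show uu X (0, a, b) = uu X (0, a, 0) * uu X (0, 0, b) by rw [w2_mul, add_zero, zero_add],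
    cm_add_right σ hsur hc (z_comm X _ _ _ _), cm_tz X hΦ σ hsur hc hm, mul_one,
    chi_tu X hΦ σ hsur hc hx hm]

theorem equi_t (hm : 1 ≤ m) (t : K) : Equi X hΦ σ hsur x (L σ hsur (uu X (t, 0, 0))) := fun a b => by
  obtain ⟨c, hcv⟩ := comm_uw X t 0 0 a b
  refine ⟨a, c + b, ?_, ?_⟩
  · rw [sigma_L, show uu X (t, 0, 0) * uu X (0, a, b) * (uu X (t, 0, 0))⁻¹ =
      ⁅uu X (t, 0, 0), uu X (0, a, b)⁆ * uu X (0, a, b) by rw [commutatorElement_def]; group, hcv,
      w2_mul, zero_add]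
  · have h := eq_sec X hΦ σ hsur hc hx (by rw [sigma_cm, hcv])
      (chi_gw X hΦ σ hsur hc hx hm t 0 0 a b)
    have h2 := comm_eq σ hsur hc (L σ hsur (uu X (t, 0, 0))) (sec X hΦ σ hsur x a b)
    rw [sigma_L, sigma_sec X hΦ σ hsur hx, h, commutatorElement_def, mul_inv_eq_iff_eq_mul,
      ← sec_add X hΦ σ hsur hc hm, zero_add] at h2
    exact h2

theorem equi_uu (hm : 1 ≤ m) (t u v : K) : Equi X hΦ σ hsur x (L σ hsur (uu X (t, u, v))) :=
  equi_congr X hΦ σ hsur hc hx (by rw [map_mul, sigma_L, sigma_L, sigma_L, ← uu_split_parts X t u v])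
    (equi_mul X hΦ σ hsur hc hx (equi_t X hΦ σ hsur hc hx hm t) (equi_w2 X hΦ σ hsur hc hx hm u v))

theorem chi_wg (hm : 1 ≤ m) (t u v a b : K) :
    chi X hΦ σ hsur x (cm σ hsur (uu X (0, a, b)) (uu X (t, u, v))) = 1 := by
  obtain ⟨c, hcv⟩ := comm_uw X t u v a b
  rw [cm, ← commutatorElement_inv, chi_inv X hΦ σ hsur hc hx hm (a := 0) (b := c)
    (by rw [map_commutatorElement, sigma_L, sigma_L, hcv])]
  exact inv_eq_one.2 (chi_gw X hΦ σ hsur hc hx hm t u v a b)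

omit hx hc hΦ in
theorem cm_val (p q : K × K × K) : ∃ a b, σ (cm σ hsur (uu X p) (uu X q)) = uu X (0, a, b) := by
  rw [sigma_cm]
  exact comm_uu X p q

theorem chi_left (hm : 1 ≤ m) (t u v α β : K) (q : K × K × K) :
    chi X hΦ σ hsur x (cm σ hsur (uu X (t, u, v) * uu X (0, α, β)) (uu X q)) =
      chi X hΦ σ hsur x (cm σ hsur (uu X (t, u, v)) (uu X q)) := by
  obtain ⟨t', u', v'⟩ := q
  rw [cm_mul_left σ hsur hc]
  obtain ⟨a, b, h1⟩ := cm_val X σ hsur (0, α, β) (t', u', v')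
  obtain ⟨a', b', h2⟩ := cm_val X σ hsur (t, u, v) (t', u', v')
  obtain ⟨e, a'', b'', h3⟩ := chi_conj X hΦ σ hsur hc hx (equi_uu X hΦ σ hsur hc hx hm t u v) h1
  rw [chi_mul X hΦ σ hsur hc hx hm h3 h2, e, chi_wg X hΦ σ hsur hc hx hm, one_mul]

theorem chi_right (hm : 1 ≤ m) (t u v α β : K) (p : K × K × K) :
    chi X hΦ σ hsur x (cm σ hsur (uu X p) (uu X (t, u, v) * uu X (0, α, β))) =
      chi X hΦ σ hsur x (cm σ hsur (uu X p) (uu X (t, u, v))) := by
  obtain ⟨t', u', v'⟩ := p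
  rw [cm_mul_right σ hsur hc]
  obtain ⟨a, b, h1⟩ := cm_val X σ hsur (t', u', v') (0, α, β)
  obtain ⟨a', b', h2⟩ := cm_val X σ hsur (t', u', v') (t, u, v)
  obtain ⟨e, a'', b'', h3⟩ := chi_conj X hΦ σ hsur hc hx (equi_uu X hΦ σ hsur hc hx hm t u v) h1
  rw [chi_mul X hΦ σ hsur hc hx hm h2 h3, e, chi_gw X hΦ σ hsur hc hx hm, mul_one]

theorem chi_tt (hm : 1 ≤ m) (t t' : K) :
    chi X hΦ σ hsur x (cm σ hsur (uu X (t, 0, 0)) (uu X (t', 0, 0))) = 1 := by
  letI : CommGroup σ.ker :=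
    { mul_comm := fun x y => Subtype.ext (central σ hc (MonoidHom.mem_ker.1 y.2) x.1).eq }
  let B : K → K → σ.ker := fun a b =>
    ⟨chi X hΦ σ hsur x (cm σ hsur (uu X (a, 0, 0)) (uu X (b, 0, 0))), by
      obtain ⟨c, d, h⟩ := cm_val X σ hsur (a, 0, 0) (b, 0, 0)
      exact MonoidHom.mem_ker.2 (sigma_chi X hΦ σ hsur hc hx h)⟩
  have hw : ∃ w : K, w ≠ 0 ∧ w ≠ 1 ∧ w ≠ -1 := ⟨x, x.ne_zero,
    fun e => hx (Units.ext (by simp [e])), fun e => hx (Units.ext (by simp [e]))⟩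
  have hB := diag_zero hw B
    (fun a a' b => Subtype.ext (by
      show chi X hΦ σ hsur x _ = chi X hΦ σ hsur x _ * chi X hΦ σ hsur x _
      obtain ⟨α, β, e⟩ := uu_pair X a a'
      rw [← chi_left X hΦ σ hsur hc hx hm (a + a') 0 0 α β (b, 0, 0), ← e, cm_mul_left σ hsur hc]
      obtain ⟨c, d, h1⟩ := cm_val X σ hsur (a', 0, 0) (b, 0, 0)
      obtain ⟨c', d', h2⟩ := cm_val X σ hsur (a, 0, 0) (b, 0, 0)
      obtain ⟨e', c'', d'', h3⟩ := chi_conj X hΦ σ hsur hc hx (equi_uu X hΦ σ hsur hc hx hm a 0 0) h1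
      rw [chi_mul X hΦ σ hsur hc hx hm h3 h2, e']
      exact (central σ hc (sigma_chi X hΦ σ hsur hc hx h2) _).eq))
    (fun a b b' => Subtype.ext (by
      show chi X hΦ σ hsur x _ = chi X hΦ σ hsur x _ * chi X hΦ σ hsur x _
      obtain ⟨α, β, e⟩ := uu_pair X b b'
      rw [← chi_right X hΦ σ hsur hc hx hm (b + b') 0 0 α β (a, 0, 0), ← e, cm_mul_right σ hsur hc]
      obtain ⟨c, d, h1⟩ := cm_val X σ hsur (a, 0, 0) (b', 0, 0)
      obtain ⟨c', d', h2⟩ := cm_val X σ hsur (a, 0, 0) (b, 0, 0)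
      obtain ⟨e', c'', d'', h3⟩ := chi_conj X hΦ σ hsur hc hx (equi_uu X hΦ σ hsur hc hx hm b 0 0) h1
      rw [chi_mul X hΦ σ hsur hc hx hm h2 h3, e']))
    (fun μ hμ a b => Subtype.ext (by
      show chi X hΦ σ hsur x _ = chi X hΦ σ hsur x _
      obtain ⟨y, hy⟩ := exists_a6 X hμ
      obtain ⟨c, d, h⟩ := cm_val X σ hsur (a, 0, 0) (b, 0, 0)
      have h' := cm_conj σ hsur hc (L σ hsur (torusHom X y)) (uu X (a, 0, 0)) (uu X (b, 0, 0))
      rw [sigma_L, tor_uu, tor_uu, mul_zero, mul_zero, hy] at h'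
      rw [← h', (chi_conj X hΦ σ hsur hc hx (equi_tor X hΦ σ hsur hc hx y) h).1])) t t'
  exact congrArg Subtype.val hB

/-- Commutators over the unipotent subgroup are lifts. -/
theorem chi_all (hm : 1 ≤ m) (t u v t' u' v' : K) :
    chi X hΦ σ hsur x (cm σ hsur (uu X (t, u, v)) (uu X (t', u', v'))) = 1 := by
  rw [uu_split_parts X t u v, uu_split_parts X t' u' v', chi_right X hΦ σ hsur hc hx hm t' 0 0 u' v'
    (t, 0, 0) |> (fun h => (show chi X hΦ σ hsur x (cm σ hsur (uu X (t, 0, 0) * uu X (0, u, v))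
      (uu X (t', 0, 0) * uu X (0, u', v'))) = chi X hΦ σ hsur x (cm σ hsur (uu X (t, 0, 0))
      (uu X (t', 0, 0) * uu X (0, u', v'))) from by
        rw [show uu X (t', 0, 0) * uu X (0, u', v') = uu X (t', u', v') from (uu_split_parts X t' u' v').symm]
        exact chi_left X hΦ σ hsur hc hx hm t 0 0 u v (t', u', v')).trans h)]
  exact chi_tt X hΦ σ hsur hc hx hm t t'

theorem commutator_inf_ker (hm : 1 ≤ m) {P : Subgroup Γ} (hP : ∀ Z ∈ P, σ Z ∈ UB X) :
    ⁅P, P⁆ ⊓ σ.ker = ⊥ := by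
  let S : Subgroup Γ :=
    { carrier := {Z | ∃ a b, Z = sec X hΦ σ hsur x a b}
      one_mem' := ⟨0, 0, (sec_zero X hΦ σ hsur hc hx hm).symm⟩
      mul_mem' := by
        rintro _ _ ⟨a, b, rfl⟩ ⟨a', b', rfl⟩
        exact ⟨a + a', b + b', (sec_add X hΦ σ hsur hc hm a b a' b').symm⟩
      inv_mem' := by
        rintro _ ⟨a, b, rfl⟩
        refine ⟨-a, -b, inv_eq_of_mul_eq_one_right ?_⟩
        rw [← sec_add X hΦ σ hsur hc hm, add_neg_cancel, add_neg_cancel, sec_zero X hΦ σ hsur hc hx hm] }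
  have hle : ⁅P, P⁆ ≤ S := Subgroup.commutator_le.2 fun Z hZ W hW => by
    obtain ⟨t, u, v, e⟩ := mem_UB X (hP Z hZ)
    obtain ⟨t', u', v', e'⟩ := mem_UB X (hP W hW)
    obtain ⟨a, b, h⟩ := cm_val X σ hsur (t, u, v) (t', u', v')
    refine ⟨a, b, ?_⟩
    rw [comm_eq σ hsur hc, e, e']
    exact eq_sec X hΦ σ hsur hc hx h (chi_all X hΦ σ hsur hc hx hm t u v t' u' v')
  refine (Subgroup.eq_bot_iff_forall _).2 fun Z hZ => ?_
  obtain ⟨a, b, rfl⟩ := hle hZ.1
  have h := MonoidHom.mem_ker.1 hZ.2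
  rw [sigma_sec X hΦ σ hsur hx, ← uu_zero X] at h
  obtain ⟨rfl, rfl⟩ := w2_inj X h
  exact sec_zero X hΦ σ hsur hc hx hm

end Extension

end Cfsg.Agent.Ree
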