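import Cfsg.Agent.Lib.Ree.Classes
import Mathlib.Data.Nat.Totient

/-!
Numbers of elements of a given order in the small Ree groups and conjugacy of the toral cyclic
subgroups.
-/

set_option autoImplicit false
set_option linter.unusedSectionVars false
set_option linter.style.haveILetI false

open scoped Matrix Pointwise MatrixGroups

namespace Cfsg.Agent.Ree

open Cfsg.Lie Cfsg.Agent.Chevalley Cfsg.Agent.Chevalley.Cert Cfsg.Agent.Chevalley.Group
  Cfsg.Agent.Chevalley.Twist Cfsg.Agent.Chevalley.Twist.G2 Cfsg.Agent.Chevalley.SL2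

theorem ncard_ord_cyclic {G : Type*} [Group G] [Finite G] (C : Subgroup G) [IsCyclic C] {i : ℕ}
    (hi : i ∣ Nat.card C) : {g : G | g ∈ C ∧ orderOf g = i}.ncard = Nat.totient i := by
  classical
  haveI := Fintype.ofFinite C
  have h : {g : G | g ∈ C ∧ orderOf g = i} = C.subtype '' {c : C | orderOf c = i} := by
    ext g
    constructor
    · rintro ⟨hg, ho⟩
      exact ⟨⟨g, hg⟩, (Subgroup.orderOf_mk g hg).trans ho, rfl⟩
    · rintro ⟨c, hc, rfl⟩
      exact ⟨c.2, (Subgroup.orderOf_coe c).trans hc⟩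
  rw [h, Set.ncard_image_of_injective _ C.subtype_injective, Set.ncard_eq_toFinset_card',
    Set.toFinset_setOf]
  exact IsCyclic.card_orderOf_eq_totient (by rwa [← Nat.card_eq_fintype_card])

theorem cset_mono_ord {G : Type*} [Group G] {C : Subgroup G} {i : ℕ}
    (hcov : ∀ g : G, orderOf g = i → ∃ k, k⁻¹ * g * k ∈ C) :
    cset {g : G | g ∈ C ∧ orderOf g = i} = {g : G | orderOf g = i} := by
  have hord : ∀ k g : G, orderOf (k⁻¹ * g * k) = orderOf g := fun k g => by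
    rw [← orderOf_injective (MulAut.conj k⁻¹).toMonoidHom (MulAut.conj k⁻¹).injective g]
    simp
  ext g
  constructor
  · rintro ⟨k, -, hk⟩
    exact (hord k g).symm.trans hk
  · intro hg
    obtain ⟨k, hk⟩ := hcov g hg
    exact ⟨k, hk, (hord k g).trans hg⟩

theorem count_ord {G : Type*} [Group G] [Finite G] (C N : Subgroup G) {i : ℕ}
    (hcov : ∀ g : G, orderOf g = i → ∃ k, k⁻¹ * g * k ∈ C)
    (hinv : ∀ n ∈ N, ∀ x ∈ C, orderOf x = i → n * x * n⁻¹ ∈ C)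
    (hTI : ∀ g : G, ∀ x ∈ C, orderOf x = i → g * x * g⁻¹ ∈ C → g ∈ N) :
    {g : G | orderOf g = i}.ncard * Nat.card N =
      Nat.card G * {g : G | g ∈ C ∧ orderOf g = i}.ncard := by
  rw [← cset_mono_ord hcov]
  refine ncard_cset N _ (fun n hn x hx => ⟨hinv n hn x hx.1 hx.2, ?_⟩)
    (fun g x hx hgx => hTI g x hx.1 hx.2 hgx.1)
  rw [← hx.2, ← orderOf_injective (MulAut.conj n).toMonoidHom (MulAut.conj n).injective x]
  simp

theorem conj_of_cover {G : Type*} [Group G] [Finite G] (C : Subgroup G) [IsCyclic C]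
    {A B : Subgroup G} [IsCyclic A] [IsCyclic B] (hAB : Nat.card A = Nat.card B)
    (hcov : ∀ g : G, orderOf g = Nat.card A → ∃ k, k⁻¹ * g * k ∈ C) :
    ∃ g : G, B = A.map (MulAut.conj g).toMonoidHom := by
  have hmv : ∀ (D : Subgroup G) [IsCyclic D], Nat.card D = Nat.card A →
      ∃ k : G, D.map (MulAut.conj k).toMonoidHom ≤ C := by
    intro D _ hD
    obtain ⟨⟨g, hg⟩, hgen⟩ := IsCyclic.exists_generator (α := D)
    have ho : orderOf g = Nat.card A := by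
      rw [← hD, ← orderOf_eq_card_of_forall_mem_zpowers hgen, Subgroup.orderOf_mk]
    obtain ⟨k, hk⟩ := hcov g ho
    refine ⟨k⁻¹, ?_⟩
    rintro _ ⟨x, hx, rfl⟩
    obtain ⟨j, hj⟩ := Subgroup.mem_zpowers_iff.1 (hgen ⟨x, hx⟩)
    have e : x = g ^ j := (congrArg Subtype.val hj).symm
    rw [e, map_zpow]
    exact zpow_mem (by simpa [mul_assoc] using hk) j
  obtain ⟨k, hk⟩ := hmv A rfl
  obtain ⟨k', hk'⟩ := hmv B hAB.symm
  have heq := Tools.eq_of_card_eq hk hk' (by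
    rw [Subgroup.card_map_of_injective (MulAut.conj k).injective,
      Subgroup.card_map_of_injective (MulAut.conj k').injective, hAB])
  refine ⟨k'⁻¹ * k, ?_⟩
  ext x
  constructor
  · intro hx
    obtain ⟨a, ha, hax⟩ := (SetLike.ext_iff.1 heq (k' * x * k'⁻¹)).2 ⟨x, hx, by simp⟩
    refine ⟨a, ha, ?_⟩
    have e : k * a * k⁻¹ = k' * x * k'⁻¹ := by simpa using hax
    show k'⁻¹ * k * a * (k'⁻¹ * k)⁻¹ = x
    calc k'⁻¹ * k * a * (k'⁻¹ * k)⁻¹ = k'⁻¹ * (k * a * k⁻¹) * k' := by group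
      _ = x := by rw [e]; group
  · rintro ⟨a, ha, rfl⟩
    obtain ⟨b, hb, hbx⟩ := (SetLike.ext_iff.1 heq (k * a * k⁻¹)).1 ⟨a, ha, by simp⟩
    have e : k' * b * k'⁻¹ = k * a * k⁻¹ := by simpa using hbx
    have : (MulAut.conj (k'⁻¹ * k)).toMonoidHom a = b := by
      show k'⁻¹ * k * a * (k'⁻¹ * k)⁻¹ = b
      calc k'⁻¹ * k * a * (k'⁻¹ * k)⁻¹ = k'⁻¹ * (k * a * k⁻¹) * k' := by group
        _ = b := by rw [← e]; group
    rw [this]
    exact hb

theorem cent_conj_torus {G : Type*} [Group G] {L H A : Subgroup G} {k : G}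
    (hL : ∀ x ∈ L, ∀ y ∈ L, Commute x y)
    (hx : ∀ x ∈ H, k⁻¹ * x * k ∈ L ∧ (x ≠ 1 → Subgroup.centralizer {k⁻¹ * x * k} = L))
    (hA : A ≤ H) (hA1 : A ≠ ⊥) :
    Subgroup.centralizer (A : Set G) = L.map (MulAut.conj k).toMonoidHom := by
  obtain ⟨x, hxA, hx1⟩ := (Subgroup.bot_or_exists_ne_one A).resolve_left hA1
  refine le_antisymm (fun g hg => ?_) ?_
  · refine ⟨k⁻¹ * g * k, ?_, by simp [mul_assoc]⟩
    rw [SetLike.mem_coe, ← (hx x (hA hxA)).2 hx1, Subgroup.mem_centralizer_singleton_iff]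
    have h := Subgroup.mem_centralizer_iff.1 hg x hxA
    calc k⁻¹ * g * k * (k⁻¹ * x * k) = k⁻¹ * (g * x) * k := by group
      _ = k⁻¹ * x * k * (k⁻¹ * g * k) := by rw [← h]; group
  · rintro _ ⟨l, hl, rfl⟩
    refine Subgroup.mem_centralizer_iff.2 fun y hy => ?_
    have := (hL _ (hx y (hA hy)).1 _ hl).map (MulAut.conj k).toMonoidHom
    simpa [mul_assoc] using this.eq

variable {K : Type*} [Field K] [Fintype K] [CharP K 3] {m : ℕ}

local notation "GG" => twistedG2 K (3 ^ m)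
local notation "qq" => Fintype.card K

variable {hK : Fintype.card K = 3 ^ (2 * m + 1)} (X : Setup (K := K) hK)
variable {Φ : SL(2, K) →* ↥(twistedG2 K (3 ^ m))} (hΦ : IsEmbed X Φ)
include hΦ

theorem ord_dvd_pred (hm : 1 ≤ m) {g : GG} (hd : orderOf g ∣ qq - 1) (h2 : 2 < orderOf g) :
    ∃ k y, y ^ 2 ≠ 1 ∧ k⁻¹ * g * k = torusHom X y := by
  have h3 : ¬ 3 ∣ orderOf g := fun h => three_not_dvd_pred X (h.trans hd)
  rcases sort_all X hΦ hm g with h | h | h | h | h | h | h | h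
  iterate 5 omega
  · obtain ⟨k, y, hy, e⟩ := h
    exact ⟨k, y, hy, e.symm⟩
  · obtain ⟨hd', -⟩ := regT_order X hΦ h
    obtain ⟨c', hc'⟩ := q_form X
    have h4 := Nat.dvd_sub (hd'.trans (Nat.div_dvd_of_dvd (show 2 ∣ qq + 1 by omega))) hd
    rw [show qq + 1 - (qq - 1) = 2 by omega] at h4
    have := Nat.le_of_dvd (by norm_num) h4
    omega
  · obtain ⟨l, hl, hlg⟩ := Nat.exists_prime_and_dvd (show orderOf g ≠ 1 by omega)
    exact absurd (hlg.trans hd) (six_sep X hl (h.2 l hl hlg)).2.2.1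

theorem ord_dvd_succ (hm : 1 ≤ m) {g : GG} (hd : orderOf g ∣ (qq + 1) / 2) (h2 : 2 < orderOf g) :
    ∃ k : GG, k⁻¹ * g * k ∈ T0 X Φ ∧ k⁻¹ * g * k * (k⁻¹ * g * k) ≠ 1 := by
  obtain ⟨c', hc'⟩ := q_form X
  have hd1 := hd.trans (Nat.div_dvd_of_dvd (show 2 ∣ qq + 1 by omega))
  have h3 : ¬ 3 ∣ orderOf g := fun h => by
    obtain ⟨c, hc⟩ := three_dvd_q X
    have := h.trans hd1
    omega
  rcases sort_all X hΦ hm g with h | h | h | h | h | h | h | h
  iterate 5 omega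
  · obtain ⟨hd', -⟩ := regH_order X hΦ h
    have h4 := Nat.dvd_sub hd1 hd'
    rw [show qq + 1 - (qq - 1) = 2 by omega] at h4
    have := Nat.le_of_dvd (by norm_num) h4
    omega
  · exact h
  · obtain ⟨l, hl, hlg⟩ := Nat.exists_prime_and_dvd (show orderOf g ≠ 1 by omega)
    exact absurd (hlg.trans hd1) (six_sep X hl (h.2 l hl hlg)).2.2.2

theorem ord_dvd_quarter (hm : 1 ≤ m) {g : GG} (hd : orderOf g ∣ (qq + 1) / 4) (h1 : 1 < orderOf g) :
    ∃ k : GG, k⁻¹ * g * k ∈ A0 X hΦ := by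
  obtain ⟨-, hodd, -⟩ := card_A0 X hΦ
  have hog := Odd.of_dvd_nat hodd hd
  obtain ⟨c', hc'⟩ := q_form X
  obtain ⟨k, hk, -⟩ := ord_dvd_succ X hΦ hm
    (hd.trans ⟨2, by omega⟩) (by obtain ⟨j, hj⟩ := hog; omega)
  exact ⟨k, mem_A0_of_odd X hΦ hk (by rwa [orderOf_conj X])⟩

theorem ord_dvd_six (hm : 1 ≤ m) {Ta Tb : Subgroup GG} (ha : IsSix Ta) (hb : IsSix Tb)
    (hne : Nat.card Ta ≠ Nat.card Tb) (hset : sixSet K m = cset (regSix Ta) ∪ cset (regSix Tb))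
    {g : GG} (hd : orderOf g ∣ Nat.card Ta) (h1 : 1 < orderOf g) :
    ∃ k : GG, k⁻¹ * g * k ∈ Ta := by
  have hsix : g ∈ sixSet K m := by
    refine ⟨fun e => ?_, fun l hl hlg => six_prime_dvd X hΦ hm ha hl (hlg.trans hd)⟩
    rw [e, orderOf_one] at h1
    omega
  rw [hset] at hsix
  rcases hsix with ⟨k, hk, -⟩ | ⟨k, hk, -⟩
  · exact ⟨k, hk⟩
  · exfalso
    have h' : orderOf g ∣ Nat.card Tb := by
      rw [← orderOf_conj X k g]
      exact Subgroup.orderOf_dvd_natCard _ hk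
    have := Nat.le_of_dvd one_pos ((coprime_six X hΦ hm ha hb hne).gcd_eq_one ▸ Nat.dvd_gcd hd h')
    omega

theorem pred_facts : Odd ((qq - 1) / 2) ∧ 2 * ((qq - 1) / 2) = qq - 1 := by
  obtain ⟨c, hc⟩ := q_form X
  exact ⟨⟨2 * c, by omega⟩, by omega⟩

/-- The odd part of the split torus. -/
noncomputable def AH (_hΦ : IsEmbed X Φ) : Subgroup ↥(twistedG2 K (3 ^ m)) :=
  ((torusHom X).comp (powMonoidHom 2)).range

theorem AH_le : AH X hΦ ≤ (torusHom X).range := by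
  rintro _ ⟨y, rfl⟩
  exact ⟨_, rfl⟩

theorem card_AH : Nat.card (AH X hΦ) = (qq - 1) / 2 := by
  have h1 := Subgroup.card_mul_index ((torusHom X).comp (powMonoidHom 2)).ker
  have hk : Nat.card ((torusHom X).comp (powMonoidHom 2) : Kˣ →* GG).ker = 2 := by
    rw [Nat.card_eq_two_iff]
    refine ⟨1, ⟨-1, by simp [MonoidHom.mem_ker]⟩, fun e => ?_, ?_⟩
    · exact neg_one_ne_one (K := K) (congrArg (fun z : (((torusHom X).comp (powMonoidHom 2)) :
        Kˣ →* GG).ker => ((z : Kˣ) : K)) e).symm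
    · refine Set.eq_univ_of_forall fun ⟨y, hy⟩ => ?_
      have e : y ^ 2 = 1 := torusHom_injective X (by rw [map_one]; exact hy)
      rcases sq_eq_one_iff.1 (show (y : K) ^ 2 = 1 by rw [← Units.val_pow_eq_pow_val, e, Units.val_one])
        with h | h
      · exact Or.inl (Subtype.ext (Units.ext h))
      · exact Or.inr (Subtype.ext (Units.ext (by rw [h]; simp)))
  rw [Subgroup.index_ker, hk, Nat.card_units, Nat.card_eq_fintype_card (α := K)] at h1
  rw [AH]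
  omega

theorem isCyclic_AH : IsCyclic (AH X hΦ) :=
  isCyclic_of_surjective ((torusHom X).comp (powMonoidHom 2)).rangeRestrict
    ((torusHom X).comp (powMonoidHom 2)).rangeRestrict_surjective

theorem AH_reg {x : GG} (hx : x ∈ AH X hΦ) (hx1 : x ≠ 1) :
    ∃ y : Kˣ, y ^ 2 ≠ 1 ∧ torusHom X y = x := by
  obtain ⟨y, rfl⟩ := AH_le X hΦ hx
  refine ⟨y, fun e => hx1 ?_, rfl⟩
  have h2 : orderOf (torusHom X y) ∣ 2 := orderOf_dvd_of_pow_eq_one (by rw [← map_pow, e, map_one])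
  have h3 := card_AH X hΦ ▸ Subgroup.orderOf_dvd_natCard _ hx
  have h4 := Odd.of_dvd_nat (pred_facts X hΦ).1 h3
  rcases (Nat.dvd_prime Nat.prime_two).1 h2 with h | h
  · exact orderOf_eq_one_iff.1 h
  · rw [h] at h4
    exact absurd h4 (by decide)

theorem mem_AH_of_odd {x : GG} (hx : x ∈ (torusHom X).range) (ho : Odd (orderOf x)) :
    x ∈ AH X hΦ := by
  obtain ⟨j, hj⟩ := ho
  obtain ⟨y, rfl⟩ := hx
  refine ⟨y ^ (j + 1), ?_⟩
  show torusHom X ((y ^ (j + 1)) ^ 2) = torusHom X y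
  rw [← pow_mul, show (j + 1) * 2 = orderOf (torusHom X y) + 1 by omega, map_pow, pow_succ,
    pow_orderOf_eq_one, one_mul]

theorem ord_dvd_half (hm : 1 ≤ m) {g : GG} (hd : orderOf g ∣ (qq - 1) / 2) (h1 : 1 < orderOf g) :
    ∃ k : GG, k⁻¹ * g * k ∈ AH X hΦ := by
  obtain ⟨hodd, h2⟩ := pred_facts X hΦ
  have hog := Odd.of_dvd_nat hodd hd
  obtain ⟨k, y, -, e⟩ := ord_dvd_pred X hΦ hm (hd.trans ⟨2, by omega⟩)
    (by obtain ⟨j, hj⟩ := hog; omega)
  exact ⟨k, mem_AH_of_odd X hΦ (e ▸ ⟨y, rfl⟩) (by rwa [orderOf_conj X])⟩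

end Cfsg.Agent.Ree
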