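import Cfsg.Agent.Lib.Ree.Borel
import Mathlib.RingTheory.AdjoinRoot
import Mathlib.LinearAlgebra.Matrix.Charpoly.Minpoly
import Mathlib.LinearAlgebra.Charpoly.Basic
import Mathlib.RingTheory.Polynomial.Basic
import Mathlib.FieldTheory.Finite.Basic
import Mathlib.RingTheory.IntegralDomain
import Mathlib.LinearAlgebra.Determinant

/-!
The seven dimensional representation of the small Ree group on the short roots, and its
consequence: elements of prime order dividing `q² - q + 1` have cyclic centralisers, and their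
normalisers act through powers of `q`.
-/

set_option autoImplicit false
set_option linter.unusedSectionVars false

open scoped Matrix Pointwise

namespace Cfsg.Agent.Ree

open Cfsg.Lie Cfsg.Agent.Chevalley Cfsg.Agent.Chevalley.Table Cfsg.Agent.Chevalley.Cert
  Cfsg.Agent.Chevalley.Group Cfsg.Agent.Chevalley.Borel Cfsg.Agent.Chevalley.Twist Cfsg.Agent.Chevalley.Twist.G2

/-! ### A cyclic module -/

section Cyclic

open Polynomial Module

variable {K V : Type*} [Field K] [Fintype K] [AddCommGroup V] [Module K V] [FiniteDimensional K V]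
  {p : ℕ}

theorem exists_factor (hV : finrank K V = 7) [Fact p.Prime] (hpK : (p : K) ≠ 0)
    (hord : orderOf ((Fintype.card K : ℕ) : ZMod p) = 6) {A : Module.End K V}
    (hAp : A ^ p = 1) (hA1 : A ≠ 1) :
    ∃ (f : K[X]) (_ : Irreducible f) (v : V), f.natDegree = 6 ∧ v ≠ 0 ∧ aeval A f v = 0 ∧
      v ∈ LinearMap.range (A - 1) ∧ f ∣ X ^ p - 1 ∧ ¬ f ∣ X - 1 := by
  classical
  haveI : Nontrivial V := Module.nontrivial_of_finrank_pos (R := K) (by omega)
  let μ := minpoly K A
  have hμ0 : μ ≠ 0 := minpoly.ne_zero (Algebra.IsIntegral.isIntegral A)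
  have hμp : μ ∣ X ^ p - 1 := minpoly.dvd K A (by simp [hAp])
  have hsq : Squarefree μ :=
    ((X_pow_sub_one_separable_iff.2 hpK).of_dvd hμp).squarefree
  obtain ⟨f, hf, hfμ, hf1⟩ : ∃ f, Irreducible f ∧ f ∣ μ ∧ ¬ f ∣ X - 1 := by
    by_contra hc
    push Not at hc
    have hdiv : μ ∣ X - 1 := by
      refine (UniqueFactorizationMonoid.dvd_iff_normalizedFactors_le_normalizedFactors hμ0
        (X_sub_C_ne_zero (1 : K))).2 ?_ |>.trans (by rw [map_one])
      rw [Multiset.le_iff_subset ((UniqueFactorizationMonoid.squarefree_iff_nodup_normalizedFactors hμ0).1 hsq)]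
      intro g hg
      have hgi := UniqueFactorizationMonoid.irreducible_of_normalized_factor g hg
      have h1 := hc g hgi (UniqueFactorizationMonoid.dvd_of_mem_normalizedFactors hg)
      rw [← map_one C] at h1
      exact (UniqueFactorizationMonoid.mem_normalizedFactors_iff' (X_sub_C_ne_zero (1 : K))).2
        ⟨hgi, UniqueFactorizationMonoid.normalize_normalized_factor g hg, h1⟩
    obtain ⟨h, hh⟩ := hdiv
    apply hA1
    have h2 := congrArg (aeval A) hh
    rw [map_mul, minpoly.aeval, zero_mul] at h2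
    simpa [sub_eq_zero] using h2
  haveI : Fact (Irreducible f) := ⟨hf⟩
  -- the degree
  have hd7 : f.natDegree ≤ 7 := by
    have h1 := natDegree_le_of_dvd (hfμ.trans (LinearMap.minpoly_dvd_charpoly A)) A.charpoly_monic.ne_zero
    rwa [LinearMap.charpoly_natDegree, hV] at h1
  have hd6 : f.natDegree = 6 := by
    let L := AdjoinRoot f
    haveI : Module.Finite K L := (AdjoinRoot.powerBasis hf.ne_zero).finite
    haveI : Finite L := Module.finite_of_finite K
    haveI := Fintype.ofFinite L
    have hcard : Fintype.card L = Fintype.card K ^ f.natDegree := by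
      rw [Module.card_fintype (AdjoinRoot.powerBasis hf.ne_zero).basis, Fintype.card_fin,
        AdjoinRoot.powerBasis_dim]
    have hr : (AdjoinRoot.root f) ^ p = 1 := by
      have := AdjoinRoot.mk_eq_zero.2 (hfμ.trans hμp)
      simpa [sub_eq_zero] using this
    have hr1 : AdjoinRoot.root f ≠ 1 := fun e => hf1 (AdjoinRoot.mk_eq_zero.1 (by simp [e]))
    have hr0 : AdjoinRoot.root f ≠ 0 := fun e => by
      rw [e, zero_pow (Fact.out : p.Prime).ne_zero] at hr; exact zero_ne_one hr
    have hdvd : p ∣ Fintype.card L - 1 := by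
      have ho : orderOf (Units.mk0 _ hr0) = p := by
        refine orderOf_eq_prime (Units.ext (by simpa using hr)) fun e => hr1 ?_
        simpa using congrArg Units.val e
      rw [← ho, ← Fintype.card_units]
      exact orderOf_dvd_card
    have h6 : 6 ∣ f.natDegree := by
      rw [← hord, orderOf_dvd_iff_pow_eq_one]
      have : ((Fintype.card K ^ f.natDegree : ℕ) : ZMod p) = ((1 : ℕ) : ZMod p) := by
        rw [ZMod.natCast_eq_natCast_iff]
        exact ((Nat.modEq_iff_dvd' (Nat.one_le_pow _ _ Fintype.card_pos)).2 (hcard ▸ hdvd)).symm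
      simpa using this
    have := hf.natDegree_pos
    obtain ⟨c, hc⟩ := h6
    omega
  -- the vector
  obtain ⟨g, hg⟩ := hfμ
  have hg0 : aeval A g ≠ 0 := by
    intro e
    have h1 := natDegree_le_of_dvd (minpoly.dvd K A e) (fun e' => hμ0 (by rw [hg, e', mul_zero]))
    have h2 : μ.natDegree = f.natDegree + g.natDegree := by
      rw [hg, natDegree_mul hf.ne_zero (fun e' => hμ0 (by rw [hg, e', mul_zero]))]
    change μ.natDegree ≤ g.natDegree at h1
    omega
  obtain ⟨u, hu⟩ := DFunLike.ne_iff.1 hg0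
  have hker : aeval A f (aeval A g u) = 0 := by
    rw [← Module.End.mul_apply, ← map_mul, ← hg, minpoly.aeval, LinearMap.zero_apply]
  obtain ⟨a, b, hab⟩ := (hf.coprime_iff_not_dvd.2 hf1)
  refine ⟨f, hf, aeval A g u, hd6, hu, hker, ?_, (hg ▸ dvd_mul_right f g : f ∣ μ).trans hμp, hf1⟩
  refine ⟨aeval A b (aeval A g u), ?_⟩
  have h := congrArg (fun P => aeval A P (aeval A g u)) hab
  simp only [map_add, map_mul, LinearMap.add_apply, Module.End.mul_apply, hker, map_zero, zero_add,
    map_one, Module.End.one_apply] at h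
  calc (A - 1) (aeval A b (aeval A g u)) = aeval A ((X - 1) * b) (aeval A g u) := by simp
    _ = aeval A (b * (X - 1)) (aeval A g u) := by rw [mul_comm]
    _ = _ := by simpa using h

variable {A : Module.End K V} {f : K[X]} {v : V}

theorem dvd_of_apply_eq_zero (hf : Irreducible f) (hv : v ≠ 0) (hfv : aeval A f v = 0) {P : K[X]}
    (h : aeval A P v = 0) : f ∣ P := by
  by_contra hP
  obtain ⟨a, b, hab⟩ := hf.coprime_iff_not_dvd.2 hP
  apply hv
  have h1 := congrArg (fun Q => aeval A Q v) hab
  simpa [h, hfv] using h1.symm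

theorem exists_poly (hV : finrank K V = 7) (hf : Irreducible f) (hdeg : f.natDegree = 6) (hv : v ≠ 0)
    (hfv : aeval A f v = 0) (hvr : v ∈ LinearMap.range (A - 1)) (hAp : A ^ p = 1)
    (hK1 : ∀ c : K, c ^ p = 1 → c = 1) :
    finrank K (LinearMap.range (A - 1)) = 6 ∧
      ∀ w ∈ LinearMap.range (A - 1), ∃ P : K[X], aeval A P v = w := by
  classical
  let Ψ : K[X] →ₗ[K] V := (LinearMap.applyₗ v).comp (aeval A).toLinearMap
  let Ψ6 := Ψ.comp (degreeLT K 6).subtype
  have hinj : Function.Injective Ψ6 := by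
    rw [injective_iff_map_eq_zero]
    rintro ⟨P, hP⟩ h
    have hdvd := dvd_of_apply_eq_zero hf hv hfv (show aeval A P v = 0 from h)
    refine Subtype.ext (Polynomial.eq_zero_of_dvd_of_degree_lt hdvd ?_)
    rw [degree_eq_natDegree hf.ne_zero, hdeg]
    exact mem_degreeLT.1 hP
  have hle : LinearMap.range Ψ6 ≤ LinearMap.range (A - 1) := by
    rintro _ ⟨P, rfl⟩
    obtain ⟨w, hw⟩ := hvr
    refine ⟨aeval A (P : K[X]) w, ?_⟩
    show (A - 1) (aeval A (P : K[X]) w) = aeval A (P : K[X]) v
    rw [← hw, ← Module.End.mul_apply, ← Module.End.mul_apply]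
    refine LinearMap.congr_fun ?_ w
    rw [show A - 1 = aeval A (X - 1 : K[X]) by simp, ← map_mul, ← map_mul, mul_comm]
  have h6 : finrank K (LinearMap.range Ψ6) = 6 := by
    rw [LinearMap.finrank_range_of_inj hinj, (degreeLTEquiv K 6).finrank_eq, finrank_fin_fun]
  have hstab : LinearMap.range Ψ6 ≤ (LinearMap.range Ψ6).comap A := by
    rintro _ ⟨P, rfl⟩
    have hm := monic_mul_leadingCoeff_inv hf.ne_zero
    refine ⟨⟨(X * (P : K[X])) %ₘ (f * C f.leadingCoeff⁻¹), mem_degreeLT.2 ?_⟩, ?_⟩
    · refine lt_of_lt_of_eq (degree_modByMonic_lt _ hm) ?_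
      rw [degree_mul_leadingCoeff_inv _ hf.ne_zero, degree_eq_natDegree hf.ne_zero, hdeg]
    · show aeval A ((X * (P : K[X])) %ₘ (f * C f.leadingCoeff⁻¹)) v = A (aeval A (P : K[X]) v)
      have e : A (aeval A (P : K[X]) v) = aeval A (X * (P : K[X])) v := by simp
      rw [e]
      conv_rhs => rw [← modByMonic_add_div (X * (P : K[X])) (f * C f.leadingCoeff⁻¹)]
      rw [map_add, LinearMap.add_apply,
        show f * C f.leadingCoeff⁻¹ * ((X * (P : K[X])) /ₘ (f * C f.leadingCoeff⁻¹)) =
          C f.leadingCoeff⁻¹ * ((X * (P : K[X])) /ₘ (f * C f.leadingCoeff⁻¹)) * f by ring,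
        map_mul _ _ f, Module.End.mul_apply, hfv, map_zero, add_zero]
  have hrange : LinearMap.range Ψ6 = LinearMap.range (A - 1) := by
    refine le_antisymm hle ?_
    rintro _ ⟨x, rfl⟩
    have hquo : finrank K (V ⧸ LinearMap.range Ψ6) = 1 := by
      have := Submodule.finrank_quotient_add_finrank (LinearMap.range Ψ6)
      omega
    by_contra hx
    let B := (LinearMap.range Ψ6).mapQ (LinearMap.range Ψ6) A hstab
    obtain ⟨u, hu0, hspan⟩ := (finrank_eq_one_iff' (K := K)).1 hquo
    obtain ⟨c, hc⟩ := hspan (B u)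
    have hpow : ∀ n : ℕ, ∀ y : V, (B ^ n) ((LinearMap.range Ψ6).mkQ y) =
        (LinearMap.range Ψ6).mkQ ((A ^ n) y) := by
      intro n
      induction n with
      | zero => intro y; rfl
      | succ n ih =>
        intro y
        rw [pow_succ', pow_succ', Module.End.mul_apply, Module.End.mul_apply, ih]
        rfl
    have hcn : ∀ n : ℕ, (B ^ n) u = c ^ n • u := by
      intro n
      induction n with
      | zero => simp
      | succ n ih => rw [pow_succ', Module.End.mul_apply, ih, map_smul, ← hc, smul_smul, pow_succ]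
    have hcp : c ^ p = 1 := by
      obtain ⟨y, rfl⟩ := Submodule.mkQ_surjective _ u
      have h := hcn p
      rw [hpow, hAp, Module.End.one_apply] at h
      by_contra hne
      have h' : (c ^ p - 1) • (LinearMap.range Ψ6).mkQ y = 0 := by rw [sub_smul, one_smul, ← h, sub_self]
      exact hne (sub_eq_zero.1 ((smul_eq_zero.1 h').resolve_right hu0))
    apply hx
    rw [← Submodule.Quotient.mk_eq_zero, LinearMap.sub_apply, Submodule.Quotient.mk_sub,
      Module.End.one_apply, sub_eq_zero]
    show B ((LinearMap.range Ψ6).mkQ x) = (LinearMap.range Ψ6).mkQ x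
    obtain ⟨d, hd⟩ := hspan ((LinearMap.range Ψ6).mkQ x)
    rw [← hd, map_smul, ← hc, hK1 c hcp, one_smul]
  refine ⟨hrange ▸ h6, fun w hw => ?_⟩
  rw [← hrange] at hw
  obtain ⟨P, hP⟩ := hw
  exact ⟨P, hP⟩

theorem unipotent_of_fix (hV : finrank K V = 7) {c : Module.End K V} (hdet : LinearMap.det c = 1)
    {W : Submodule K V} (hW : finrank K W = 6) (hfix : ∀ w ∈ W, c w = w) : (c - 1) * (c - 1) = 0 := by
  have hle : W ≤ W.comap c := fun w hw => by rw [Submodule.mem_comap, hfix w hw]; exact hw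
  have hquo : finrank K (V ⧸ W) = 1 := by
    have := Submodule.finrank_quotient_add_finrank W
    omega
  obtain ⟨u, hu0, hspan⟩ := (finrank_eq_one_iff' (K := K)).1 hquo
  obtain ⟨d, hd⟩ := hspan (W.mapQ W c hle u)
  have e1 : c.restrict hle = LinearMap.id := LinearMap.ext fun w => Subtype.ext (hfix w.1 w.2)
  have e2 : W.mapQ W c hle = d • LinearMap.id := LinearMap.ext fun q => by
    obtain ⟨a, rfl⟩ := hspan q
    rw [map_smul, ← hd, LinearMap.smul_apply, LinearMap.id_apply, smul_comm]
  rw [LinearMap.det_eq_det_mul_det W c hle, e1, e2, LinearMap.det_id, one_mul, LinearMap.det_smul,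
    LinearMap.det_id, mul_one, hquo, pow_one] at hdet
  subst hdet
  refine LinearMap.ext fun x => ?_
  have hmem : (c - 1) x ∈ W := by
    rw [← Submodule.Quotient.mk_eq_zero, LinearMap.sub_apply, Submodule.Quotient.mk_sub,
      Module.End.one_apply, sub_eq_zero]
    have h := LinearMap.congr_fun e2 (W.mkQ x)
    rw [LinearMap.smul_apply, LinearMap.id_apply, one_smul] at h
    exact h
  rw [Module.End.mul_apply, LinearMap.sub_apply, hfix _ hmem, Module.End.one_apply, sub_self,
    LinearMap.zero_apply]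

/-- A group of commuting operators embeds into a field. -/
theorem cyclic_of_commuting {G : Type*} [Group G] [Finite G] (hV : finrank K V = 7) [Fact p.Prime]
    (hpK : (p : K) ≠ 0) (hord : orderOf ((Fintype.card K : ℕ) : ZMod p) = 6)
    (hK1 : ∀ c : K, c ^ p = 1 → c = 1) {A : Module.End K V} (hAp : A ^ p = 1) (hA1 : A ≠ 1)
    (π : G →* Module.End K V) (hcomm : ∀ g, π g * A = A * π g) (hdet : ∀ g, LinearMap.det (π g) = 1)
    (hfree : ∀ g, (π g - 1) * (π g - 1) = 0 → g = 1) : IsCyclic G := by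
  obtain ⟨f, hf, v, hdeg, hv, hfv, hvr, -, -⟩ := exists_factor hV hpK hord hAp hA1
  obtain ⟨hW, hpoly⟩ := exists_poly hV hf hdeg hv hfv hvr hAp hK1
  haveI : Fact (Irreducible f) := ⟨hf⟩
  have hcA : ∀ (g : G) (P : K[X]) (w : V), π g (aeval A P w) = aeval A P (π g w) := fun g P w => by
    have h : Commute (π g) (aeval A P) := by
      induction P using Polynomial.induction_on' with
      | add R S hR hS => rw [map_add]; exact hR.add_right hS
      | monomial n a =>
        rw [aeval_monomial]
        exact Commute.mul_right ((Algebra.commutes a (π g)).symm) (Commute.pow_right (hcomm g) n)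
    exact LinearMap.congr_fun h.eq w
  have hmem : ∀ g, π g v ∈ LinearMap.range (A - 1) := by
    intro g
    obtain ⟨w, hw⟩ := hvr
    refine ⟨π g w, ?_⟩
    rw [← hw, LinearMap.sub_apply, LinearMap.sub_apply, map_sub, Module.End.one_apply,
      Module.End.one_apply, ← Module.End.mul_apply, ← Module.End.mul_apply, hcomm g]
  choose P hP using fun g => hpoly _ (hmem g)
  have hwd : ∀ (g : G) (Q : K[X]), aeval A Q v = π g v → AdjoinRoot.mk f Q = AdjoinRoot.mk f (P g) :=
    fun g Q h => AdjoinRoot.mk_eq_mk.2 (dvd_of_apply_eq_zero hf hv hfv (by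
      rw [map_sub, LinearMap.sub_apply, h, hP, sub_self]))
  let φ : G →* AdjoinRoot f :=
    { toFun := fun g => AdjoinRoot.mk f (P g)
      map_one' := (hwd 1 1 (by rw [map_one, map_one π])).symm.trans (map_one _)
      map_mul' := fun g h => ?_ }
  rotate_left
  · rw [← map_mul (AdjoinRoot.mk f)]
    refine (hwd (g * h) _ ?_).symm
    rw [map_mul π, Module.End.mul_apply (π g), ← hP h, hcA, ← hP g, ← Module.End.mul_apply, ← map_mul,
      mul_comm]
  refine isCyclic_of_injective_ringHom φ ((injective_iff_map_eq_one φ).2 fun g hg => ?_)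
  refine hfree g (unipotent_of_fix hV (hdet g) hW fun w hw => ?_)
  have hgv : π g v = v := by
    have hd : f ∣ P g - 1 := AdjoinRoot.mk_eq_mk.1 ((show AdjoinRoot.mk f (P g) = 1 from hg).trans (map_one _).symm)
    obtain ⟨R, hR⟩ := hd
    have h := congrArg (fun Q => aeval A Q v) hR
    simp only [map_sub, map_one, LinearMap.sub_apply, Module.End.one_apply, hP] at h
    rw [mul_comm f R, map_mul, Module.End.mul_apply, hfv, map_zero, sub_eq_zero] at h
    exact h
  obtain ⟨Q, rfl⟩ := hpoly w hw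
  rw [hcA, hgv]

/-- A conjugate power of `A` has exponent a power of `q`. -/
theorem exponent_of_conj (hV : finrank K V = 7) [Fact p.Prime] (hpK : (p : K) ≠ 0)
    (hord : orderOf ((Fintype.card K : ℕ) : ZMod p) = 6)
    (hK1 : ∀ c : K, c ^ p = 1 → c = 1) {A n : Module.End K V} (hn : Function.Injective n)
    (hAp : A ^ p = 1) (hA1 : A ≠ 1) {i : ℕ} (h : n * A = A ^ i * n) :
    ∃ k < 6, i ≡ Fintype.card K ^ k [MOD p] := by
  classical
  obtain ⟨f, hf, v, hdeg, hv, hfv, hvr, hfp, hf1⟩ := exists_factor hV hpK hord hAp hA1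
  obtain ⟨hW, hpoly⟩ := exists_poly hV hf hdeg hv hfv hvr hAp hK1
  haveI : Fact (Irreducible f) := ⟨hf⟩
  have hconj : ∀ P : K[X], n * aeval A P = aeval (A ^ i) P * n := by
    intro P
    induction P using Polynomial.induction_on' with
    | add R S hR hS => rw [map_add, map_add, mul_add, add_mul, hR, hS]
    | monomial m a =>
      rw [aeval_monomial, aeval_monomial, ← mul_assoc, (Algebra.commutes a n).symm, mul_assoc,
        mul_assoc]
      congr 1
      exact ((show SemiconjBy n A (A ^ i) from h).pow_right m).eq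
  have hmem : n v ∈ LinearMap.range (A - 1) := by
    obtain ⟨w, hw⟩ := hvr
    obtain ⟨d, hd⟩ := sub_one_dvd_pow_sub_one (X : K[X]) i
    refine ⟨aeval A d (n w), ?_⟩
    have e : (A - 1) * aeval A d = A ^ i - 1 := by
      have := congrArg (aeval A) hd
      simpa using this.symm
    rw [← hw, ← Module.End.mul_apply, e, ← Module.End.mul_apply n, ← Module.End.mul_apply,
      mul_sub, mul_one, h, sub_mul, one_mul]
  obtain ⟨P, hP⟩ := hpoly _ hmem
  have hdvd : f ∣ f.comp (X ^ i) * P := by
    refine dvd_of_apply_eq_zero hf hv hfv ?_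
    rw [map_mul, Module.End.mul_apply, hP, aeval_comp, map_pow, aeval_X, ← Module.End.mul_apply,
      ← hconj, Module.End.mul_apply, hfv, map_zero]
  have hnv : ¬ f ∣ P := by
    rintro ⟨R, rfl⟩
    rw [mul_comm, map_mul, Module.End.mul_apply, hfv, map_zero, eq_comm] at hP
    exact hv (hn (hP.trans (map_zero n).symm))
  have hcomp : f ∣ f.comp (X ^ i) := (hf.prime.dvd_or_dvd hdvd).resolve_right hnv
  -- in the field of the root
  let L := AdjoinRoot f
  let r : L := AdjoinRoot.root f
  obtain ⟨F, hF⟩ : ∃ F : L[X], F = f.map (algebraMap K L) := ⟨_, rfl⟩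
  have hF0 : F ≠ 0 := hF ▸ Polynomial.map_ne_zero hf.ne_zero
  have hroots : ∀ x : L, x ∈ F.roots ↔ aeval x f = 0 := fun x => by
    rw [mem_roots hF0, IsRoot.def, hF, eval_map, ← aeval_def]
  have hr : r ^ p = 1 := by
    have := AdjoinRoot.mk_eq_zero.2 hfp
    simpa [sub_eq_zero] using this
  have hr1 : r ≠ 1 := fun e => hf1 (AdjoinRoot.mk_eq_zero.1 (by simpa [sub_eq_zero] using e))
  have hro : orderOf r = p := orderOf_eq_prime hr hr1
  have hfo : IsOfFinOrder r := orderOf_pos_iff.1 (hro.symm ▸ (Fact.out : p.Prime).pos)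
  have hi : aeval (r ^ i) f = 0 := by
    have h0 := AdjoinRoot.mk_eq_zero.2 hcomp
    rw [← AdjoinRoot.aeval_eq, aeval_comp, map_pow, aeval_X] at h0
    exact h0
  have hfrob : ∀ x : L, aeval x f = 0 → aeval (x ^ Fintype.card K) f = 0 := fun x hx => by
    rw [← Polynomial.expand_aeval, FiniteField.expand_card, map_pow, hx,
      zero_pow Fintype.card_ne_zero]
  have hk : ∀ k : ℕ, aeval (r ^ (Fintype.card K ^ k)) f = 0 := by
    intro k
    induction k with
    | zero =>
      rw [pow_zero, pow_one]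
      exact (AdjoinRoot.aeval_eq f).trans AdjoinRoot.mk_self
    | succ k ih => rw [pow_succ, pow_mul]; exact hfrob _ ih
  have hinj : Set.InjOn (fun k => r ^ (Fintype.card K ^ k)) ↑(Finset.range 6) := by
    intro a ha b hb hab
    simp only [Finset.coe_range, Set.mem_Iio] at ha hb
    have h1 := hfo.pow_eq_pow_iff_modEq.1 hab
    rw [hro, ← ZMod.natCast_eq_natCast_iff, Nat.cast_pow, Nat.cast_pow] at h1
    have hne : ((Fintype.card K : ℕ) : ZMod p) ≠ 0 := fun e => by
      have := pow_orderOf_eq_one ((Fintype.card K : ℕ) : ZMod p)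
      rw [hord, e, zero_pow (by norm_num)] at this
      exact zero_ne_one this
    have h2 : Units.mk0 _ hne ^ a = Units.mk0 _ hne ^ b := Units.ext (by simpa using h1)
    have ho : orderOf (Units.mk0 _ hne) = 6 := by rw [← orderOf_units, Units.val_mk0, hord]
    exact pow_injOn_Iio_orderOf (by rw [ho]; exact ha) (by rw [ho]; exact hb) h2
  have hsub : (Finset.range 6).image (fun k => r ^ (Fintype.card K ^ k)) ⊆ F.roots.toFinset := fun x hx => by
    obtain ⟨k, -, rfl⟩ := Finset.mem_image.1 hx
    exact Multiset.mem_toFinset.2 ((hroots _).2 (hk k))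
  have heq := Finset.eq_of_subset_of_card_le hsub (by
    rw [Finset.card_image_of_injOn hinj, Finset.card_range, ← hdeg, ← natDegree_map (algebraMap K L) (p := f),
      ← hF]
    exact (Multiset.toFinset_card_le _).trans (card_roots' F))
  have hmem' : r ^ i ∈ (Finset.range 6).image (fun k => r ^ (Fintype.card K ^ k)) := by
    rw [heq, Multiset.mem_toFinset, hroots]
    exact hi
  obtain ⟨k, hk6, hki⟩ := Finset.mem_image.1 hmem'
  refine ⟨k, Finset.mem_range.1 hk6, ?_⟩
  have := hfo.pow_eq_pow_iff_modEq.1 hki.symm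
  rwa [hro] at this

end Cyclic

/-! ### The representation -/

theorem short_cartan : ∀ r ∈ [0, 1, 5, 6, 10, 11],
    ((chevG2.cartanSR.getD 0 #[]).getD r 0) % 3 = 0 := by decide +kernel

theorem short_coroot : ∀ r < 12, chevG2.negIdx.getD r 0 ∈ [2, 3, 4, 7, 8, 9] →
    r ∈ [2, 3, 4, 7, 8, 9] ∧ ((chevG2.coroot.getD r #[]).getD 1 0) % 3 = 0 := by decide +kernel

theorem short_chain : ∀ r < 12, ∀ s ∈ [2, 3, 4, 7, 8, 9], ∀ u ∈ [0, 1, 5, 6, 10, 11],
    (chevG2.chainCoeff r s u).all (fun km => km.2 % 3 == 0) = true := by decide +kernel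

theorem short_out : ∀ u < 12, u ∈ [2, 3, 4, 7, 8, 9] ∨ u ∈ [0, 1, 5, 6, 10, 11] := by decide

theorem short_disjoint : ∀ u ∈ [2, 3, 4, 7, 8, 9], u ∉ [0, 1, 5, 6, 10, 11] := by decide

/-- The coordinates of the seven dimensional invariant subspace. -/
def InW : chevG2.Idx → Prop
  | Sum.inl i => i.val = 0
  | Sum.inr s => s.val ∈ [2, 3, 4, 7, 8, 9]

/-- The listing of those coordinates. -/
def wIdx : Fin 7 → chevG2.Idx :=
  ![Sum.inl ⟨0, by decide⟩, Sum.inr ⟨2, by decide⟩, Sum.inr ⟨3, by decide⟩, Sum.inr ⟨4, by decide⟩,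
    Sum.inr ⟨7, by decide⟩, Sum.inr ⟨8, by decide⟩, Sum.inr ⟨9, by decide⟩]

theorem wIdx_inj : Function.Injective wIdx := by decide +kernel

theorem inW_iff (a : chevG2.Idx) : InW a ↔ ∃ k, wIdx k = a := by
  constructor
  · rcases a with i | s
    · intro h; exact ⟨0, by simp [wIdx, Fin.ext_iff]; exact h.symm⟩
    · intro h
      simp only [InW, List.mem_cons, List.not_mem_nil, or_false] at h
      rcases h with h | h | h | h | h | h
      exacts [⟨1, by simp [wIdx, Fin.ext_iff, h]⟩, ⟨2, by simp [wIdx, Fin.ext_iff, h]⟩,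
        ⟨3, by simp [wIdx, Fin.ext_iff, h]⟩, ⟨4, by simp [wIdx, Fin.ext_iff, h]⟩,
        ⟨5, by simp [wIdx, Fin.ext_iff, h]⟩, ⟨6, by simp [wIdx, Fin.ext_iff, h]⟩]
  · rintro ⟨k, rfl⟩
    fin_cases k <;> simp [wIdx, InW]

variable {K : Type*} [Field K] [Fintype K] [CharP K 3] {m : ℕ}

local notation "GG" => twistedG2 K (3 ^ m)

/-- Preservation of the short-root subspace. -/
def Pres (M : Matrix chevG2.Idx chevG2.Idx K) : Prop := ∀ a b, ¬ InW a → InW b → M a b = 0

theorem cast_zero_of_mod {z : ℤ} (h : z % 3 = 0) : ((z : ℤ) : K) = 0 := by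
  obtain ⟨c, rfl⟩ := Int.dvd_of_emod_eq_zero h
  rw [Int.cast_mul, show ((3 : ℤ) : K) = 0 from by exact_mod_cast three (K := K), zero_mul]

theorem pres_xMat (r : Fin chevG2.nroots) (t : K) : Pres (chevG2.xMat K r t) := by
  intro a b ha hb
  have hr : r.val < 12 := r.isLt
  rcases b with i | s
  · have hi : i.val = 0 := hb
    rcases a with i' | u
    · have : i' ≠ i := fun e => ha (e ▸ hb)
      simp [ChevalleyDatum.xMat, this]
    · by_cases hur : u = r
      · subst hur
        have hu := (short_out u.val hr).resolve_left ha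
        simp only [ChevalleyDatum.xMat, Matrix.of_apply, hi, if_true]
        rw [cast_zero_of_mod (short_cartan _ hu), neg_zero, zero_mul]
      · simp [ChevalleyDatum.xMat, hur]
  · have hs : s.val ∈ [2, 3, 4, 7, 8, 9] := hb
    rcases a with i' | u
    · have hi1 : i'.val = 1 := by
        have h1 : i'.val < 2 := i'.isLt
        have h2 : i'.val ≠ 0 := ha
        omega
      by_cases hsr : s = r
      · simp [ChevalleyDatum.xMat, hsr]
      · by_cases hsn : s.val = chevG2.negIdx.getD r.val 0
        · obtain ⟨-, hco⟩ := short_coroot r.val hr (hsn ▸ hs)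
          simp only [ChevalleyDatum.xMat, Matrix.of_apply, hsr, hsn, hi1, if_false, if_true]
          rw [cast_zero_of_mod hco, zero_mul]
        · simp only [ChevalleyDatum.xMat, Matrix.of_apply, hsr, hsn, if_false]
    · have hus : u ≠ s := fun e => ha (e ▸ hb)
      have hu := (short_out u.val u.isLt).resolve_left ha
      by_cases hsr : s = r
      · simp [ChevalleyDatum.xMat, hsr, show u ≠ r from hsr ▸ hus]
      · by_cases hsn : s.val = chevG2.negIdx.getD r.val 0
        · have hur : u ≠ r := fun e => ha (e ▸ (short_coroot r.val hr (hsn ▸ hs)).1)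
          simp [ChevalleyDatum.xMat, hsr, hsn, hus, hur]
        · simp only [ChevalleyDatum.xMat, Matrix.of_apply, hsr, hsn, if_false, hus, zero_add]
          refine List.sum_eq_zero fun x hx => ?_
          obtain ⟨km, hkm, rfl⟩ := List.mem_map.1 hx
          have := List.all_eq_true.1 (short_chain r.val hr s.val hs u.val hu) km hkm
          rw [cast_zero_of_mod (beq_iff_eq.1 this), zero_mul]

theorem pres_mul {M N : Matrix chevG2.Idx chevG2.Idx K} (hM : Pres M) (hN : Pres N) : Pres (M * N) := by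
  intro a b ha hb
  rw [Matrix.mul_apply]
  refine Finset.sum_eq_zero fun c _ => ?_
  by_cases hc : InW c
  · rw [hM a c ha hc, zero_mul]
  · rw [hN c b hc hb, mul_zero]

theorem pres_one : Pres (1 : Matrix chevG2.Idx chevG2.Idx K) := fun a b ha hb =>
  Matrix.one_apply_ne fun e => ha (e ▸ hb)

theorem submatrix_mul_pres {M N : Matrix chevG2.Idx chevG2.Idx K} (hN : Pres N) :
    (M * N).submatrix wIdx wIdx = M.submatrix wIdx wIdx * N.submatrix wIdx wIdx := by
  ext a b
  simp only [Matrix.submatrix_apply, Matrix.mul_apply]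
  refine (Fintype.sum_of_injective wIdx wIdx_inj _ (fun c => M (wIdx a) c * N c (wIdx b))
    (fun c hc => ?_) fun c => rfl).symm
  rw [hN c (wIdx b) (fun h => hc ((inW_iff c).1 h)) ((inW_iff _).2 ⟨b, rfl⟩), mul_zero]

theorem pres_xg (r : ℕ) (t : K) : Pres ((xg hC r t : GL chevG2.Idx K) : Matrix chevG2.Idx chevG2.Idx K) := by
  rw [coe_xg]
  by_cases h : r < chevG2.nroots
  · rw [ChevalleyDatum.x, dif_pos h]
    exact pres_xMat _ t
  · rw [ChevalleyDatum.x, dif_neg h]
    exact pres_one

variable {hK : Fintype.card K = 3 ^ (2 * m + 1)} (X : Setup (K := K) hK)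
include X

theorem pres_mem {g : GL chevG2.Idx K} (hg : g ∈ GG) :
    Pres (g : Matrix chevG2.Idx chevG2.Idx K) := by
  classical
  have hpow : ∀ (x : GL chevG2.Idx K) (n : ℕ), Pres (x : Matrix chevG2.Idx chevG2.Idx K) →
      Pres ((x ^ n : GL chevG2.Idx K) : Matrix chevG2.Idx chevG2.Idx K) := by
    intro x n hx
    induction n with
    | zero => exact pres_one
    | succ n ih => rw [pow_succ]; exact pres_mul ih hx
  rw [show GG = _ from genSubgroup_eq hC (g2Words K (3 ^ m))] at hg
  induction hg using Subgroup.closure_induction with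
  | mem x hx =>
    obtain ⟨w, hw, rfl⟩ := hx
    obtain ⟨t, u, v, rfl | rfl⟩ := hw
    · rw [wordGL_U]
      simp only [wU, wd, yP, Units.val_mul]
      exact pres_mul (pres_mul (pres_xg _ _) (pres_xg _ _)) (pres_mul (pres_xg _ _)
        (pres_mul (pres_xg _ _) (pres_mul (pres_xg _ _) (pres_xg _ _))))
    · rw [wordGL_V]
      simp only [wV, wd, yN, Units.val_mul]
      exact pres_mul (pres_mul (pres_xg _ _) (pres_xg _ _)) (pres_mul (pres_xg _ _)
        (pres_mul (pres_xg _ _) (pres_mul (pres_xg _ _) (pres_xg _ _))))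
  | one => exact pres_one
  | mul x y _ _ hx hy => exact pres_mul hx hy
  | inv x _ hx =>
    rw [show x⁻¹ = x ^ (orderOf x - 1) from inv_eq_of_mul_eq_one_right (by
      rw [← pow_succ', Nat.sub_add_cancel (orderOf_pos x), pow_orderOf_eq_one])]
    exact hpow x _ hx

/-- The seven dimensional representation. -/
noncomputable def rep7 (X : Setup (K := K) hK) :
    ↥(twistedG2 K (3 ^ m)) →* Module.End K (Fin 7 → K) :=
  (Matrix.toLinAlgEquiv' : Matrix (Fin 7) (Fin 7) K ≃ₐ[K] Module.End K (Fin 7 → K)).toAlgHom.toMonoidHom.comp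
    { toFun := fun g : ↥(twistedG2 K (3 ^ m)) =>
        ((g : GL chevG2.Idx K) : Matrix chevG2.Idx chevG2.Idx K).submatrix wIdx wIdx
      map_one' := by
        rw [Subgroup.coe_one, Units.val_one]
        exact Matrix.submatrix_one _ wIdx_inj
      map_mul' := fun g h => by
        rw [Subgroup.coe_mul, Units.val_mul]
        exact submatrix_mul_pres (pres_mem X h.2) }

theorem rep7_injective (hm : 1 ≤ m) : Function.Injective (rep7 X) := by
  haveI := (Twist.G2.isSimple X hm).1
  let φ : GG →* (Module.End K (Fin 7 → K))ˣ := (rep7 X).toHomUnits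
  rcases φ.normal_ker.eq_bot_or_eq_top with h | h
  · rw [MonoidHom.ker_eq_bot_iff] at h
    intro g g' hg
    exact h (Units.ext hg)
  · exfalso
    have hj : rep7 X (torusHom X (-1)) = 1 :=
      congrArg Units.val (MonoidHom.mem_ker.1 (h ▸ Subgroup.mem_top (torusHom X (-1)) :
        torusHom X (-1) ∈ φ.ker))
    rw [← map_one (Matrix.toLinAlgEquiv' : Matrix (Fin 7) (Fin 7) K ≃ₐ[K] _)] at hj
    have h1 : (((torusHom X (-1) : GG) : GL chevG2.Idx K) : Matrix chevG2.Idx chevG2.Idx K).submatrix wIdx wIdx = 1 :=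
      (Matrix.toLinAlgEquiv' : Matrix (Fin 7) (Fin 7) K ≃ₐ[K] _).injective hj
    have h2 := congrFun (congrFun h1 4) 4
    rw [Matrix.submatrix_apply, coe_torusHom, coe_tor hC, Matrix.one_apply_eq, Root.dMat,
      Matrix.diagonal_apply_eq] at h2
    change ((torChar chevG2 (tc m (-1 : Kˣ)) 7 : Kˣ) : K) = 1 at h2
    have hodd : Odd (3 ^ m) := (show Odd 3 by decide).pow
    have hc : ∀ i, tc m (-1 : Kˣ) i = -1 := fun i => by
      simp only [tc]
      split_ifs
      · simp [hodd.neg_one_pow]
      · rfl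
    have hcart : chevG2.cartan 0 7 = 2 ∧ chevG2.cartan 1 7 = -1 := by decide +kernel
    have hrank : chevG2.rank = 2 := rfl
    rw [torChar, hrank, Finset.prod_range_succ, Finset.prod_range_succ, Finset.prod_range_zero,
      one_mul, hc, hc, hcart.1, hcart.2] at h2
    norm_num at h2
    exact neg_one_ne_one (K := K) h2

theorem det_rep7 (hm : 1 ≤ m) (g : GG) : LinearMap.det (rep7 X g) = 1 := by
  let D : GG →* Kˣ := (LinearMap.det.comp (rep7 X)).toHomUnits
  have hD : g ∈ D.ker := by
    refine Abelianization.commutator_subset_ker D ?_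
    have : commutator GG = ⊤ := Twist.G2.perfect X hm
    rw [this]
    exact Subgroup.mem_top _
  exact congrArg Units.val (MonoidHom.mem_ker.1 hD)

theorem order_six {p : ℕ} [Fact p.Prime] (hp3 : 3 < p)
    (hp : p ∣ (3 ^ (2 * m + 1)) ^ 2 - 3 ^ (2 * m + 1) + 1) :
    orderOf ((Fintype.card K : ℕ) : ZMod p) = 6 ∧ ∀ c : K, c ^ p = 1 → c = 1 := by
  obtain ⟨q, hq⟩ : ∃ q, q = 3 ^ (2 * m + 1) := ⟨_, rfl⟩
  rw [← hq] at hp
  have hle : q ≤ q ^ 2 := Nat.le_self_pow (by norm_num) q
  have h0 : ((q : ZMod p)) ^ 2 - q + 1 = 0 := by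
    have h := (CharP.cast_eq_zero_iff (ZMod p) p _).2 hp
    simpa [Nat.cast_sub hle] using h
  have hsmall : ∀ k : ℕ, (k : ZMod p) = 0 → 0 < k → k ≤ 3 → False := fun k hk hk0 hk3 => by
    have := Nat.le_of_dvd hk0 ((CharP.cast_eq_zero_iff (ZMod p) p _).1 hk)
    omega
  have h3 : ((q : ZMod p)) ^ 3 = -1 := by linear_combination ((q : ZMod p) + 1) * h0
  have hord : orderOf (q : ZMod p) = 6 := by
    rw [orderOf_eq_iff (by norm_num)]
    refine ⟨by linear_combination ((q : ZMod p) ^ 3 - 1) * h3, fun k hk6 hk0 e => ?_⟩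
    interval_cases k
    · exact hsmall 1 (by push_cast; linear_combination h0 - (q : ZMod p) * e) one_pos (by norm_num)
    · have hq2 : (q : ZMod p) = 2 := by linear_combination e - h0
      exact hsmall 3 (by push_cast; rw [hq2] at e; linear_combination e) (by norm_num) le_rfl
    · exact hsmall 2 (by push_cast; linear_combination h3 - e) (by norm_num) (by norm_num)
    · have hq1 : (q : ZMod p) = -1 := by linear_combination -e + (q : ZMod p) * h3
      exact hsmall 3 (by push_cast; rw [hq1] at h0; linear_combination h0) (by norm_num) le_rfl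
    · have hq2 : -((q : ZMod p)) ^ 2 = 1 := by linear_combination e - (q : ZMod p) ^ 2 * h3
      have hq1 : (q : ZMod p) = 0 := by linear_combination -h0 - hq2
      rw [hq1] at h0
      exact hsmall 1 (by push_cast; linear_combination h0) one_pos (by norm_num)
  classical
  refine ⟨by rw [hK, ← hq, hord], fun c hc => ?_⟩
  by_contra hc1
  have hc0 : c ≠ 0 := fun e => by
    rw [e, zero_pow (Fact.out : p.Prime).ne_zero] at hc; exact zero_ne_one hc
  have ho : orderOf (Units.mk0 c hc0) = p :=
    orderOf_eq_prime (Units.ext (by simpa using hc)) fun e => hc1 (by simpa using congrArg Units.val e)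
  have hdvd : p ∣ q - 1 := by
    rw [← ho, hq, ← hK, ← Fintype.card_units]
    exact orderOf_dvd_card
  have hq1 : (q : ZMod p) = 1 := by
    rw [← Nat.cast_one, ZMod.natCast_eq_natCast_iff]
    exact ((Nat.modEq_iff_dvd' (by rw [hq]; exact Nat.one_le_pow _ _ (by norm_num))).2 hdvd).symm
  rw [hq1, orderOf_one] at hord
  norm_num at hord

theorem cent_cyclic_six (hm : 1 ≤ m) {p : ℕ} [Fact p.Prime] (hp3 : 3 < p)
    (hp : p ∣ (3 ^ (2 * m + 1)) ^ 2 - 3 ^ (2 * m + 1) + 1) {g : GG} (hg : orderOf g = p)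
    (hno : ∀ h : GG, Commute h g → h ^ 3 = 1 → h = 1) :
    IsCyclic ↥(Subgroup.centralizer {g}) := by
  obtain ⟨hord, hK1⟩ := order_six X hp3 hp
  have hpK : (p : K) ≠ 0 := fun e => by
    have h3 := Nat.le_of_dvd (by norm_num : 0 < 3) (dvd_of_eq
      (((Nat.prime_dvd_prime_iff_eq Nat.prime_three (Fact.out : p.Prime)).1
        ((CharP.cast_eq_zero_iff K 3 p).1 e)).symm))
    omega
  refine cyclic_of_commuting (p := p) (A := rep7 X g) (by simp) hpK hord hK1
    (by rw [← map_pow, ← hg, pow_orderOf_eq_one, map_one]) (fun e => ?_)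
    ((rep7 X).comp (Subgroup.centralizer {g}).subtype)
    (fun c => by
      show rep7 X c * rep7 X g = rep7 X g * rep7 X c
      rw [← map_mul, ← map_mul, Subgroup.mem_centralizer_singleton_iff.1 c.2])
    (fun c => det_rep7 X hm _) fun c hc => ?_
  · have hg1 := rep7_injective X hm (e.trans (map_one _).symm)
    rw [hg1, orderOf_one] at hg
    omega
  · refine Subtype.ext (hno c (Subgroup.mem_centralizer_singleton_iff.1 c.2) (rep7_injective X hm ?_))
    rw [map_pow, map_one]
    have hchar : ∀ y : Module.End K (Fin 7 → K), (3 : ℕ) • y = 0 := fun y => by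
      rw [← Nat.cast_smul_eq_nsmul K, CharP.cast_eq_zero K 3, zero_smul]
    obtain ⟨N, hN⟩ : ∃ N, N = rep7 X c - 1 := ⟨_, rfl⟩
    have hc' : N * N = 0 := hN ▸ hc
    rw [show rep7 X (c : GG) = N + 1 by rw [hN, sub_add_cancel]]
    calc (N + 1) ^ 3 = N * N * N + (3 : ℕ) • (N * N) + (3 : ℕ) • N + 1 := by noncomm_ring
      _ = 1 := by rw [hc', hchar, hchar]; simp

theorem exponent_six (hm : 1 ≤ m) {p : ℕ} [Fact p.Prime] (hp3 : 3 < p)
    (hp : p ∣ (3 ^ (2 * m + 1)) ^ 2 - 3 ^ (2 * m + 1) + 1) {g n : GG} (hg : orderOf g = p) {i : ℕ}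
    (h : n * g * n⁻¹ = g ^ i) : ∃ k < 6, i ≡ Fintype.card K ^ k [MOD p] := by
  obtain ⟨hord, hK1⟩ := order_six X hp3 hp
  have hpK : (p : K) ≠ 0 := fun e => by
    have h3 := Nat.le_of_dvd (by norm_num : 0 < 3) (dvd_of_eq
      (((Nat.prime_dvd_prime_iff_eq Nat.prime_three (Fact.out : p.Prime)).1
        ((CharP.cast_eq_zero_iff K 3 p).1 e)).symm))
    omega
  refine exponent_of_conj (by simp) hpK hord hK1 (n := rep7 X n) ?_ (A := rep7 X g)
    (by rw [← map_pow, ← hg, pow_orderOf_eq_one, map_one]) (fun e => ?_) ?_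
  · exact Function.LeftInverse.injective (g := rep7 X n⁻¹) fun v => by
      rw [← Module.End.mul_apply, ← map_mul, inv_mul_cancel, map_one, Module.End.one_apply]
  · have hg1 := rep7_injective X hm (e.trans (map_one _).symm)
    rw [hg1, orderOf_one] at hg
    omega
  · rw [← map_pow, ← map_mul, ← map_mul, ← h, inv_mul_cancel_right]

end Cfsg.Agent.Ree
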