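import Cfsg.Agent.Lib.Ree.Tori2

/-!
The sorting of the elements of the small Ree groups, and the tori of order dividing
`q² - q + 1`.
-/

set_option autoImplicit false
set_option linter.unusedSectionVars false
set_option linter.style.haveILetI false

open scoped Matrix Pointwise MatrixGroups

namespace Cfsg.Agent.Ree

open Cfsg.Lie Cfsg.Agent.Chevalley Cfsg.Agent.Chevalley.Cert Cfsg.Agent.Chevalley.Group
  Cfsg.Agent.Chevalley.Twist Cfsg.Agent.Chevalley.Twist.G2 Cfsg.Agent.Chevalley.SL2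

variable {K : Type*} [Field K] [Fintype K] [CharP K 3] {m : ℕ}

local notation "GG" => twistedG2 K (3 ^ m)
local notation "qq" => Fintype.card K

variable {hK : Fintype.card K = 3 ^ (2 * m + 1)} (X : Setup (K := K) hK)
include X

theorem six_sep {p : ℕ} (hp : p.Prime) (h : p ∣ qq ^ 2 - qq + 1) :
    3 < p ∧ ¬ p ∣ qq ∧ ¬ p ∣ qq - 1 ∧ ¬ p ∣ qq + 1 := by
  obtain ⟨c, hc⟩ := three_dvd_q X
  have hle : qq ≤ qq ^ 2 := Nat.le_self_pow (by norm_num) _
  have hp3 : p ≠ 3 := by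
    rintro rfl
    have h9 : 3 ∣ qq ^ 2 - qq := Nat.dvd_sub (dvd_pow ⟨c, hc⟩ two_ne_zero) ⟨c, hc⟩
    have := (Nat.dvd_add_right h9).1 h
    omega
  have hp2 : p ≠ 2 := by
    rintro rfl
    have h2 : 2 ∣ qq ^ 2 - qq := by
      rw [sq, ← Nat.mul_sub_one]
      rcases Nat.even_or_odd qq with e | e
      · exact dvd_mul_of_dvd_left (even_iff_two_dvd.1 e) _
      · exact dvd_mul_of_dvd_right (even_iff_two_dvd.1 (e.tsub_odd odd_one)) _
    have := (Nat.dvd_add_right h2).1 h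
    omega
  have h3 : 3 < p := by
    have := hp.two_le
    omega
  refine ⟨h3, fun hq => ?_, fun hq => ?_, fun hq => ?_⟩
  · exact hp3 ((Nat.prime_dvd_prime_iff_eq hp Nat.prime_three).1
      (hp.dvd_of_dvd_pow (hK ▸ hq : p ∣ 3 ^ (2 * m + 1))))
  · have h9 : p ∣ qq ^ 2 - qq := by
      rw [sq, ← Nat.mul_sub_one]
      exact dvd_mul_of_dvd_right hq _
    exact hp.ne_one (Nat.dvd_one.1 ((Nat.dvd_add_right h9).1 h))
  · exact (prime_sep X hp hp2 hq).2.2.1 h

theorem six_prime_seven {p : ℕ} [Fact p.Prime] (h : p ∣ qq ^ 2 - qq + 1) : 7 ≤ p := by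
  obtain ⟨h3, hq, -, -⟩ := six_sep X Fact.out h
  obtain ⟨ho, -⟩ := order_six X h3 (hK ▸ h)
  have h6 := ZMod.orderOf_dvd_card_sub_one (p := p) (a := ((qq : ℕ) : ZMod p)) fun e =>
    hq ((CharP.cast_eq_zero_iff (ZMod p) p _).1 e)
  rw [ho] at h6
  have := Nat.le_of_dvd (by omega) h6
  omega

theorem six_pos : 0 < qq ^ 2 - qq + 1 := Nat.succ_pos _

theorem factorization_GG (l : ℕ) : (Nat.card GG).factorization l =
    3 * (qq).factorization l + (qq - 1).factorization l + (qq + 1).factorization l +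
      (qq ^ 2 - qq + 1).factorization l := by
  have hpos := Fintype.one_lt_card (α := K)
  rw [card_GG X, six_factor X, Nat.factorization_mul (mul_ne_zero (pow_ne_zero _ (by omega)) (by omega))
    (mul_ne_zero (by omega) (by omega)), Nat.factorization_mul (pow_ne_zero _ (by omega)) (by omega),
    Nat.factorization_mul (by omega) (by omega), Nat.factorization_pow]
  simp only [Finsupp.add_apply, Finsupp.smul_apply, smul_eq_mul]
  ring

theorem prime_cases {l : ℕ} (hl : l.Prime) (h : l ∣ Nat.card GG) :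
    l = 3 ∨ l = 2 ∨ (l ≠ 2 ∧ l ∣ qq - 1) ∨ (l ≠ 2 ∧ l ∣ qq + 1) ∨ l ∣ qq ^ 2 - qq + 1 := by
  rw [card_GG X, six_factor X] at h
  by_cases h2 : l = 2
  · exact Or.inr (Or.inl h2)
  rcases hl.dvd_mul.1 h with h | h
  · rcases hl.dvd_mul.1 h with h | h
    · have := hl.dvd_of_dvd_pow h
      rw [hK] at this
      exact Or.inl ((Nat.prime_dvd_prime_iff_eq hl Nat.prime_three).1 (hl.dvd_of_dvd_pow this))
    · exact Or.inr (Or.inr (Or.inl ⟨h2, h⟩))
  · rcases hl.dvd_mul.1 h with h | h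
    · exact Or.inr (Or.inr (Or.inr (Or.inl ⟨h2, h⟩)))
    · exact Or.inr (Or.inr (Or.inr (Or.inr h)))

theorem factorization_pred {l : ℕ} (hl : l.Prime) (hl2 : l ≠ 2) (hl1 : l ∣ qq - 1) :
    (Nat.card GG).factorization l = (qq - 1).factorization l ∧ ¬ l ∣ qq ∧ ¬ l ∣ qq + 1 ∧
      ¬ l ∣ qq ^ 2 - qq + 1 := by
  have hpos := Fintype.one_lt_card (α := K)
  have hq : ¬ l ∣ qq := fun h => hl.ne_one (Nat.dvd_one.1 (by
    have := Nat.dvd_sub h hl1
    rwa [show qq - (qq - 1) = 1 by omega] at this))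
  have hp1 : ¬ l ∣ qq + 1 := fun h => (prime_sep X hl hl2 h).2.1 hl1
  have hsix : ¬ l ∣ qq ^ 2 - qq + 1 := fun h => (six_sep X hl h).2.2.1 hl1
  refine ⟨?_, hq, hp1, hsix⟩
  rw [factorization_GG X, Nat.factorization_eq_zero_of_not_dvd hq,
    Nat.factorization_eq_zero_of_not_dvd hp1, Nat.factorization_eq_zero_of_not_dvd hsix]
  ring

theorem card_H' : Nat.card (torusHom X).range = qq - 1 := by
  rw [← Nat.card_congr (MonoidHom.ofInjective (torusHom_injective X)).toEquiv, Nat.card_units,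
    Nat.card_eq_fintype_card]

theorem isCyclic_H' : IsCyclic (torusHom X).range :=
  isCyclic_of_surjective (torusHom X).rangeRestrict (torusHom X).rangeRestrict_surjective

theorem prime_conj_H {l : ℕ} [Fact l.Prime] (hl2 : l ≠ 2) (hl1 : l ∣ qq - 1) {h : GG}
    (hh : orderOf h = l) : ∃ (k : GG) (y : Kˣ), y ^ 2 ≠ 1 ∧ k⁻¹ * h * k = torusHom X y := by
  obtain ⟨Q⟩ : Nonempty (Sylow l (torusHom X).range) := inferInstance
  have hcard : Nat.card ((Q : Subgroup (torusHom X).range).map (torusHom X).range.subtype) =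
      l ^ (Nat.card GG).factorization l := by
    rw [Subgroup.card_map_of_injective Subtype.coe_injective, Q.card_eq_multiplicity, card_H' X,
      (factorization_pred X Fact.out hl2 hl1).1]
  let P : Sylow l GG := Sylow.ofCard _ hcard
  have hpg : IsPGroup l (Subgroup.zpowers h) :=
    IsPGroup.of_card (n := 1) (by rw [Nat.card_zpowers, pow_one, hh])
  obtain ⟨Q', hQ⟩ := hpg.exists_le_sylow
  obtain ⟨k, rfl⟩ := MulAction.exists_smul_eq GG P Q'
  have h2 := hQ (Subgroup.mem_zpowers h)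
  rw [Sylow.coe_subgroup_smul, Subgroup.mem_pointwise_smul_iff_inv_smul_mem, Sylow.coe_ofCard] at h2
  obtain ⟨z, -, hz⟩ := h2
  obtain ⟨y, hy⟩ := z.2
  have e : k⁻¹ * h * k = torusHom X y := by
    rw [hy]
    simpa using hz.symm
  refine ⟨k, y, fun e2 => hl2 ?_, e⟩
  have h3 : orderOf (k⁻¹ * h * k) ∣ 2 := by
    rw [e]
    exact orderOf_dvd_of_pow_eq_one (by rw [← map_pow, e2, map_one])
  rw [orderOf_conj X, hh] at h3
  exact (Nat.prime_dvd_prime_iff_eq Fact.out Nat.prime_two).1 h3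

variable {Φ : SL(2, K) →* ↥(twistedG2 K (3 ^ m))} (hΦ : IsEmbed X Φ)
include hΦ

theorem card_range : 2 * Nat.card Φ.range = qq * ((qq - 1) * (qq + 1)) := by
  rw [← Cfsg.Agent.Classical.GL2.natCard_SL_two (F := K), ← Subgroup.card_mul_index Φ.ker,
    Subgroup.index_ker]
  congr 1
  symm
  rw [Nat.card_eq_two_iff]
  refine ⟨1, ⟨-1, hΦ.neg_one⟩, fun e => ?_, ?_⟩
  · have := congrArg (fun z : Φ.ker => el (z : SL(2, K)) 0 0) e
    simp [el] at this
    exact neg_one_ne_one (K := K) this.symm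
  · refine Set.eq_univ_of_forall fun ⟨B, hB⟩ => ?_
    rcases phi_eq_one X hΦ (MonoidHom.mem_ker.1 hB) with e | e
    · subst e; exact Or.inl rfl
    · subst e; exact Or.inr rfl

theorem card_centj :
    Nat.card (Subgroup.centralizer {torusHom X (-1)}) = qq * ((qq - 1) * (qq + 1)) := by
  classical
  let f : Bool × Φ.range → Subgroup.centralizer {torusHom X (-1)} := fun p =>
    ⟨(if p.1 then torusHom X (-1) else 1) * p.2, by
      obtain ⟨B, hB⟩ := p.2.2
      rw [Subgroup.mem_centralizer_singleton_iff]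
      exact (Commute.mul_right (commT0 X (Commute.refl _)).symm (hB ▸ hΦ.comm B)).eq.symm⟩
  have hf : Function.Bijective f := by
    constructor
    · have hne : ∀ a ∈ Φ.range, ∀ b ∈ Φ.range, torusHom X (-1) * a ≠ b := by
        rintro _ ⟨A, rfl⟩ _ ⟨B, rfl⟩ e
        exact phi_ne_j X hΦ (B * A⁻¹) (by rw [map_mul, map_inv, ← e, mul_inv_cancel_right])
      rintro ⟨b, x⟩ ⟨c, y⟩ h
      have h' := congrArg Subtype.val h
      cases b <;> cases c <;> simp only [f, Bool.false_eq_true, ↓reduceIte, one_mul] at h'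
      · rw [Subtype.ext h']
      · exact absurd h'.symm (hne _ y.2 _ x.2)
      · exact absurd h' (hne _ x.2 _ y.2)
      · rw [Subtype.ext (mul_left_cancel h')]
    · rintro ⟨g, hg⟩
      obtain ⟨B, hB | hB⟩ := cent_decomp X hΦ (Subgroup.mem_centralizer_singleton_iff.1 hg).symm
      · exact ⟨(false, ⟨_, B, rfl⟩), Subtype.ext (by simp [f, hB])⟩
      · exact ⟨(true, ⟨_, B, rfl⟩), Subtype.ext (by simp [f, hB])⟩
  rw [← Nat.card_eq_of_bijective f hf, Nat.card_prod, Nat.card_eq_fintype_card (α := Bool),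
    Fintype.card_bool, card_range X hΦ]

theorem orderOf_centj {g : GG} (hg : Commute (torusHom X (-1)) g) :
    orderOf g ∣ qq * ((qq - 1) * (qq + 1)) :=
  card_centj X hΦ ▸ Subgroup.orderOf_dvd_natCard _
    (Subgroup.mem_centralizer_singleton_iff.2 hg.eq.symm)

theorem orderOf_cent_invol (hm : 1 ≤ m) {g s : GG} (hs1 : s ≠ 1) (hs2 : s * s = 1)
    (hc : Commute s g) : orderOf g ∣ qq * ((qq - 1) * (qq + 1)) := by
  obtain ⟨k, rfl⟩ := involution_conj X hΦ hm hs1 hs2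
  rw [← orderOf_conj X k g]
  refine orderOf_centj X hΦ ?_
  simpa [mul_assoc] using hc.map (MulAut.conj k⁻¹).toMonoidHom

/-- Every element of order prime to three with non-trivial square lies in a torus. -/
theorem classify (hm : 1 ≤ m) {g : GG} (g2 : g * g ≠ 1) (g3 : ¬ 3 ∣ orderOf g) :
    (∃ (k : GG) (y : Kˣ), y ^ 2 ≠ 1 ∧ k⁻¹ * g * k = torusHom X y) ∨
      (∃ k : GG, k⁻¹ * g * k ∈ T0 X Φ ∧ (k⁻¹ * g * k) * (k⁻¹ * g * k) ≠ 1) ∨
      ∀ l : ℕ, l.Prime → l ∣ orderOf g → l ∣ qq ^ 2 - qq + 1 := by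
  classical
  have hpow : ∀ l : ℕ, l ∣ orderOf g → ∃ h : GG, orderOf h = l ∧ Commute g h := fun l hl =>
    ⟨g ^ (orderOf g / l), orderOf_pow_orderOf_div (orderOf_pos g).ne' hl, Commute.self_pow _ _⟩
  have cj : ∀ {k z : GG}, Commute g z → Commute (k⁻¹ * g * k) (k⁻¹ * z * k) := fun {k z} h => by
    simpa using h.map (MulAut.conj k⁻¹).toMonoidHom
  have hsq : ∀ k : GG, (k⁻¹ * g * k) * (k⁻¹ * g * k) ≠ 1 := fun k e => g2 <| by
    calc g * g = k * ((k⁻¹ * g * k) * (k⁻¹ * g * k)) * k⁻¹ := by group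
      _ = 1 := by rw [e]; group
  by_cases hH : ∃ l : ℕ, l.Prime ∧ l ≠ 2 ∧ l ∣ qq - 1 ∧ l ∣ orderOf g
  · obtain ⟨l, hl, hl2, hl1, hlg⟩ := hH
    haveI : Fact l.Prime := ⟨hl⟩
    obtain ⟨h, ho, hc⟩ := hpow l hlg
    obtain ⟨k, y, hy, e⟩ := prime_conj_H X hl2 hl1 ho
    have hcm : k⁻¹ * g * k ∈ Subgroup.centralizer {torusHom X y} :=
      Subgroup.mem_centralizer_singleton_iff.2 (e ▸ cj hc).eq
    rw [cent_tor X hΦ hm hy] at hcm
    obtain ⟨z, hz⟩ := hcm
    refine Or.inl ⟨k, z, fun e2 => hsq k ?_, hz.symm⟩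
    rw [← hz, ← map_mul, ← sq, e2, map_one]
  by_cases hT : ∃ l : ℕ, l.Prime ∧ l ≠ 2 ∧ l ∣ qq + 1 ∧ l ∣ orderOf g
  · obtain ⟨l, hl, hl2, hl1, hlg⟩ := hT
    haveI : Fact l.Prime := ⟨hl⟩
    obtain ⟨h, ho, hc⟩ := hpow l hlg
    obtain ⟨k, hk⟩ := (prime_conj X hΦ hl2 hl1 (by rw [← ho, pow_orderOf_eq_one])).1
    have hcent := cent_T2 X hΦ hm hk hl hl2 (by rw [orderOf_conj X, ho])
    exact Or.inr (Or.inl ⟨k, hcent ▸ Subgroup.mem_centralizer_singleton_iff.2 (cj hc).eq, hsq k⟩)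
  refine Or.inr (Or.inr fun l hl hlg => ?_)
  push Not at hH hT
  have hodd : ¬ 2 ∣ orderOf g := by
    intro h2
    obtain ⟨s, hs, hcs⟩ := hpow 2 h2
    have hs1 : s ≠ 1 := fun e => by rw [e, orderOf_one] at hs; norm_num at hs
    have hdiv := orderOf_cent_invol X hΦ hm hs1
      (by rw [← sq, ← hs, pow_orderOf_eq_one]) hcs.symm
    have hall : ∀ {d : ℕ}, d.Prime → d ∣ orderOf g → d = 2 := by
      intro d hd hdg
      by_contra hd2
      rcases hd.dvd_mul.1 (hdg.trans hdiv) with h | h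
      · rw [hK] at h
        exact g3 ((Nat.prime_dvd_prime_iff_eq hd Nat.prime_three).1 (hd.dvd_of_dvd_pow h) ▸ hdg)
      · rcases hd.dvd_mul.1 h with h | h
        · exact hH d hd hd2 h hdg
        · exact hT d hd hd2 h hdg
    haveI : Fact (Nat.Prime 2) := ⟨Nat.prime_two⟩
    have hpg : IsPGroup 2 (Subgroup.zpowers g) := IsPGroup.of_card (n := (orderOf g).primeFactorsList.length)
      (by rw [Nat.card_zpowers]; exact Nat.eq_prime_pow_of_unique_prime_dvd (orderOf_pos g).ne' hall)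
    obtain ⟨P, hP⟩ := hpg.exists_le_sylow
    exact g2 ((sylow_sq X hΦ P).2 g (hP (Subgroup.mem_zpowers g)))
  rcases prime_cases X hl (hlg.trans (orderOf_dvd_natCard g)) with e | e | ⟨e, e'⟩ | ⟨e, e'⟩ | e
  · exact absurd (e ▸ hlg) g3
  · exact absurd (e ▸ hlg) hodd
  · exact absurd hlg (hH l hl e e')
  · exact absurd hlg (hT l hl e e')
  · exact e

/-- A centraliser of an element of prime order dividing `q² - q + 1`. -/
def IsSix (T : Subgroup ↥(twistedG2 K (3 ^ m))) : Prop :=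
  ∃ (p : ℕ) (h : ↥(twistedG2 K (3 ^ m))), p.Prime ∧ p ∣ qq ^ 2 - qq + 1 ∧ orderOf h = p ∧
    T = Subgroup.centralizer {h}

omit hΦ in
theorem cent_six_cyclic (hm : 1 ≤ m) {p : ℕ} (hp : p.Prime) (hp1 : p ∣ qq ^ 2 - qq + 1) {h : GG}
    (ho : orderOf h = p) : IsCyclic ↥(Subgroup.centralizer {h}) := by
  haveI : Fact p.Prime := ⟨hp⟩
  obtain ⟨h3, hq, hm1, -⟩ := six_sep X hp hp1
  refine cent_cyclic_six X hm h3 (hK ▸ hp1) ho fun x hx hx3 => by_contra fun hx1 => ?_
  have hd := three_cent X hx3 hx1 hx.symm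
  rw [ho] at hd
  exact (hp.dvd_mul.1 hd).elim (fun e => hq (hp.dvd_of_dvd_pow e)) hm1

theorem cent_six_primes (hm : 1 ≤ m) {p : ℕ} (hp : p.Prime) (hp1 : p ∣ qq ^ 2 - qq + 1) {h : GG}
    (ho : orderOf h = p) {l : ℕ} (hl : l.Prime) (hlC : l ∣ Nat.card (Subgroup.centralizer {h})) :
    l ∣ qq ^ 2 - qq + 1 := by
  haveI : Fact l.Prime := ⟨hl⟩
  obtain ⟨h3, hq, hm1, hpl1⟩ := six_sep X hp hp1
  obtain ⟨⟨x, hx⟩, hxo⟩ := exists_prime_orderOf_dvd_card' (G := Subgroup.centralizer {h}) l hlC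
  rw [Subgroup.orderOf_mk] at hxo
  have hc : Commute x h := Subgroup.mem_centralizer_singleton_iff.1 hx
  have hx1 : x ≠ 1 := fun e => by rw [e, orderOf_one] at hxo; exact hl.ne_one hxo.symm
  have cj : ∀ k : GG, Commute (k⁻¹ * x * k) (k⁻¹ * h * k) := fun k => by
    simpa using hc.map (MulAut.conj k⁻¹).toMonoidHom
  rcases prime_cases X hl (hlC.trans (Subgroup.card_subgroup_dvd_card _)) with
    rfl | rfl | ⟨e, e'⟩ | ⟨e, e'⟩ | e
  · have hd := three_cent X (h := x) (by have := pow_orderOf_eq_one x; rwa [hxo] at this) hx1 hc.symm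
    rw [ho] at hd
    exact absurd ((hp.dvd_mul.1 hd).elim (fun e => hq (hp.dvd_of_dvd_pow e)) hm1) id
  · have hd := orderOf_cent_invol X hΦ hm hx1 (by rw [← sq]; have := pow_orderOf_eq_one x; rwa [hxo] at this) hc
    rw [ho] at hd
    exact absurd ((hp.dvd_mul.1 hd).elim hq fun e => (hp.dvd_mul.1 e).elim hm1 hpl1) id
  · obtain ⟨k, y, hy, ey⟩ := prime_conj_H X e e' hxo
    have hcm : k⁻¹ * h * k ∈ Subgroup.centralizer {torusHom X y} :=
      Subgroup.mem_centralizer_singleton_iff.2 (ey ▸ cj k).eq.symm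
    rw [cent_tor X hΦ hm hy] at hcm
    have hd := Subgroup.orderOf_dvd_natCard _ hcm
    rw [card_H' X, orderOf_conj X, ho] at hd
    exact absurd hd hm1
  · obtain ⟨k, hk⟩ := (prime_conj X hΦ e e' (by rw [← hxo, pow_orderOf_eq_one])).1
    have hcm : k⁻¹ * h * k ∈ T0 X Φ := by
      rw [← cent_T2 X hΦ hm hk hl e (by rw [orderOf_conj X, hxo])]
      exact Subgroup.mem_centralizer_singleton_iff.2 (cj k).eq.symm
    have hd := Subgroup.orderOf_dvd_natCard _ hcm
    rw [card_T0 X hΦ, orderOf_conj X, ho] at hd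
    exact absurd hd hpl1
  · exact e

variable {T : Subgroup ↥(twistedG2 K (3 ^ m))}

theorem six_cyclic (hm : 1 ≤ m) (hT : IsSix T) : IsCyclic T := by
  obtain ⟨p, h, hp, hp1, ho, rfl⟩ := hT
  exact cent_six_cyclic X hm hp hp1 ho

theorem six_comm (hm : 1 ≤ m) (hT : IsSix T) {x y : GG} (hx : x ∈ T) (hy : y ∈ T) :
    Commute x y := by
  haveI := six_cyclic X hΦ hm hT
  letI := IsCyclic.commGroup (α := T)
  exact congrArg Subtype.val (mul_comm (⟨x, hx⟩ : T) ⟨y, hy⟩)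

theorem six_cent (hm : 1 ≤ m) (hT : IsSix T) {x : GG} (hx : x ∈ T) (hx1 : x ≠ 1) :
    Subgroup.centralizer {x} = T := by
  refine le_antisymm ?_ (fun g hg =>
    Subgroup.mem_centralizer_singleton_iff.2 (six_comm X hΦ hm hT hg hx).eq)
  obtain ⟨l, hl, hlx⟩ := Nat.exists_prime_and_dvd (fun e => hx1 (orderOf_eq_one_iff.1 e))
  have hlT := hlx.trans (Subgroup.orderOf_dvd_natCard _ hx)
  obtain ⟨p, h, hp, hp1, ho, rfl⟩ := hT
  have hl1 := cent_six_primes X hΦ hm hp hp1 ho hl hlT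
  have ho' := orderOf_pow_orderOf_div (orderOf_pos x).ne' hlx
  have hT' : IsSix (Subgroup.centralizer {x ^ (orderOf x / l)}) := ⟨l, _, hl, hl1, ho', rfl⟩
  intro g hg
  have hg' : Commute g x := Subgroup.mem_centralizer_singleton_iff.1 hg
  refine Subgroup.mem_centralizer_singleton_iff.2 (six_comm X hΦ hm hT'
    (Subgroup.mem_centralizer_singleton_iff.2 (hg'.pow_right _).eq)
    (Subgroup.mem_centralizer_singleton_iff.2 ?_)).eq
  exact ((show Commute x h from Subgroup.mem_centralizer_singleton_iff.1 hx).symm.pow_right _).eq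

theorem six_cent_set (hm : 1 ≤ m) (hT : IsSix T) {A : Subgroup GG} (hA : A ≤ T) (hA1 : A ≠ ⊥) :
    Subgroup.centralizer (A : Set GG) = T := by
  obtain ⟨x, hx, hx1⟩ := (Subgroup.bot_or_exists_ne_one A).resolve_left hA1
  refine le_antisymm ?_ (fun g hg => Subgroup.mem_centralizer_iff.2 fun y hy =>
    (six_comm X hΦ hm hT (hA hy) hg).eq)
  rw [← six_cent X hΦ hm hT (hA hx) hx1]
  exact Subgroup.centralizer_le (Set.singleton_subset_iff.2 hx)

theorem six_prime_dvd (hm : 1 ≤ m) (hT : IsSix T) {l : ℕ} (hl : l.Prime) (h : l ∣ Nat.card T) :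
    l ∣ qq ^ 2 - qq + 1 := by
  obtain ⟨p, g, hp, hp1, ho, rfl⟩ := hT
  exact cent_six_primes X hΦ hm hp hp1 ho hl h

theorem six_seven (hm : 1 ≤ m) (hT : IsSix T) : 7 ≤ Nat.card T := by
  obtain ⟨p, h, hp, hp1, ho, rfl⟩ := hT
  haveI : Fact p.Prime := ⟨hp⟩
  refine (six_prime_seven X hp1).trans (Nat.le_of_dvd Nat.card_pos ?_)
  rw [← ho]
  exact Subgroup.orderOf_dvd_natCard _ (Subgroup.mem_centralizer_singleton_iff.2 rfl)

theorem six_conj (hT : IsSix T) (k : GG) : IsSix (T.map (MulAut.conj k).toMonoidHom) := by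
  obtain ⟨p, h, hp, hp1, ho, rfl⟩ := hT
  refine ⟨p, k * h * k⁻¹, hp, hp1, by rw [← ho, ← orderOf_conj X k⁻¹ h, inv_inv], ?_⟩
  ext g
  rw [Tools.mem_cent_conj]
  constructor
  · rintro ⟨a, ha, rfl⟩
    simpa [mul_assoc] using ha
  · intro hg
    exact ⟨_, hg, by simp [mul_assoc]⟩

theorem six_sylow (hm : 1 ≤ m) (hT : IsSix T) {l : ℕ} [Fact l.Prime] (hl : l ∣ Nat.card T) :
    ∃ P : Sylow l GG, (P : Subgroup GG) ≤ T := by
  obtain ⟨⟨x, hx⟩, hxo⟩ := exists_prime_orderOf_dvd_card' (G := T) l hl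
  rw [Subgroup.orderOf_mk] at hxo
  have hx1 : x ≠ 1 := fun e => by
    rw [e, orderOf_one] at hxo; exact (Fact.out : l.Prime).ne_one hxo.symm
  obtain ⟨P, hP⟩ := (IsPGroup.of_card (n := 1)
    (by rw [Nat.card_zpowers, pow_one, hxo]) : IsPGroup l (Subgroup.zpowers x)).exists_le_sylow
  have hxP := hP (Subgroup.mem_zpowers x)
  haveI : Nontrivial (P : Subgroup GG) := ⟨⟨⟨x, hxP⟩, 1, fun e => hx1 (congrArg Subtype.val e :)⟩⟩
  haveI := P.isPGroup'.center_nontrivial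
  obtain ⟨⟨⟨z, hz⟩, hzc⟩, hz1⟩ := exists_ne (1 : Subgroup.center (P : Subgroup GG))
  have hzc' : ∀ y ∈ (P : Subgroup GG), Commute y z := fun y hy =>
    congrArg Subtype.val (Subgroup.mem_center_iff.1 hzc ⟨y, hy⟩)
  have hzT : z ∈ T := by
    rw [← six_cent X hΦ hm hT hx hx1]
    exact Subgroup.mem_centralizer_singleton_iff.2 (hzc' x hxP).symm.eq
  refine ⟨P, fun y hy => ?_⟩
  rw [← six_cent X hΦ hm hT hzT (fun e => hz1 (Subtype.ext (Subtype.ext e)))]
  exact Subgroup.mem_centralizer_singleton_iff.2 (hzc' y hy).eq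

theorem six_factorization (hm : 1 ≤ m) (hT : IsSix T) {l : ℕ} (hl : l.Prime)
    (h : l ∣ Nat.card T) :
    (Nat.card T).factorization l = (qq ^ 2 - qq + 1).factorization l := by
  haveI : Fact l.Prime := ⟨hl⟩
  have hl1 := six_prime_dvd X hΦ hm hT hl h
  obtain ⟨-, hq, hm1, hp1⟩ := six_sep X hl hl1
  have e : (qq ^ 2 - qq + 1).factorization l = (Nat.card GG).factorization l := by
    rw [factorization_GG X, Nat.factorization_eq_zero_of_not_dvd hq,
      Nat.factorization_eq_zero_of_not_dvd hm1, Nat.factorization_eq_zero_of_not_dvd hp1]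
    ring
  rw [e]
  obtain ⟨P, hP⟩ := six_sylow X hΦ hm hT h
  refine le_antisymm (((Nat.factorization_le_iff_dvd Nat.card_pos.ne' Nat.card_pos.ne').2
    (Subgroup.card_subgroup_dvd_card T)) l) ?_
  rw [← Nat.Prime.pow_dvd_iff_le_factorization hl Nat.card_pos.ne', ← P.card_eq_multiplicity]
  exact Subgroup.card_dvd_of_le hP

theorem six_card_dvd (hm : 1 ≤ m) (hT : IsSix T) : Nat.card T ∣ qq ^ 2 - qq + 1 := by
  refine (Nat.factorization_le_iff_dvd Nat.card_pos.ne' (six_pos X).ne').1 fun l => ?_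
  by_cases hl : l.Prime ∧ l ∣ Nat.card T
  · exact (six_factorization X hΦ hm hT hl.1 hl.2).le
  · have : (Nat.card T).factorization l = 0 := by
      by_cases hl1 : l.Prime
      · exact Nat.factorization_eq_zero_of_not_dvd fun h => hl ⟨hl1, h⟩
      · exact Nat.factorization_eq_zero_of_not_prime _ hl1
    rw [this]
    exact Nat.zero_le _

theorem six_norm_eq (hm : 1 ≤ m) (hT : IsSix T) {A : Subgroup GG} (hA : A ≤ T) (hA1 : A ≠ ⊥) :
    Subgroup.normalizer (A : Set GG) = Subgroup.normalizer (T : Set GG) := by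
  haveI := six_cyclic X hΦ hm hT
  refine le_antisymm (fun g hg => Tools.mem_normalizer_of_maps fun t ht => ?_)
    (fun g hg => Tools.mem_normalizer_of_maps fun x hx =>
      Tools.mem_of_pow_eq_one hA ((Subgroup.mem_normalizer_iff.1 hg x).1 (hA hx)) ?_)
  · rw [← six_cent_set X hΦ hm hT hA hA1, Subgroup.mem_centralizer_iff]
    intro a ha
    have ha' : g⁻¹ * a * g ∈ A :=
      (Subgroup.mem_normalizer_iff.1 hg _).2 (by simpa [mul_assoc] using ha)
    have := (six_comm X hΦ hm hT (hA ha') ht).map (MulAut.conj g).toMonoidHom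
    simpa [mul_assoc] using this.eq
  · have h1 : x ^ Nat.card A = 1 := congrArg Subtype.val (pow_card_eq_one' (x := (⟨x, hx⟩ : A)))
    rw [conj_pow, h1]
    simp

theorem six_index (hm : 1 ≤ m) (hT : IsSix T) :
    Nat.card (Subgroup.normalizer (T : Set GG)) ≤ 6 * Nat.card T := by
  classical
  obtain ⟨p, h, hp, hp1, ho, hTe⟩ := hT
  haveI : Fact p.Prime := ⟨hp⟩
  have hT' : IsSix T := ⟨p, h, hp, hp1, ho, hTe⟩
  haveI := six_cyclic X hΦ hm hT'
  have hhT : h ∈ T := hTe ▸ Subgroup.mem_centralizer_singleton_iff.2 rfl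
  have hexp : ∀ n : Subgroup.normalizer (T : Set GG),
      ∃ k : Fin 6, (n : GG) * h * (n : GG)⁻¹ = h ^ (qq ^ (k : ℕ)) := by
    intro n
    have hz : (n : GG) * h * (n : GG)⁻¹ ∈ Subgroup.zpowers h :=
      Tools.mem_of_pow_eq_one (Subgroup.zpowers_le.2 hhT) ((Subgroup.mem_normalizer_iff.1 n.2 h).1 hhT)
        (by rw [conj_pow, Nat.card_zpowers, pow_orderOf_eq_one]; simp)
    obtain ⟨i, hi⟩ := (isOfFinOrder_of_finite h).mem_powers_iff_mem_zpowers.2 hz
    obtain ⟨k, hk, hik⟩ := exponent_six X hm (six_sep X hp hp1).1 (hK ▸ hp1) ho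
      (n := (n : GG)) (i := i) hi.symm
    exact ⟨⟨k, hk⟩, hi.symm.trans (pow_eq_pow_iff_modEq.2 (ho ▸ hik))⟩
  choose f hf using hexp
  let F : Subgroup.normalizer (T : Set GG) → Fin 6 × T := fun n =>
    (f n, ⟨((Function.invFun f (f n) : Subgroup.normalizer (T : Set GG)) : GG)⁻¹ * n, by
      obtain ⟨r, hr⟩ : ∃ r, Function.invFun f (f n) = r := ⟨_, rfl⟩
      have hfr : f r = f n := hr ▸ Function.invFun_eq ⟨n, rfl⟩
      have hval : (n : GG) * h * (n : GG)⁻¹ = (r : GG) * h * (r : GG)⁻¹ := by rw [hf, hf, hfr]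
      rw [hr]
      refine (SetLike.ext_iff.1 hTe _).2 (Subgroup.mem_centralizer_singleton_iff.2 ?_)
      calc (r : GG)⁻¹ * n * h = (r : GG)⁻¹ * ((n : GG) * h * (n : GG)⁻¹) * n := by group
        _ = h * ((r : GG)⁻¹ * n) := by rw [hval]; group⟩)
  have hF : Function.Injective F := fun a b e => by
    have h1 : f a = f b := congrArg Prod.fst e
    have h2 := congrArg (fun z : Fin 6 × T => (z.2 : GG)) e
    simp only [F, h1] at h2
    exact Subtype.ext (mul_left_cancel h2)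
  simpa [Nat.card_prod] using Nat.card_le_card_of_injective F hF

end Cfsg.Agent.Ree
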