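import Cfsg.Agent.Lib.Ree.Orders
import Mathlib.GroupTheory.Solvable

/-!
Solvable subgroups of the small Ree groups lie in local normalisers.
-/

set_option autoImplicit false
set_option linter.unusedSectionVars false
set_option linter.style.haveILetI false

open scoped Matrix Pointwise MatrixGroups commutatorElement

namespace Cfsg.Agent.Ree

open Cfsg.Lie Cfsg.Agent.Chevalley Cfsg.Agent.Chevalley.Cert Cfsg.Agent.Chevalley.Group
  Cfsg.Agent.Chevalley.Twist Cfsg.Agent.Chevalley.Twist.G2 Cfsg.Agent.Chevalley.SL2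

/-- A non-trivial elementary abelian normalised subgroup of a non-trivial finite solvable group. -/
theorem exists_elab {G : Type*} [Group G] [Finite G] (S : Subgroup G) (hS : Group.IsSolvable S)
    (hne : S ≠ ⊥) : ∃ (p : ℕ) (V : Subgroup G), p.Prime ∧ V ≤ S ∧ V ≠ ⊥ ∧
      (∀ x ∈ V, ∀ y ∈ V, Commute x y) ∧ (∀ x ∈ V, x ^ p = 1) ∧
      ∀ s ∈ S, ∀ x ∈ V, s * x * s⁻¹ ∈ V := by
  classical
  obtain ⟨N, hN⟩ := hS.solvable
  haveI : Nontrivial S := (Subgroup.nontrivial_iff_ne_bot S).2 hne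
  have hex : ∃ n, derivedSeries S n = ⊥ := ⟨N, hN⟩
  obtain ⟨n, hn, hn'⟩ : ∃ n, derivedSeries S n ≠ ⊥ ∧ derivedSeries S (n + 1) = ⊥ := by
    have h0 : Nat.find hex ≠ 0 := fun e => by
      have h := Nat.find_spec hex
      rw [e, derivedSeries_zero] at h
      exact top_ne_bot h
    refine ⟨Nat.find hex - 1, Nat.find_min hex (by omega), ?_⟩
    rw [show Nat.find hex - 1 + 1 = Nat.find hex by omega]
    exact Nat.find_spec hex
  obtain ⟨D, hD⟩ : ∃ D, D = derivedSeries S n := ⟨_, rfl⟩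
  haveI hDn : D.Normal := hD ▸ derivedSeries_normal S n
  rw [derivedSeries_succ, ← hD] at hn'
  rw [← hD] at hn
  have hcomm : ∀ x ∈ D, ∀ y ∈ D, Commute x y := fun x hx y hy => by
    have h := Subgroup.commutator_mem_commutator hx hy
    rw [hn', Subgroup.mem_bot, commutatorElement_eq_one_iff_mul_comm] at h
    exact h
  have hcard : Nat.card D ≠ 1 := fun e => hn (Subgroup.card_eq_one.1 e)
  obtain ⟨p, hp, hpD⟩ := Nat.exists_prime_and_dvd hcard
  haveI : Fact p.Prime := ⟨hp⟩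
  obtain ⟨⟨x, hx⟩, hxo⟩ := exists_prime_orderOf_dvd_card' (G := D) p hpD
  rw [Subgroup.orderOf_mk] at hxo
  let V : Subgroup S :=
    { carrier := {v | v ∈ D ∧ v ^ p = 1}
      one_mem' := ⟨one_mem _, one_pow p⟩
      mul_mem' := fun {a b} ha hb =>
        ⟨mul_mem ha.1 hb.1, by rw [(hcomm a ha.1 b hb.1).mul_pow, ha.2, hb.2, one_mul]⟩
      inv_mem' := fun {a} ha => ⟨inv_mem ha.1, by rw [inv_pow, ha.2, inv_one]⟩ }
  have hxV : x ∈ V := ⟨hx, by rw [← hxo, pow_orderOf_eq_one]⟩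
  refine ⟨p, V.map S.subtype, hp, Subgroup.map_subtype_le V, fun e => ?_, ?_, ?_, ?_⟩
  · have h : (x : G) ∈ V.map S.subtype := ⟨x, hxV, rfl⟩
    rw [e, Subgroup.mem_bot] at h
    have : x = 1 := Subtype.ext h
    rw [this, orderOf_one] at hxo
    exact hp.ne_one hxo.symm
  · rintro _ ⟨a, ha, rfl⟩ _ ⟨b, hb, rfl⟩
    exact (hcomm a ha.1 b hb.1).map S.subtype
  · rintro _ ⟨a, ha, rfl⟩
    rw [← map_pow, ha.2, map_one]
  · rintro s hs _ ⟨a, ha, rfl⟩
    refine ⟨(⟨s, hs⟩ : S) * a * (⟨s, hs⟩ : S)⁻¹, ⟨hDn.conj_mem a ha.1 _, ?_⟩, rfl⟩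
    rw [conj_pow, ha.2, mul_one, mul_inv_cancel]

variable {K : Type*} [Field K] [Fintype K] [CharP K 3] {m : ℕ}

local notation "GG" => twistedG2 K (3 ^ m)
local notation "qq" => Fintype.card K

variable {hK : Fintype.card K = 3 ^ (2 * m + 1)} (X : Setup (K := K) hK)
variable {Φ : SL(2, K) →* ↥(twistedG2 K (3 ^ m))} (hΦ : IsEmbed X Φ)
include hΦ

/-- The subgroups whose normalisers are the local normalisers. -/
def IsLocalBase (_hΦ : IsEmbed X Φ) (A : Subgroup ↥(twistedG2 K (3 ^ m))) : Prop :=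
  (∃ P : Sylow 2 ↥(twistedG2 K (3 ^ m)), A = P) ∨ (∃ P : Sylow 3 ↥(twistedG2 K (3 ^ m)), A = P) ∨
    (IsCyclic A ∧ (Nat.card A = (qq - 1) / 2 ∨ Nat.card A = (qq + 1) / 4 ∨
      Nat.card A = qq - 3 ^ (m + 1) + 1 ∨ Nat.card A = qq + 3 ^ (m + 1) + 1))

/-- A subgroup lies in a local normaliser. -/
def IsLocal (hΦ : IsEmbed X Φ) (S : Subgroup ↥(twistedG2 K (3 ^ m))) : Prop :=
  ∃ A : Subgroup ↥(twistedG2 K (3 ^ m)), S ≤ Subgroup.normalizer (A : Set ↥(twistedG2 K (3 ^ m))) ∧ IsLocalBase X hΦ A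

theorem isCyclic_conj {A : Subgroup GG} (k : GG) (hA : IsCyclic A) :
    IsCyclic (A.map (MulAut.conj k).toMonoidHom) :=
  isCyclic_of_surjective _ ((MulAut.conj k).toMonoidHom.subgroupMap_surjective A)

/-- Transport along a torus whose non-trivial subgroups have one normaliser. -/
theorem via_torus {A : Subgroup GG}
    (hA : IsCyclic A ∧ (Nat.card A = (qq - 1) / 2 ∨ Nat.card A = (qq + 1) / 4 ∨
      Nat.card A = qq - 3 ^ (m + 1) + 1 ∨ Nat.card A = qq + 3 ^ (m + 1) + 1))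
    (hN : ∀ B : Subgroup GG, B ≤ A → B ≠ ⊥ →
      Subgroup.normalizer (B : Set GG) = Subgroup.normalizer (A : Set GG))
    {S V : Subgroup GG} {k : GG} (hV : V ≠ ⊥) (hkV : ∀ v ∈ V, k⁻¹ * v * k ∈ A)
    (hSV : ∀ s ∈ S, ∀ x ∈ V, s * x * s⁻¹ ∈ V) : IsLocal X hΦ S := by
  refine ⟨A.map (MulAut.conj k).toMonoidHom, fun s hs => ?_, Or.inr (Or.inr ⟨isCyclic_conj X hΦ k hA.1, ?_⟩)⟩
  · rw [Tools.mem_normalizer_conj]
    have hmap : ∀ z, z ∈ V.map (MulAut.conj k⁻¹).toMonoidHom ↔ k * z * k⁻¹ ∈ V := fun z => by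
      constructor
      · rintro ⟨v, hv, rfl⟩
        simpa [mul_assoc] using hv
      · exact fun h => ⟨_, h, by simp [mul_assoc]⟩
    rw [← hN (V.map (MulAut.conj k⁻¹).toMonoidHom)
      (fun z hz => by simpa [mul_assoc] using hkV _ ((hmap z).1 hz))
      (fun e => hV <| (Subgroup.eq_bot_iff_forall V).2 fun v hv => by
        have h : k⁻¹ * v * k ∈ V.map (MulAut.conj k⁻¹).toMonoidHom :=
          (hmap _).2 (by simpa [mul_assoc] using hv)
        rw [e, Subgroup.mem_bot] at h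
        calc v = k * (k⁻¹ * v * k) * k⁻¹ := by group
          _ = 1 := by rw [h]; group)]
    refine Tools.mem_normalizer_of_maps fun z hz => (hmap _).2 ?_
    have := hSV s hs _ ((hmap z).1 hz)
    simpa [mul_assoc] using this
  · rw [Subgroup.card_map_of_injective (f := (MulAut.conj k).toMonoidHom) (MulAut.conj k).injective]
    exact hA.2

theorem local_two_sylow {S : Subgroup GG} (P : Sylow 2 GG)
    (h : ∀ s ∈ S, ∀ x ∈ (P : Subgroup GG), s * x * s⁻¹ ∈ (P : Subgroup GG)) : IsLocal X hΦ S :=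
  ⟨P, fun s hs => Tools.mem_normalizer_of_maps (h s hs), Or.inl ⟨P, rfl⟩⟩

theorem local_three {S V : Subgroup GG} (hV : V ≠ ⊥) (hcomm : ∀ x ∈ V, ∀ y ∈ V, Commute x y)
    (hpow : ∀ x ∈ V, x ^ 3 = 1) (hSV : ∀ s ∈ S, ∀ x ∈ V, s * x * s⁻¹ ∈ V) : IsLocal X hΦ S := by
  obtain ⟨x, hx, hx1⟩ := (Subgroup.bot_or_exists_ne_one V).resolve_left hV
  obtain ⟨k, hk⟩ := three_conj X (hpow x hx)
  obtain ⟨t, u, v, e⟩ := mem_UB X hk
  have hp : (t, u, v) ≠ (0 : K × K × K) := fun e' => by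
    rw [e', show uu X (0 : K × K × K) = 1 from uu_zero X] at e
    refine hx1 ?_
    calc x = k * (k⁻¹ * x * k) * k⁻¹ := by group
      _ = 1 := by rw [e]; group
  have hVb : ∀ y ∈ V, k⁻¹ * y * k ∈ bor X := fun y hy => by
    have hc : Commute (k⁻¹ * x * k) (k⁻¹ * y * k) := by
      simpa using (hcomm x hx y hy).map (MulAut.conj k⁻¹).toMonoidHom
    refine (smul_base X).1 (uu_fix_only_base X hp ?_)
    rw [← e, ← mul_smul, hc.eq, mul_smul, (smul_base X).2 (UB_le_bor X hk)]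
  obtain ⟨P0, hP0⟩ := exists_sylow X
  refine ⟨_, fun s hs => ?_, Or.inr (Or.inl ⟨k • P0, rfl⟩)⟩
  have hy : k⁻¹ * (s⁻¹ * x * s) * k ∈ bor X := hVb _ (by simpa using hSV _ (inv_mem hs) x hx)
  have hb : k⁻¹ * s * k ∈ bor X := by
    refine (smul_base X).1 (uu_fix_only_base X hp ?_)
    rw [← e, ← mul_smul, show k⁻¹ * x * k * (k⁻¹ * s * k) =
      k⁻¹ * s * k * (k⁻¹ * (s⁻¹ * x * s) * k) by group, mul_smul, (smul_base X).2 hy]
  rw [Sylow.coe_subgroup_smul, hP0, show MulAut.conj k • UB X =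
    (UB X).map (MulAut.conj k).toMonoidHom from rfl, Tools.mem_normalizer_conj]
  exact Tools.mem_normalizer_of_maps fun z hz => bor_conj_mem X hb hz

theorem local_odd (hm : 1 ≤ m) {p : ℕ} (hp : p.Prime) (hp2 : p ≠ 2) (hp3 : p ≠ 3)
    {S V : Subgroup GG} (hV : V ≠ ⊥) (hcomm : ∀ x ∈ V, ∀ y ∈ V, Commute x y)
    (hpow : ∀ x ∈ V, x ^ p = 1) (hSV : ∀ s ∈ S, ∀ x ∈ V, s * x * s⁻¹ ∈ V) : IsLocal X hΦ S := by
  haveI : Fact p.Prime := ⟨hp⟩
  obtain ⟨x, hx, hx1⟩ := (Subgroup.bot_or_exists_ne_one V).resolve_left hV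
  have hxo : orderOf x = p := orderOf_eq_prime (hpow x hx) hx1
  have hodd : Odd p := hp.odd_of_ne_two hp2
  have hyodd : ∀ (k : GG) (y : GG), y ∈ V → Odd (orderOf (k⁻¹ * y * k)) := fun k y hy => by
    rw [orderOf_conj X]
    exact Odd.of_dvd_nat hodd (orderOf_dvd_of_pow_eq_one (hpow y hy))
  have hc : ∀ (k : GG) (y : GG), y ∈ V →
      k⁻¹ * y * k ∈ Subgroup.centralizer {k⁻¹ * x * k} := fun k y hy => by
    have := (hcomm y hy x hx).map (MulAut.conj k⁻¹).toMonoidHom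
    exact Subgroup.mem_centralizer_singleton_iff.2 (by simpa [mul_assoc] using this.eq)
  rcases prime_cases X hp (hxo ▸ orderOf_dvd_natCard x) with e | e | ⟨-, e⟩ | ⟨-, e⟩ | e
  · exact absurd e hp3
  · exact absurd e hp2
  · obtain ⟨k, y, hy, ey⟩ := prime_conj_H X hp2 e hxo
    refine via_torus X hΦ (A := AH X hΦ) ⟨isCyclic_AH X hΦ, Or.inl (card_AH X hΦ)⟩ (fun B hB hB1 => ?_)
      hV (fun v hv => mem_AH_of_odd X hΦ ?_ (hyodd k v hv)) hSV
    · have key : ∀ B : Subgroup GG, B ≤ AH X hΦ → B ≠ ⊥ →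
          Subgroup.normalizer (B : Set GG) = NH X := by
        intro B h0 h1
        obtain ⟨z, hz, hz1⟩ := (Subgroup.bot_or_exists_ne_one B).resolve_left h1
        obtain ⟨w, hw, rfl⟩ := AH_reg X hΦ (h0 hz) hz1
        exact norm_tor X hΦ hm (h0.trans (AH_le X hΦ)) hw hz
      rw [key B hB hB1, key _ le_rfl (fun e' => hB1 (le_bot_iff.1 (e' ▸ hB)))]
    · have h := hc k v hv
      rwa [ey, cent_tor X hΦ hm hy] at h
  · obtain ⟨k, hk⟩ := (prime_conj X hΦ hp2 e (hpow x hx)).1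
    have hcent := cent_T2 X hΦ hm hk hp hp2 (by rw [orderOf_conj X, hxo])
    refine via_torus X hΦ (A := A0 X hΦ) ⟨isCyclic_A0 X hΦ, Or.inr (Or.inl (card_A0 X hΦ).1)⟩
      (fun B hB hB1 => ?_) hV (fun v hv => mem_A0_of_odd X hΦ (hcent ▸ hc k v hv) (hyodd k v hv)) hSV
    rw [norm_A0 X hΦ hm hB hB1, norm_A0 X hΦ hm le_rfl fun e' => hB1 (le_bot_iff.1 (e' ▸ hB))]
  · have hT : IsSix (Subgroup.centralizer {x}) := ⟨p, x, hp, e, hxo, rfl⟩
    obtain ⟨Ta, Tb, ha, hb, hca, hcb, -, -, hset⟩ := exists_tori X hΦ hm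
    have hne : Nat.card Ta ≠ Nat.card Tb := by
      rw [hca, hcb]
      have := Nat.pow_pos (n := m + 1) (show 0 < 3 by norm_num)
      omega
    have hxs : x ∈ sixSet K m := ⟨hx1, fun l hl hlx => by
      rw [hxo] at hlx
      exact ((Nat.prime_dvd_prime_iff_eq hl hp).1 hlx) ▸ e⟩
    rw [hset] at hxs
    rcases hxs with ⟨k, hk, hk1⟩ | ⟨k, hk, hk1⟩
    · exact via_torus X hΦ (A := Ta) ⟨six_cyclic X hΦ hm ha, Or.inr (Or.inr (Or.inl hca))⟩
        (fun B hB hB1 => six_norm_eq X hΦ hm ha hB hB1) hV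
        (fun v hv => six_cent X hΦ hm ha hk hk1 ▸ hc k v hv) hSV
    · exact via_torus X hΦ (A := Tb) ⟨six_cyclic X hΦ hm hb, Or.inr (Or.inr (Or.inr hcb))⟩
        (fun B hB hB1 => six_norm_eq X hΦ hm hb hB hB1) hV
        (fun v hv => six_cent X hΦ hm hb hk hk1 ▸ hc k v hv) hSV

/-- An element of order four of `SL₂` is conjugate to the monomial element up to sign. -/
theorem conj_sw {B : SL(2, K)} (hB : B * B = -1) :
    ∃ C : SL(2, K), Φ C * Φ B * (Φ C)⁻¹ = Φ sw := by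
  classical
  obtain ⟨a, ea⟩ : ∃ a, a = el B 0 0 := ⟨_, rfl⟩
  obtain ⟨b, eb⟩ : ∃ b, b = el B 0 1 := ⟨_, rfl⟩
  obtain ⟨c, ec⟩ : ∃ c, c = el B 1 0 := ⟨_, rfl⟩
  obtain ⟨d, ed⟩ : ∃ d, d = el B 1 1 := ⟨_, rfl⟩
  have e00 := congrArg (fun A : SL(2, K) => el A 0 0) hB
  have e01 := congrArg (fun A : SL(2, K) => el A 0 1) hB
  simp only [el_mul] at e00 e01
  simp [el] at e00 e01 ea eb ec ed
  rw [← ea, ← eb, ← ec] at e00
  rw [← ea, ← eb, ← ed] at e01
  have hb : b ≠ 0 := fun h => neg_one_nonsquare (hK := hK) a (by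
    rw [h] at e00; linear_combination e00)
  have hd : a + d = 0 := (mul_eq_zero.1 (show b * (a + d) = 0 by linear_combination e01)).resolve_left hb
  obtain ⟨ε, s, hε, hs, hs2⟩ : ∃ ε s : K, (ε = 1 ∨ ε = -1) ∧ s ≠ 0 ∧ b = ε * s ^ 2 := by
    rcases em (IsSquare b) with ⟨s, hs⟩ | hn
    · exact ⟨1, s, Or.inl rfl, fun e => hb (by rw [hs, e, mul_zero]), by rw [hs]; ring⟩
    · have hm1 : ¬ IsSquare (-1 : K) := fun ⟨s, hs⟩ =>
        neg_one_nonsquare (hK := hK) s (by linear_combination -hs)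
      have hq2 : ringChar K ≠ 2 := by rw [ringChar.eq K 3]; norm_num
      have hsq : quadraticChar K (-b) = 1 := by
        rw [neg_eq_neg_one_mul, map_mul, quadraticChar_neg_one_iff_not_isSquare.2 hm1,
          quadraticChar_neg_one_iff_not_isSquare.2 hn]
        norm_num
      obtain ⟨s, hs⟩ := (quadraticChar_one_iff_isSquare (neg_ne_zero.2 hb)).1 hsq
      exact ⟨-1, s, Or.inr rfl, fun e => hb (neg_eq_zero.1 (by rw [hs, e, mul_zero])),
        by rw [show b = -(-b) by ring, hs]; ring⟩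
  have hε2 : ε * ε = 1 := by rcases hε with rfl | rfl <;> norm_num
  let C : SL(2, K) := ⟨!![1 / s, 0; ε * a / s, ε * b / s], by
    rw [Matrix.det_fin_two_of]
    field_simp
    rw [hs2]
    linear_combination s ^ 2 * hε2⟩
  refine ⟨C, ?_⟩
  rw [mul_inv_eq_iff_eq_mul, ← map_mul, ← map_mul]
  have hCc : (C : Matrix (Fin 2) (Fin 2) K) = !![1 / s, 0; ε * a / s, ε * b / s] := rfl
  clear_value C
  have key : C * B = sw * C ∨ C * B = -(sw * C) := by
    rcases hε with rfl | rfl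
    · left
      ext i j
      fin_cases i <;> fin_cases j <;>
        simp [hCc, Matrix.mul_apply, Fin.sum_univ_two, ← ea, ← eb, ← ec, ← ed] <;>
        field_simp <;>
        first
          | linear_combination e00
          | linear_combination b * hd
          | ring
    · right
      ext i j
      fin_cases i <;> fin_cases j <;>
        simp [hCc, Matrix.mul_apply, Fin.sum_univ_two, ← ea, ← eb, ← ec, ← ed] <;>
        field_simp <;>
        first
          | linear_combination e00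
          | linear_combination -e00
          | linear_combination b * hd
          | linear_combination -b * hd
          | ring
  rcases key with e | e
  · rw [e]
  · rw [e, phi_neg X hΦ]

theorem local_two (hm : 1 ≤ m) {S V : Subgroup GG} (hV : V ≠ ⊥)
    (hcomm : ∀ x ∈ V, ∀ y ∈ V, Commute x y) (hpow : ∀ x ∈ V, x ^ 2 = 1)
    (hne2 : Nat.card V ≠ 2) (hSV : ∀ s ∈ S, ∀ x ∈ V, s * x * s⁻¹ ∈ V) : IsLocal X hΦ S := by
  classical
  haveI : Fact (Nat.Prime 2) := ⟨Nat.prime_two⟩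
  have hpg : IsPGroup 2 V := fun x => ⟨1, Subtype.ext (by simpa using hpow x x.2)⟩
  obtain ⟨P, hP⟩ := hpg.exists_le_sylow
  obtain ⟨hP8, -⟩ := sylow_sq X hΦ P
  have hdvd : Nat.card V ∣ 2 ^ 3 := by
    have := Subgroup.card_dvd_of_le hP
    rw [show Nat.card (P : Subgroup GG) = 8 from hP8] at this
    exact this
  obtain ⟨n, hn, hVn⟩ := (Nat.dvd_prime_pow Nat.prime_two).1 hdvd
  have hV1 : Nat.card V ≠ 1 := fun e => hV (Subgroup.card_eq_one.1 e)
  obtain h8 | h4 : Nat.card V = 8 ∨ Nat.card V = 4 := by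
    interval_cases n <;> simp_all
  · refine local_two_sylow X hΦ P ?_
    rw [← Subgroup.eq_of_le_of_card_ge hP (by
      rw [h8, show Nat.card (P : Subgroup GG) = 8 from hP8])]
    exact hSV
  obtain ⟨e, he, he1⟩ := (Subgroup.bot_or_exists_ne_one V).resolve_left hV
  have hsqV : ∀ z ∈ V, z * z = 1 := fun z hz => by rw [← sq]; exact hpow z hz
  obtain ⟨k, rfl⟩ := involution_conj X hΦ hm he1 (hsqV e he)
  obtain ⟨v, hv, hv1, hvj⟩ : ∃ v ∈ V, v ≠ 1 ∧ v ≠ k * torusHom X (-1) * k⁻¹ := by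
    by_contra hcon
    push Not at hcon
    have hsub : (V : Set GG) ⊆ {1, k * torusHom X (-1) * k⁻¹} := fun z hz => by
      by_cases hz1 : z = 1
      · exact Or.inl hz1
      · exact Or.inr (hcon z hz hz1)
    have h := Set.ncard_le_ncard hsub
    rw [Set.ncard_pair (Ne.symm he1), ← Nat.card_coe_set_eq] at h
    change Nat.card V ≤ 2 at h
    omega
  have hjv : Commute (torusHom X (-1)) (k⁻¹ * v * k) := by
    have := (hcomm _ he v hv).map (MulAut.conj k⁻¹).toMonoidHom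
    simpa [mul_assoc] using this
  obtain ⟨B, hB⟩ := cent_decomp X hΦ hjv
  have hv' : k⁻¹ * v * k * (k⁻¹ * v * k) = 1 := by
    calc _ = k⁻¹ * (v * v) * k := by group
      _ = 1 := by rw [hsqV v hv]; group
  have hBB : Φ (B * B) = 1 := by
    rw [map_mul]
    rcases hB with h | h <;> rw [h] at hv'
    · exact hv'
    · rwa [(hΦ.comm B).symm.mul_mul_mul_comm, j_sq X hΦ, one_mul] at hv'
  have hB4 : B * B = -1 := by
    refine (phi_eq_one X hΦ hBB).resolve_left fun h => ?_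
    have hB1 : Φ B = 1 := by
      have e00 := congrArg (fun A : SL(2, K) => el A 0 0) h
      have e01 := congrArg (fun A : SL(2, K) => el A 0 1) h
      have e10 := congrArg (fun A : SL(2, K) => el A 1 0) h
      have e11 := congrArg (fun A : SL(2, K) => el A 1 1) h
      simp only [el_mul] at e00 e01 e10 e11
      have hdet := el_det B
      simp [el] at e00 e01 e10 e11 hdet
      have h2 : (2 : K) ≠ 0 := fun e => neg_one_ne_one (K := K) (by linear_combination -e)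
      have htr : B.1 0 0 + B.1 1 1 ≠ 0 := fun ht => h2 (by
        linear_combination -hdet + B.1 0 0 * ht - e00)
      have hb : B.1 0 1 = 0 :=
        (mul_eq_zero.1 (show B.1 0 1 * (B.1 0 0 + B.1 1 1) = 0 by linear_combination e01)).resolve_right htr
      have hc : B.1 1 0 = 0 :=
        (mul_eq_zero.1 (show B.1 1 0 * (B.1 0 0 + B.1 1 1) = 0 by linear_combination e10)).resolve_right htr
      rw [hb, hc] at e00 hdet
      rcases sq_eq_one_iff.1 (show B.1 0 0 ^ 2 = 1 by linear_combination e00) with ha | ha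
      · rw [show B = 1 by
          ext i j
          fin_cases i <;> fin_cases j <;> simp [ha, hb, hc]
          rw [ha] at hdet; linear_combination hdet, map_one]
      · rw [show B = -1 by
          ext i j
          fin_cases i <;> fin_cases j <;> simp [ha, hb, hc]
          rw [ha] at hdet; linear_combination -hdet, hΦ.neg_one]
    have e3 : v = k * (k⁻¹ * v * k) * k⁻¹ := by group
    rcases hB with h' | h' <;> rw [h', hB1] at e3
    · exact hv1 (by rw [e3]; group)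
    · exact hvj (by rw [e3, mul_one])
  obtain ⟨C, hC⟩ := conj_sw X hΦ hB4
  have hw : Φ sw ∈ T0 X Φ := (mem_T0 X hΦ).2 ⟨sw, sw_mem_T1 X, Or.inl rfl⟩
  obtain ⟨W, hW⟩ : ∃ W, W = V.map (MulAut.conj (Φ C * k⁻¹)).toMonoidHom := ⟨_, rfl⟩
  have hWmem : ∀ z, z ∈ W ↔ k * (Φ C)⁻¹ * z * (Φ C * k⁻¹) ∈ V := fun z => by
    rw [hW]
    constructor
    · rintro ⟨a, ha, rfl⟩
      simpa [mul_assoc] using ha
    · exact fun h => ⟨_, h, by simp [mul_assoc]⟩
  have hjW : torusHom X (-1) ∈ W := by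
    rw [hWmem, show k * (Φ C)⁻¹ * torusHom X (-1) * (Φ C * k⁻¹) =
      k * ((Φ C)⁻¹ * torusHom X (-1) * Φ C) * k⁻¹ by group,
      ← ((hΦ.comm C).inv_right).eq, inv_mul_cancel_right]
    exact he
  have hwW : Φ sw ∈ W := by
    have h1 : Φ C * (k⁻¹ * v * k) * (Φ C)⁻¹ ∈ W := (hWmem _).2 (by simpa [mul_assoc] using hv)
    rcases hB with h | h <;> rw [h] at h1
    · rwa [hC] at h1
    · rw [show Φ C * (torusHom X (-1) * Φ B) * (Φ C)⁻¹ = torusHom X (-1) * (Φ C * Φ B * (Φ C)⁻¹) by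
        rw [← mul_assoc (Φ C), ← (hΦ.comm C).eq]; group, hC] at h1
      have := mul_mem hjW h1
      rwa [← mul_assoc, j_sq X hΦ, one_mul] at this
  have hWc : Nat.card W = 4 := by
    rw [hW, Subgroup.card_map_of_injective (MulAut.conj _).injective, h4]
  have hWeq : ∀ z ∈ W, z ∈ T0 X Φ := by
    let f : Fin 4 → W := ![1, ⟨_, hjW⟩, ⟨_, hwW⟩, ⟨_, mul_mem hjW hwW⟩]
    have hjne : torusHom X (-1) ≠ 1 := fun h => phi_ne_j X hΦ 1 (by rw [map_one]; exact h.symm)
    have hjw : torusHom X (-1) ≠ Φ sw := fun h => phi_ne_j X hΦ sw h.symm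
    have hwne := (sw_four X hΦ).2
    have hjw1 : torusHom X (-1) * Φ sw ≠ 1 := fun h => hjw (by
      calc torusHom X (-1) = torusHom X (-1) * Φ sw * Φ sw := by
            rw [mul_assoc, (sw_four X hΦ).1, mul_one]
        _ = Φ sw := by rw [h, one_mul])
    have hjwj : torusHom X (-1) * Φ sw ≠ torusHom X (-1) := fun h =>
      hwne (mul_left_cancel (h.trans (mul_one _).symm))
    have hjww : torusHom X (-1) * Φ sw ≠ Φ sw := fun h => hjne (mul_eq_right.1 h)
    have hf : Function.Injective f := by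
      intro i j h
      have h' := congrArg Subtype.val h
      fin_cases i <;> fin_cases j <;>
        first
          | rfl
          | exact absurd h' hjne
          | exact absurd h'.symm hjne
          | exact absurd h' hwne
          | exact absurd h'.symm hwne
          | exact absurd h' hjw
          | exact absurd h'.symm hjw
          | exact absurd h' hjw1
          | exact absurd h'.symm hjw1
          | exact absurd h' hjwj
          | exact absurd h'.symm hjwj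
          | exact absurd h' hjww
          | exact absurd h'.symm hjww
    have hfb : Function.Bijective f :=
      (Nat.bijective_iff_injective_and_card f).2 ⟨hf, by rw [Nat.card_fin, hWc]⟩
    intro z hz
    obtain ⟨i, hi⟩ := hfb.2 ⟨z, hz⟩
    rw [show z = (f i : GG) from (congrArg Subtype.val hi).symm]
    fin_cases i
    · exact one_mem _
    · exact j_mem_T0 X hΦ
    · exact hw
    · exact mul_mem (j_mem_T0 X hΦ) hw
  obtain ⟨l, hl, -, -, y, hy, hyo⟩ := exists_A0_ne X hΦ hm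
  have hA0 : A0 X hΦ ≠ ⊥ := fun h => by
    rw [h, Subgroup.mem_bot] at hy
    rw [hy, orderOf_one] at hyo
    exact hl.ne_one hyo.symm
  refine ⟨(A0 X hΦ).map (MulAut.conj (k * (Φ C)⁻¹)).toMonoidHom, fun s hs => ?_,
    Or.inr (Or.inr ⟨isCyclic_conj X hΦ _ (isCyclic_A0 X hΦ), Or.inr (Or.inl (by
      rw [Subgroup.card_map_of_injective (MulAut.conj _).injective]; exact (card_A0 X hΦ).1))⟩)⟩
  rw [Tools.mem_normalizer_conj, norm_A0 X hΦ hm le_rfl hA0]
  have key : ∀ z ∈ W, (k * (Φ C)⁻¹)⁻¹ * s * (k * (Φ C)⁻¹) * z *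
      ((k * (Φ C)⁻¹)⁻¹ * s * (k * (Φ C)⁻¹))⁻¹ ∈ W := fun z hz => by
    rw [hWmem]
    have h := hSV s hs _ ((hWmem z).1 hz)
    convert h using 1
    group
  exact norm_four X hΦ hm (hWeq _ (key _ hjW)) (hWeq _ (key _ hwW))

theorem local_elab (hm : 1 ≤ m) {p : ℕ} (hp : p.Prime) {S V : Subgroup GG} (hV : V ≠ ⊥)
    (hcomm : ∀ x ∈ V, ∀ y ∈ V, Commute x y) (hpow : ∀ x ∈ V, x ^ p = 1)
    (hne2 : p = 2 → Nat.card V ≠ 2) (hSV : ∀ s ∈ S, ∀ x ∈ V, s * x * s⁻¹ ∈ V) : IsLocal X hΦ S := by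
  rcases eq_or_ne p 2 with rfl | hp2
  · exact local_two X hΦ hm hV hcomm hpow (hne2 rfl) hSV
  rcases eq_or_ne p 3 with rfl | hp3
  · exact local_three X hΦ hV hcomm hpow hSV
  exact local_odd X hΦ hm hp hp2 hp3 hV hcomm hpow hSV

theorem local_solvable (hm : 1 ≤ m) (S : Subgroup GG) (hS : Group.IsSolvable S) : IsLocal X hΦ S := by
  classical
  haveI : Fact (Nat.Prime 2) := ⟨Nat.prime_two⟩
  obtain ⟨P0⟩ : Nonempty (Sylow 2 GG) := inferInstance
  by_cases hne : S = ⊥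
  · refine local_two_sylow X hΦ P0 fun s hs x hx => ?_
    rw [hne, Subgroup.mem_bot] at hs
    simpa [hs] using hx
  obtain ⟨p, V, hp, hVS, hV, hcomm, hpow, hSV⟩ := exists_elab S hS hne
  by_cases h2 : p = 2 ∧ Nat.card V = 2
  swap
  · exact local_elab X hΦ hm hp hV hcomm hpow (fun e e' => h2 ⟨e, e'⟩) hSV
  obtain ⟨rfl, hc2⟩ := h2
  obtain ⟨e, he, he1⟩ := (Subgroup.bot_or_exists_ne_one V).resolve_left hV
  have heS : ∀ s ∈ S, s * e * s⁻¹ = e := fun s hs => by
    by_contra hne'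
    have h1 : s * e * s⁻¹ ≠ 1 := fun h => he1 (by simpa using h)
    have hsub : ({1, e, s * e * s⁻¹} : Set GG) ⊆ (V : Set GG) := by
      simp only [Set.insert_subset_iff, Set.singleton_subset_iff, SetLike.mem_coe]
      exact ⟨one_mem _, he, hSV s hs e he⟩
    have h := Set.ncard_le_ncard hsub
    rw [Set.ncard_eq_three.2 ⟨1, e, s * e * s⁻¹, Ne.symm he1, Ne.symm h1, Ne.symm hne', rfl⟩,
      ← Nat.card_coe_set_eq] at h
    change 3 ≤ Nat.card V at h
    omega
  obtain ⟨k, rfl⟩ := involution_conj X hΦ hm he1 (by rw [← sq]; exact hpow _ he)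
  have hj : ∀ s ∈ S, Commute (torusHom X (-1)) (k⁻¹ * s * k) := fun s hs => by
    have h := heS s hs
    rw [mul_inv_eq_iff_eq_mul] at h
    show torusHom X (-1) * (k⁻¹ * s * k) = k⁻¹ * s * k * torusHom X (-1)
    calc torusHom X (-1) * (k⁻¹ * s * k) = k⁻¹ * (k * torusHom X (-1) * k⁻¹ * s) * k := by group
      _ = k⁻¹ * s * k * torusHom X (-1) := by rw [← h]; group
  obtain ⟨R, hR⟩ : ∃ R : Subgroup GG, R = Φ.range := ⟨_, rfl⟩
  have hjR : torusHom X (-1) ∉ R := by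
    rw [hR]
    rintro ⟨A, hA⟩
    exact phi_ne_j X hΦ A hA
  let π : GG → GG := fun g => if g ∈ R then g else torusHom X (-1) * g
  have hπ1 : ∀ g, Commute (torusHom X (-1)) g → π g ∈ R ∧ (π g = g ∨ π g = torusHom X (-1) * g) := by
    intro g hg
    by_cases h : g ∈ R
    · exact ⟨by simp [π, h], Or.inl (by simp [π, h])⟩
    · refine ⟨?_, Or.inr (by simp [π, h])⟩
      obtain ⟨A, hA | hA⟩ := cent_decomp X hΦ hg
      · exact absurd (show g ∈ R by rw [hR, hA]; exact ⟨A, rfl⟩) h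
      · simp only [π, h, ↓reduceIte]
        rw [hA, ← mul_assoc, j_sq X hΦ, one_mul, hR]
        exact ⟨A, rfl⟩
  have hπu : ∀ g z, z ∈ R → (z = g ∨ z = torusHom X (-1) * g) → π g = z := by
    intro g z hz hzg
    rcases hzg with rfl | rfl
    · simp [π, hz]
    · have hg : g ∉ R := fun h => hjR ((mul_mem_cancel_right h).1 hz)
      simp [π, hg]
  let f : S →* GG := MonoidHom.mk' (fun s => π (k⁻¹ * (s : GG) * k)) fun a b => by
    obtain ⟨ha, ha'⟩ := hπ1 _ (hj a a.2)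
    obtain ⟨hb, hb'⟩ := hπ1 _ (hj b b.2)
    refine hπu _ _ (mul_mem ha hb) ?_
    have e : k⁻¹ * ((a * b : S) : GG) * k = k⁻¹ * (a : GG) * k * (k⁻¹ * (b : GG) * k) := by
      simp [mul_assoc]
    have hcm := (hj a a.2).symm
    rw [e]
    rcases ha' with h | h <;> rcases hb' with h' | h' <;> rw [h, h']
    · exact Or.inl rfl
    · exact Or.inr (by rw [← mul_assoc, hcm.eq, mul_assoc])
    · exact Or.inr (mul_assoc _ _ _)
    · exact Or.inl (by rw [hcm.mul_mul_mul_comm, j_sq X hΦ, one_mul])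
  by_cases hfb : f.range = ⊥
  · have hall : ∀ s ∈ S, s ∈ Subgroup.zpowers (k * torusHom X (-1) * k⁻¹) := fun s hs => by
      have h : f ⟨s, hs⟩ ∈ f.range := ⟨_, rfl⟩
      rw [hfb, Subgroup.mem_bot] at h
      obtain ⟨-, h'⟩ := hπ1 _ (hj s hs)
      have hse : s = k * (k⁻¹ * s * k) * k⁻¹ := by group
      rcases h' with h' | h'
      · rw [hse, ← h', show π (k⁻¹ * s * k) = 1 from h]
        simp
      · rw [show π (k⁻¹ * s * k) = 1 from h] at h'
        have e : k⁻¹ * s * k = torusHom X (-1) := by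
          rw [← inv_eq_of_mul_eq_one_right h'.symm]
          exact inv_eq_of_mul_eq_one_right (j_sq X hΦ)
        rw [hse, e]
        exact Subgroup.mem_zpowers _
    have hpg : IsPGroup 2 (Subgroup.zpowers (k * torusHom X (-1) * k⁻¹)) := IsPGroup.of_card (n := 1) (by
      rw [Nat.card_zpowers, pow_one]; exact orderOf_eq_prime (hpow _ he) he1)
    obtain ⟨Q, hQ⟩ := hpg.exists_le_sylow
    exact local_two_sylow X hΦ Q fun s hs x hx =>
      mul_mem (mul_mem (hQ (hall s hs)) hx) (inv_mem (hQ (hall s hs)))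
  haveI := hS
  obtain ⟨r, W, hr, hWf, hW, hWcomm, hWpow, hfW⟩ :=
    exists_elab f.range (Group.isSolvable_of_surjective f.rangeRestrict_surjective) hfb
  have hWR : W ≤ R := fun z hz => by
    obtain ⟨s, rfl⟩ := hWf hz
    exact (hπ1 _ (hj s s.2)).1
  have hWj : ∀ z ∈ W, Commute (torusHom X (-1)) z := fun z hz => by
    obtain ⟨A, rfl⟩ := hR ▸ hWR hz
    exact hΦ.comm A
  have hSW : ∀ s ∈ S, ∀ z ∈ W, k⁻¹ * s * k * z * (k⁻¹ * s * k)⁻¹ ∈ W := fun s hs z hz => by
    have h := hfW _ ⟨⟨s, hs⟩, rfl⟩ z hz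
    obtain ⟨-, h'⟩ := hπ1 _ (hj s hs)
    change π (k⁻¹ * s * k) * z * (π (k⁻¹ * s * k))⁻¹ ∈ W at h
    rcases h' with h' | h' <;> rw [h'] at h
    · exact h
    · have hcz : Commute (torusHom X (-1)) (k⁻¹ * s * k * z * (k⁻¹ * s * k)⁻¹) :=
        ((hj s hs).mul_right (hWj z hz)).mul_right (hj s hs).inv_right
      rwa [show torusHom X (-1) * (k⁻¹ * s * k) * z * (torusHom X (-1) * (k⁻¹ * s * k))⁻¹ =
        torusHom X (-1) * (k⁻¹ * s * k * z * (k⁻¹ * s * k)⁻¹) * (torusHom X (-1))⁻¹ by group,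
        hcz.eq, mul_inv_cancel_right] at h
  -- the normalised subgroup back in the group
  have conjV : ∀ (W' : Subgroup GG), (∀ s ∈ S, ∀ z ∈ W', k⁻¹ * s * k * z * (k⁻¹ * s * k)⁻¹ ∈ W') →
      ∀ s ∈ S, ∀ x ∈ W'.map (MulAut.conj k).toMonoidHom,
        s * x * s⁻¹ ∈ W'.map (MulAut.conj k).toMonoidHom := by
    rintro W' h s hs _ ⟨z, hz, rfl⟩
    exact ⟨_, h s hs z hz, by simp [mul_assoc]⟩
  have commV : ∀ (W' : Subgroup GG), (∀ x ∈ W', ∀ y ∈ W', Commute x y) →
      ∀ x ∈ W'.map (MulAut.conj k).toMonoidHom, ∀ y ∈ W'.map (MulAut.conj k).toMonoidHom,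
        Commute x y := by
    rintro W' h _ ⟨a, ha, rfl⟩ _ ⟨b, hb, rfl⟩
    exact (h a ha b hb).map _
  have powV : ∀ (W' : Subgroup GG), (∀ x ∈ W', x ^ r = 1) →
      ∀ x ∈ W'.map (MulAut.conj k).toMonoidHom, x ^ r = 1 := by
    rintro W' h _ ⟨a, ha, rfl⟩
    rw [← map_pow, h a ha, map_one]
  have botV : ∀ (W' : Subgroup GG), W' ≠ ⊥ → W'.map (MulAut.conj k).toMonoidHom ≠ ⊥ := fun W' h e =>
    h ((Subgroup.map_eq_bot_iff_of_injective W' (MulAut.conj k).injective).1 e)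
  by_cases hr2 : r = 2
  swap
  · exact local_elab X hΦ hm hr (botV W hW) (commV W hWcomm) (powV W hWpow)
      (fun e => absurd e hr2) (conjV W hSW)
  subst hr2
  have hpre : ∀ a, (a ∈ W ∨ torusHom X (-1) * a ∈ W) → Commute (torusHom X (-1)) a ∧ a * a = 1 := by
    intro a ha
    rcases ha with ha | ha
    · exact ⟨hWj a ha, by rw [← sq]; exact hWpow a ha⟩
    · have h1 := hWj _ ha
      have hca : Commute (torusHom X (-1)) a := by
        have h2 := (Commute.refl (torusHom X (-1))).mul_right h1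
        rwa [← mul_assoc, j_sq X hΦ, one_mul] at h2
      refine ⟨hca, ?_⟩
      have h3 := hWpow _ ha
      rwa [hca.mul_pow, sq (torusHom X (-1)), j_sq X hΦ, one_mul, sq] at h3
  let W2 : Subgroup GG :=
    { carrier := {x | x ∈ W ∨ torusHom X (-1) * x ∈ W}
      one_mem' := Or.inl (one_mem W)
      mul_mem' := by
        intro a b ha hb
        have hca := (hpre a ha).1
        rcases ha with ha | ha <;> rcases hb with hb | hb
        · exact Or.inl (mul_mem ha hb)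
        · exact Or.inr (by rw [← mul_assoc, hca.eq, mul_assoc]; exact mul_mem ha hb)
        · exact Or.inr (by rw [← mul_assoc]; exact mul_mem ha hb)
        · refine Or.inl ?_
          have h := mul_mem ha hb
          rwa [hca.symm.mul_mul_mul_comm, j_sq X hΦ, one_mul] at h
      inv_mem' := by
        intro a ha
        rw [Set.mem_setOf_eq] at ha ⊢
        rwa [inv_eq_of_mul_eq_one_right (hpre a ha).2] }
  obtain ⟨w, hw, hw1⟩ := (Subgroup.bot_or_exists_ne_one W).resolve_left hW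
  have hjne : torusHom X (-1) ≠ 1 := fun h => hjR (by rw [h]; exact one_mem R)
  have hwj : w ≠ torusHom X (-1) := fun h => hjR (h ▸ hWR hw)
  refine local_elab X hΦ hm Nat.prime_two (V := W2.map (MulAut.conj k).toMonoidHom)
    (botV W2 fun h => ?_) (commV W2 fun x hx y hy => ?_) (powV W2 fun x hx => ?_) (fun _ h => ?_)
    (conjV W2 fun s hs z hz => ?_)
  · have hm' : w ∈ W2 := Or.inl hw
    rw [h, Subgroup.mem_bot] at hm'
    exact hw1 hm'
  · obtain ⟨hcx, hx2⟩ := hpre x hx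
    obtain ⟨hcy, hy2⟩ := hpre y hy
    obtain ⟨-, hxy⟩ := hpre (x * y) (mul_mem hx hy : x * y ∈ W2)
    show x * y = y * x
    calc x * y = (x * y)⁻¹ := (inv_eq_of_mul_eq_one_right hxy).symm
      _ = y * x := by rw [mul_inv_rev, inv_eq_of_mul_eq_one_right hx2, inv_eq_of_mul_eq_one_right hy2]
  · rw [sq]; exact (hpre x hx).2
  · rw [Subgroup.card_map_of_injective (MulAut.conj k).injective] at h
    have hsub : ({1, w, torusHom X (-1)} : Set GG) ⊆ (W2 : Set GG) := by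
      simp only [Set.insert_subset_iff, Set.singleton_subset_iff, SetLike.mem_coe]
      exact ⟨one_mem _, Or.inl hw, Or.inr (by rw [j_sq X hΦ]; exact one_mem W)⟩
    have h3 := Set.ncard_le_ncard hsub
    rw [Set.ncard_eq_three.2 ⟨1, w, torusHom X (-1), Ne.symm hw1, Ne.symm hjne, hwj, rfl⟩,
      ← Nat.card_coe_set_eq] at h3
    change 3 ≤ Nat.card W2 at h3
    omega
  · rcases hz with hz | hz
    · exact Or.inl (hSW s hs z hz)
    · refine Or.inr ?_
      have h := hSW s hs _ hz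
      rwa [show k⁻¹ * s * k * (torusHom X (-1) * z) * (k⁻¹ * s * k)⁻¹ =
        (k⁻¹ * s * k * torusHom X (-1)) * z * (k⁻¹ * s * k)⁻¹ by group, ← (hj s hs).eq,
        show torusHom X (-1) * (k⁻¹ * s * k) * z * (k⁻¹ * s * k)⁻¹ =
        torusHom X (-1) * (k⁻¹ * s * k * z * (k⁻¹ * s * k)⁻¹) by group] at h

end Cfsg.Agent.Ree
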