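import Cfsg.Agent.Lib.Ree.Six
import Mathlib.Data.Set.Card

/-!
The elements of the Borel subgroup of the small Ree groups, and the numbers of elements in each
part of the sorting of the group.
-/

set_option autoImplicit false
set_option linter.unusedSectionVars false
set_option linter.style.haveILetI false

open scoped Matrix Pointwise MatrixGroups

namespace Cfsg.Agent.Ree

open Cfsg.Lie Cfsg.Agent.Chevalley Cfsg.Agent.Chevalley.Cert Cfsg.Agent.Chevalley.Group
  Cfsg.Agent.Chevalley.Twist Cfsg.Agent.Chevalley.Twist.G2 Cfsg.Agent.Chevalley.SL2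

variable {K : Type*} [Field K] [Fintype K] [CharP K 3] {m : ℕ}

local notation "GG" => twistedG2 K (3 ^ m)
local notation "qq" => Fintype.card K

/-- The conjugates of the members of a set. -/
def cset {G : Type*} [Group G] (P : Set G) : Set G := {y | ∃ g, g⁻¹ * y * g ∈ P}

theorem ncard_cset {G : Type*} [Group G] [Finite G] (N : Subgroup G) (P : Set G)
    (hinv : ∀ n ∈ N, ∀ x ∈ P, n * x * n⁻¹ ∈ P)
    (hTI : ∀ g : G, ∀ x ∈ P, g * x * g⁻¹ ∈ P → g ∈ N) :
    (cset P).ncard * Nat.card N = Nat.card G * P.ncard := by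
  have := Tools.card_conj_set N P hinv hTI
  rw [Nat.card_coe_set_eq] at this
  exact this

variable {hK : Fintype.card K = 3 ^ (2 * m + 1)} (X : Setup (K := K) hK)
include X

theorem tor_neg_uu (t u v : K) : torusHom X (-1) * uu X (t, u, v) * (torusHom X (-1))⁻¹ =
    uu X (-t, u, -v) := by
  rw [tor_uu, a6_neg_one, a10_neg_one, Units.val_neg, Units.val_one]
  simp

theorem tor_neg_comm (u : K) : Commute (torusHom X (-1)) (uu X (0, u, 0)) := by
  have := tor_neg_uu X 0 u 0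
  rw [neg_zero] at this
  exact mul_inv_eq_iff_eq_mul.1 this

theorem tor_neg_sq : torusHom X (-1) * torusHom X (-1) = 1 := by
  rw [← map_mul, neg_one_mul, neg_neg, map_one]

theorem uu_cube_one (u v : K) : uu X (0, u, v) ^ 3 = 1 := by
  rw [uu_cube, show -(TT m (0 : K) * 0 ^ 2) = 0 by simp, uu_zero]

theorem uu_ne_one {p : K × K × K} (hp : p ≠ 0) : uu X p ≠ 1 := fun e => by
  obtain ⟨t, u, v⟩ := p
  rw [← uu_zero X] at e
  obtain ⟨rfl, rfl, rfl⟩ := uu_inj X e
  exact hp rfl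

theorem orderOf_uu {p : K × K × K} (hp : p ≠ 0) :
    (p.1 = 0 → orderOf (uu X p) = 3) ∧ (p.1 ≠ 0 → orderOf (uu X p) = 9) := by
  haveI : Fact (Nat.Prime 3) := ⟨Nat.prime_three⟩
  obtain ⟨t, u, v⟩ := p
  refine ⟨fun h => ?_, fun h => ?_⟩
  · obtain rfl : t = 0 := h
    exact orderOf_eq_prime (uu_cube_one X u v) (uu_ne_one X hp)
  · refine orderOf_eq_prime_pow (p := 3) (n := 1) ?_ ?_
    · rw [pow_one, uu_cube]
      refine uu_ne_one X fun e => ?_
      have hT : TT m t ≠ 0 := by rw [TT]; exact pow_ne_zero _ (pow_ne_zero _ h)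
      exact (mul_ne_zero hT (pow_ne_zero 2 h)) (neg_eq_zero.1 (Prod.ext_iff.1 (Prod.ext_iff.1 e).2).2)
    · rw [pow_succ, pow_one, pow_mul, uu_cube, uu_cube_one]

theorem neg_pair_cube (u : K) :
    (uu X (0, u, 0) * torusHom X (-1)) ^ 3 = torusHom X (-1) := by
  rw [((tor_neg_comm X u).symm).mul_pow, uu_cube_one, one_mul, pow_succ, sq, tor_neg_sq, one_mul]

theorem orderOf_neg {u : K} :
    (u = 0 → orderOf (uu X (0, u, 0) * torusHom X (-1)) = 2) ∧
      (u ≠ 0 → orderOf (uu X (0, u, 0) * torusHom X (-1)) = 6) := by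
  haveI : Fact (Nat.Prime 3) := ⟨Nat.prime_three⟩
  haveI : Fact (Nat.Prime 2) := ⟨Nat.prime_two⟩
  have h2 : orderOf (torusHom X (-1)) = 2 := orderOf_eq_prime (by rw [sq, tor_neg_sq]) fun e =>
    neg_one_ne_one (K := K) (congrArg Units.val (torusHom_injective X (e.trans (map_one _).symm)))
  refine ⟨fun h => ?_, fun h => ?_⟩
  · subst h
    rw [uu_zero, one_mul, h2]
  · have h3 : orderOf (uu X (0, u, 0)) = 3 := (orderOf_uu X (by simpa using h)).1 rfl
    rw [(tor_neg_comm X u).symm.orderOf_mul_eq_mul_orderOf_of_coprime (by rw [h2, h3]; norm_num),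
      h2, h3]

/-- The map sorting the coset of the standard involution in the unipotent subgroup. -/
noncomputable def negMap (p : K × K × K) : GG :=
  uu X (p.1, 0, p.2.2) * (uu X (0, p.2.1, 0) * torusHom X (-1)) * (uu X (p.1, 0, p.2.2))⁻¹

theorem negMap_injective : Function.Injective (negMap X) := by
  rintro ⟨t, u, v⟩ ⟨t', u', v'⟩ h
  simp only [negMap] at h
  have h3 := congrArg (fun z : GG => z ^ 3) h
  simp only [conj_pow, neg_pair_cube] at h3
  have hc : Commute (torusHom X (-1)) ((uu X (t, 0, v))⁻¹ * uu X (t', 0, v')) := by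
    show torusHom X (-1) * _ = _ * torusHom X (-1)
    calc torusHom X (-1) * ((uu X (t, 0, v))⁻¹ * uu X (t', 0, v'))
        = (uu X (t, 0, v))⁻¹ * (uu X (t, 0, v) * torusHom X (-1) * (uu X (t, 0, v))⁻¹) *
            uu X (t', 0, v') := by group
      _ = _ := by rw [h3]; group
  obtain ⟨a, b, c, e⟩ := mem_UB X (mul_mem (inv_mem (uu_mem X (t, 0, v))) (uu_mem X (t', 0, v')))
  rw [e] at hc
  have hc' := mul_inv_eq_iff_eq_mul.2 hc.eq
  rw [tor_neg_uu] at hc'
  obtain ⟨ha, -, hc''⟩ := uu_inj X hc'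
  have h2 : (2 : K) ≠ 0 := fun e => neg_one_ne_one (K := K) (by linear_combination -e)
  obtain rfl : a = 0 := (mul_eq_zero.1 (show (2 : K) * a = 0 by linear_combination -ha)).resolve_left h2
  obtain rfl : c = 0 := (mul_eq_zero.1 (show (2 : K) * c = 0 by linear_combination -hc'')).resolve_left h2
  rw [inv_mul_eq_iff_eq_mul, uu_mul, TT_zero] at e
  obtain ⟨h1, h2', h3'⟩ := uu_inj X e
  simp at h1 h2' h3'
  subst h1 h3'
  have h4 := mul_left_cancel (mul_right_cancel h)
  obtain ⟨-, rfl, -⟩ := uu_inj X (mul_right_cancel h4)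
  rfl

theorem neg_coset (p : K × K × K) : ∃ q, uu X p * torusHom X (-1) = negMap X q := by
  classical
  have hmem : ∀ q, ∃ r, negMap X q = uu X r * torusHom X (-1) := by
    rintro ⟨t, u, v⟩
    obtain ⟨a, b, c, e⟩ := mem_UB X (mul_mem (mul_mem (uu_mem X (t, 0, v)) (uu_mem X (0, u, 0)))
      (tor_conj_mem X (-1) (inv_mem (uu_mem X (t, 0, v)))))
    refine ⟨(a, b, c), ?_⟩
    rw [← e, negMap]
    group
  choose F hF using hmem
  have hinj : Function.Injective F := fun a b e => negMap_injective X (by rw [hF, hF, e])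
  obtain ⟨q, rfl⟩ := Finite.surjective_of_injective hinj p
  exact ⟨q, (hF q).symm⟩

theorem reg_coset {x : Kˣ} (hx : x ^ 2 ≠ 1) (p : K × K × K) :
    ∃ q, uu X p * torusHom X x = uu X q * torusHom X x * (uu X q)⁻¹ := by
  classical
  have hmem : ∀ q, ∃ r, uu X q * torusHom X x * (uu X q)⁻¹ = uu X r * torusHom X x := by
    intro q
    obtain ⟨a, b, c, e⟩ := mem_UB X (mul_mem (uu_mem X q) (tor_conj_mem X x (inv_mem (uu_mem X q))))
    refine ⟨(a, b, c), ?_⟩
    rw [← e]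
    group
  choose F hF using hmem
  have hinj : Function.Injective F := fun a b e => by
    have h1 : uu X a * torusHom X x * (uu X a)⁻¹ = uu X b * torusHom X x * (uu X b)⁻¹ := by
      rw [hF, hF, e]
    obtain ⟨c1, c2, c3, ec⟩ := mem_UB X (mul_mem (inv_mem (uu_mem X b)) (uu_mem X a))
    have hfix : torusHom X x * uu X (c1, c2, c3) * (torusHom X x)⁻¹ = uu X (c1, c2, c3) := by
      rw [mul_inv_eq_iff_eq_mul, ← ec]
      calc torusHom X x * ((uu X b)⁻¹ * uu X a)
          = (uu X b)⁻¹ * (uu X b * torusHom X x * (uu X b)⁻¹) * uu X a := by group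
        _ = _ := by rw [← h1]; group
    obtain ⟨rfl, rfl, rfl⟩ := tor_uu_fixed X hx hfix
    rw [uu_zero, inv_mul_eq_one] at ec
    obtain ⟨t, u, v⟩ := a
    obtain ⟨t', u', v'⟩ := b
    obtain ⟨rfl, rfl, rfl⟩ := uu_inj X ec
    rfl
  obtain ⟨q, rfl⟩ := Finite.surjective_of_injective hinj p
  exact ⟨q, (hF q).symm⟩

theorem bor_sort {g : GG} (hg : g ∈ bor X) :
    (∃ q x, x ^ 2 ≠ 1 ∧ g = uu X q * torusHom X x * (uu X q)⁻¹) ∨ (∃ p, g = uu X p) ∨
      ∃ q, g = negMap X q := by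
  obtain ⟨p, x, rfl⟩ := bor_decomp X hg
  by_cases hx : x ^ 2 = 1
  · have hx' : (x : K) ^ 2 = 1 := by rw [← Units.val_pow_eq_pow_val, hx, Units.val_one]
    rcases sq_eq_one_iff.1 hx' with e | e
    · obtain rfl : x = 1 := Units.ext e
      exact Or.inr (Or.inl ⟨p, by rw [map_one, mul_one]⟩)
    · obtain rfl : x = -1 := Units.ext (by rw [e]; simp)
      exact Or.inr (Or.inr (neg_coset X p))
  · obtain ⟨q, e⟩ := reg_coset X hx p
    exact Or.inl ⟨q, x, hx, e⟩

theorem orderOf_negMap (q : K × K × K) :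
    (q.2.1 = 0 → orderOf (negMap X q) = 2) ∧ (q.2.1 ≠ 0 → orderOf (negMap X q) = 6) := by
  have e : orderOf (negMap X q) = orderOf (uu X (0, q.2.1, 0) * torusHom X (-1)) := by
    rw [negMap, ← orderOf_conj X (uu X (q.1, 0, q.2.2))]
    congr 1
    group
  rw [e]
  exact orderOf_neg X

theorem three_not_dvd_pred : ¬ 3 ∣ qq - 1 := by
  obtain ⟨c, hc⟩ := three_dvd_q X
  have := Fintype.one_lt_card (α := K)
  omega

theorem orderOf_reg {q : K × K × K} {x : Kˣ} :
    orderOf (uu X q * torusHom X x * (uu X q)⁻¹) ∣ qq - 1 := by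
  have h : uu X q * torusHom X x * (uu X q)⁻¹ = ((uu X q)⁻¹)⁻¹ * torusHom X x * (uu X q)⁻¹ := by
    rw [inv_inv]
  rw [h, orderOf_conj X, orderOf_injective _ (torusHom_injective X)]
  have := orderOf_dvd_natCard x
  rwa [Nat.card_units, Nat.card_eq_fintype_card] at this

/-- The elements of a given order in the Borel subgroup. -/
def borOrd (d : ℕ) : Set ↥(twistedG2 K (3 ^ m)) := {g | g ∈ bor X ∧ orderOf g = d}

theorem borOrd_three : borOrd X 3 = uu X '' {p | p.1 = 0 ∧ p ≠ 0} := by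
  ext g
  constructor
  · rintro ⟨hg, ho⟩
    rcases bor_sort X hg with ⟨q, x, -, rfl⟩ | ⟨p, rfl⟩ | ⟨q, rfl⟩
    · exact absurd (ho ▸ orderOf_reg X) (three_not_dvd_pred X)
    · have hp : p ≠ 0 := fun e => by
        subst e
        rw [show uu X (0 : K × K × K) = 1 from uu_zero X, orderOf_one] at ho
        norm_num at ho
      refine ⟨p, ⟨by_contra fun h => ?_, hp⟩, rfl⟩
      rw [(orderOf_uu X hp).2 h] at ho
      norm_num at ho
    · by_cases h : q.2.1 = 0
      · rw [(orderOf_negMap X q).1 h] at ho; norm_num at ho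
      · rw [(orderOf_negMap X q).2 h] at ho; norm_num at ho
  · rintro ⟨p, ⟨h, hp⟩, rfl⟩
    exact ⟨uu_mem_bor X p, (orderOf_uu X hp).1 h⟩

theorem borOrd_nine : borOrd X 9 = uu X '' {p | p.1 ≠ 0} := by
  ext g
  constructor
  · rintro ⟨hg, ho⟩
    rcases bor_sort X hg with ⟨q, x, -, rfl⟩ | ⟨p, rfl⟩ | ⟨q, rfl⟩
    · exact absurd ((show 3 ∣ 9 by norm_num).trans (ho ▸ orderOf_reg X)) (three_not_dvd_pred X)
    · have hp : p ≠ 0 := fun e => by
        subst e
        rw [show uu X (0 : K × K × K) = 1 from uu_zero X, orderOf_one] at ho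
        norm_num at ho
      refine ⟨p, fun h => ?_, rfl⟩
      rw [(orderOf_uu X hp).1 h] at ho
      norm_num at ho
    · by_cases h : q.2.1 = 0
      · rw [(orderOf_negMap X q).1 h] at ho; norm_num at ho
      · rw [(orderOf_negMap X q).2 h] at ho; norm_num at ho
  · rintro ⟨p, hp, rfl⟩
    exact ⟨uu_mem_bor X p, (orderOf_uu X fun e => hp (by rw [e]; rfl)).2 hp⟩

theorem negMap_mem_bor (q : K × K × K) : negMap X q ∈ bor X :=
  mul_mem (mul_mem (uu_mem_bor X _) (mul_mem (uu_mem_bor X _) (tor_mem_bor X _)))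
    (inv_mem (uu_mem_bor X _))

theorem borOrd_six : borOrd X 6 = negMap X '' {p | p.2.1 ≠ 0} := by
  ext g
  constructor
  · rintro ⟨hg, ho⟩
    rcases bor_sort X hg with ⟨q, x, -, rfl⟩ | ⟨p, rfl⟩ | ⟨q, rfl⟩
    · exact absurd ((show 3 ∣ 6 by norm_num).trans (ho ▸ orderOf_reg X)) (three_not_dvd_pred X)
    · exfalso
      by_cases hp : p = 0
      · subst hp
        rw [show uu X (0 : K × K × K) = 1 from uu_zero X, orderOf_one] at ho
        norm_num at ho
      by_cases h : p.1 = 0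
      · rw [(orderOf_uu X hp).1 h] at ho; norm_num at ho
      · rw [(orderOf_uu X hp).2 h] at ho; norm_num at ho
    · refine ⟨q, fun h => ?_, rfl⟩
      rw [(orderOf_negMap X q).1 h] at ho
      norm_num at ho
  · rintro ⟨q, hq, rfl⟩
    exact ⟨negMap_mem_bor X q, (orderOf_negMap X q).2 hq⟩

theorem uu_injective : Function.Injective (uu X) := by
  rintro ⟨t, u, v⟩ ⟨t', u', v'⟩ h
  obtain ⟨rfl, rfl, rfl⟩ := uu_inj X h
  rfl

theorem ncard_borOrd : (borOrd X 3).ncard = qq ^ 2 - 1 ∧ (borOrd X 9).ncard = (qq - 1) * qq ^ 2 ∧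
    (borOrd X 6).ncard = (qq - 1) * qq ^ 2 := by
  classical
  have hne : ({0}ᶜ : Set K).ncard = qq - 1 := by
    rw [Set.ncard_compl, Set.ncard_singleton, Nat.card_eq_fintype_card]
  refine ⟨?_, ?_, ?_⟩
  · rw [borOrd_three, Set.ncard_image_of_injective _ (uu_injective X),
      show {p : K × K × K | p.1 = 0 ∧ p ≠ 0} = ({0} : Set K) ×ˢ ({0}ᶜ : Set (K × K)) by
        ext ⟨t, p⟩; simp [Prod.ext_iff]; tauto,
      Set.ncard_prod, Set.ncard_singleton, one_mul, Set.ncard_compl, Set.ncard_singleton,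
      Nat.card_prod, Nat.card_eq_fintype_card, sq]
  · rw [borOrd_nine, Set.ncard_image_of_injective _ (uu_injective X),
      show {p : K × K × K | p.1 ≠ 0} = ({0}ᶜ : Set K) ×ˢ (Set.univ : Set (K × K)) by
        ext ⟨t, p⟩; simp,
      Set.ncard_prod, hne, Set.ncard_univ, Nat.card_prod, Nat.card_eq_fintype_card, sq]
  · rw [borOrd_six, Set.ncard_image_of_injective _ (negMap_injective X),
      show {p : K × K × K | p.2.1 ≠ 0} =
        (Set.univ : Set K) ×ˢ (({0}ᶜ : Set K) ×ˢ (Set.univ : Set K)) by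
        ext ⟨t, u, v⟩; simp,
      Set.ncard_prod, Set.ncard_prod, hne, Set.ncard_univ, Nat.card_eq_fintype_card, sq]
    ring

/-- An element of order three of the Borel subgroup is unipotent. -/
theorem borOrd_TI {d : ℕ} (hd : 3 ∣ d) {g x : GG} (hx : x ∈ borOrd X d)
    (hgx : g * x * g⁻¹ ∈ borOrd X d) : g ∈ bor X := by
  obtain ⟨hxb, hxo⟩ := hx
  obtain ⟨hgb, -⟩ := hgx
  have ho := orderOf_pow_orderOf_div (orderOf_pos x).ne' (hxo ▸ hd)
  have hpow : ∀ {z : GG}, z ∈ bor X → orderOf z = 3 → ∃ p, p ≠ 0 ∧ z = uu X p := fun {z} hz hzo => by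
    obtain ⟨p, ⟨-, hp⟩, rfl⟩ := (borOrd_three X).le ⟨hz, hzo⟩
    exact ⟨p, hp, rfl⟩
  obtain ⟨n, hn⟩ : ∃ n, n = orderOf x / 3 := ⟨_, rfl⟩
  rw [← hn] at ho
  have e : (g * x * g⁻¹) ^ n = g * x ^ n * g⁻¹ := conj_pow
  obtain ⟨p, hp, hpe⟩ := hpow (pow_mem hgb n) (by
    rw [e]
    simpa using (orderOf_conj X g⁻¹ (x ^ n)).trans ho)
  have hfix : uu X p • (g • ((1 : GG) : GG ⧸ bor X)) = g • ((1 : GG) : GG ⧸ bor X) := by
    rw [← hpe, e, mul_smul, mul_smul, inv_smul_smul, (smul_base X).2 (pow_mem hxb n)]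
  exact (smul_base X).1 (uu_fix_only_base X hp hfix)

theorem ncard_cset_bor {d : ℕ} (hd : 3 ∣ d) :
    (cset (borOrd X d)).ncard * (qq ^ 3 * (qq - 1)) = Nat.card GG * (borOrd X d).ncard := by
  rw [← card_bor X]
  refine ncard_cset (bor X) _ (fun n hn x hx => ⟨mul_mem (mul_mem hn hx.1) (inv_mem hn), ?_⟩)
    (fun g x hx hgx => borOrd_TI X hd hx hgx)
  rw [← hx.2]
  simpa using orderOf_conj X n⁻¹ x

/-- The elements of order divisible by three. -/
theorem three_sing {g : GG} (h3 : 3 ∣ orderOf g) :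
    ∃ k : GG, k⁻¹ * g * k ∈ bor X ∧ (orderOf g = 3 ∨ orderOf g = 6 ∨ orderOf g = 9) := by
  obtain ⟨h, ho, hc⟩ : ∃ h : GG, orderOf h = 3 ∧ Commute g h :=
    ⟨g ^ (orderOf g / 3), orderOf_pow_orderOf_div (orderOf_pos g).ne' h3, Commute.self_pow _ _⟩
  obtain ⟨k, hk⟩ := three_conj X (h := h) (by have := pow_orderOf_eq_one h; rwa [ho] at this)
  obtain ⟨t, u, v, e⟩ := mem_UB X hk
  have hp : (t, u, v) ≠ (0 : K × K × K) := fun e' => by
    have h1 : orderOf (k⁻¹ * h * k) = 3 := (orderOf_conj X k h).trans ho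
    rw [e, e', show uu X (0 : K × K × K) = 1 from uu_zero X, orderOf_one] at h1
    norm_num at h1
  have hc' : Commute (k⁻¹ * h * k) (k⁻¹ * g * k) := by
    simpa using hc.symm.map (MulAut.conj k⁻¹).toMonoidHom
  have hb : k⁻¹ * g * k ∈ bor X := by
    refine (smul_base X).1 (uu_fix_only_base X hp ?_)
    rw [← e, ← mul_smul, hc'.eq, mul_smul, (smul_base X).2 (UB_le_bor X hk)]
  refine ⟨k, hb, ?_⟩
  rw [← orderOf_conj X k g] at h3 ⊢
  rcases bor_sort X hb with ⟨q, x, -, e1⟩ | ⟨p, e1⟩ | ⟨q, e1⟩ <;> rw [e1] at h3 ⊢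
  · exact absurd (h3.trans (orderOf_reg X)) (three_not_dvd_pred X)
  · by_cases hp : p = 0
    · subst hp
      rw [show uu X (0 : K × K × K) = 1 from uu_zero X, orderOf_one] at h3
      norm_num at h3
    by_cases h : p.1 = 0
    · exact Or.inl ((orderOf_uu X hp).1 h)
    · exact Or.inr (Or.inr ((orderOf_uu X hp).2 h))
  · by_cases h : q.2.1 = 0
    · rw [(orderOf_negMap X q).1 h] at h3; norm_num at h3
    · exact Or.inr (Or.inl ((orderOf_negMap X q).2 h))

theorem cset_bor_eq {d : ℕ} (hd : 3 ∣ d) :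
    cset (borOrd X d) = {g | orderOf g = d} := by
  ext g
  constructor
  · rintro ⟨k, -, hk⟩
    exact (orderOf_conj X k g).symm.trans hk
  · intro hg
    obtain ⟨k, hk, -⟩ := three_sing X (g := g) ((show orderOf g = d from hg) ▸ hd)
    exact ⟨k, hk, (orderOf_conj X k g).trans hg⟩

end Cfsg.Agent.Ree
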