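import Mathlib.GroupTheory.GroupAction.Quotient
import Mathlib.GroupTheory.OrderOfElement
import Mathlib.GroupTheory.Index
import Mathlib.GroupTheory.Transfer
import Mathlib.Algebra.Group.Subgroup.Pointwise
import Mathlib.Tactic.Ring
import Mathlib.GroupTheory.SpecificGroups.Cyclic
import Mathlib.GroupTheory.SpecificGroups.KleinFour
import Mathlib.GroupTheory.Perm.Basic
import Mathlib.Data.Finite.Perm

/-!
Elementary facts used for the tori of the small Ree groups: a four group acting on a group of odd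
order, and the number of elements conjugate into a subset met in a trivial intersection fashion.
-/

set_option autoImplicit false
set_option linter.unusedSectionVars false

namespace Cfsg.Agent.Ree.Tools

variable {W : Type*} [Group W] [Finite W]

theorem exists_sqrt (hW : Odd (Nat.card W)) (y : W) : ∃ i : W, i * i = y ∧ ∀ z, Commute z y → Commute z i := by
  obtain ⟨k, hk⟩ := hW
  refine ⟨y ^ (k + 1), ?_, fun z hz => hz.pow_right _⟩
  rw [← pow_add, show k + 1 + (k + 1) = Nat.card W + 1 by omega, pow_succ, pow_card_eq_one', one_mul]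

theorem eq_one_of_sq (hW : Odd (Nat.card W)) {d : W} (h : d * d = 1) : d = 1 := by
  obtain ⟨k, hk⟩ := hW
  have h1 : d ^ Nat.card W = 1 := pow_card_eq_one'
  rw [hk, pow_succ, pow_mul, sq, h, one_pow, one_mul] at h1
  exact h1

theorem decomp (hW : Odd (Nat.card W)) (b : MulAut W) (hb : ∀ x, b (b x) = x) (x : W) :
    ∃ c i, x = c * i ∧ b c = c ∧ b i = i⁻¹ := by
  obtain ⟨i, hi, hc⟩ := exists_sqrt hW ((b x)⁻¹ * x)
  have hbi : b i = i⁻¹ := by
    have h1 : b i * b i = ((b x)⁻¹ * x)⁻¹ := by rw [← map_mul, hi, map_mul, map_inv, hb]; group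
    have hcomm : Commute (b i) i := hc _ (by
      have : Commute (b i) (b i * b i) := (Commute.refl _).mul_right (Commute.refl _)
      rw [h1] at this
      simpa using this.inv_right)
    have h2 : (b i * i) * (b i * i) = 1 := by
      rw [hcomm.symm.mul_mul_mul_comm, h1, hi, inv_mul_cancel]
    exact eq_inv_of_mul_eq_one_left (eq_one_of_sq hW h2)
  refine ⟨x * i⁻¹, i, by group, ?_, hbi⟩
  rw [map_mul, map_inv, hbi, inv_inv, eq_mul_inv_iff_mul_eq, mul_assoc, hi]
  group

theorem decomp_unique (hW : Odd (Nat.card W)) (b : MulAut W) {c c' i i' : W}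
    (hc : b c = c) (hc' : b c' = c') (hi : b i = i⁻¹) (hi' : b i' = i'⁻¹) (h : c * i = c' * i') :
    c = c' := by
  obtain ⟨d, hd⟩ : ∃ d, d = c'⁻¹ * c := ⟨_, rfl⟩
  have hbd : b d = d := by rw [hd, map_mul, map_inv, hc, hc']
  have hi'd : i' = d * i := by rw [hd, mul_assoc, h, inv_mul_cancel_left]
  have h1 : i⁻¹ * d⁻¹ = d * i⁻¹ := by
    rw [← mul_inv_rev, ← hi'd, ← hi', hi'd, map_mul, hbd, hi]
  have h2 : Commute (i * i) d := by
    have e1 : i * d * i⁻¹ = d⁻¹ := by rw [mul_assoc, ← h1, mul_inv_cancel_left]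
    have e2 : i * d⁻¹ * i⁻¹ = d := by
      have := congrArg (·⁻¹) e1
      simpa [mul_assoc] using this
    show i * i * d = d * (i * i)
    calc i * i * d = i * (i * d * i⁻¹) * i⁻¹ * (i * i) := by group
      _ = d * (i * i) := by rw [e1, e2]
  have h3 : Commute i d := by
    obtain ⟨j, hj, hjc⟩ := exists_sqrt hW (i * i)
    have : j = i := by
      have hji : Commute i j := hjc i ((Commute.refl i).mul_right (Commute.refl i))
      exact mul_inv_eq_one.1 (eq_one_of_sq hW (by
        rw [(hji.inv_left).mul_mul_mul_comm, hj, ← mul_inv_rev, mul_inv_cancel]))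
    exact this ▸ (hjc d h2.symm).symm
  have h4 : d * d = 1 := by
    have e := h1
    rw [(h3.inv_left.symm).eq] at e
    have e' : d⁻¹ = d := mul_left_cancel e
    nth_rewrite 1 [← e']
    exact inv_mul_cancel d
  have h5 := eq_one_of_sq hW h4
  rw [hd, inv_mul_eq_one] at h5
  exact h5.symm

/-- A four group whose three involutions have the same fixed points acts trivially on a group of
odd order. -/
theorem four_group (hW : Odd (Nat.card W)) (a b : MulAut W) (ha : ∀ x, a (a x) = x)
    (hb : ∀ x, b (b x) = x) (hab : ∀ x, a (b x) = b (a x))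
    (h1 : ∀ x, b x = x → a x = x) (h2 : ∀ x, a (b x) = x → a x = x) : ∀ x, a x = x := by
  have key : ∀ x, a x = x⁻¹ → x = 1 := by
    intro x hx
    obtain ⟨c, i, rfl, hc, hi⟩ := decomp hW b hb x
    have hai : b (a i) = (a i)⁻¹ := by rw [← hab, hi, map_inv]
    have hac : a c = c := h1 c hc
    have hconj : b (c * i⁻¹ * c⁻¹) = (c * i⁻¹ * c⁻¹)⁻¹ := by
      rw [map_mul, map_mul, map_inv, map_inv, hc, hi]; group
    have h3 : c = c⁻¹ := decomp_unique hW b hc (by rw [map_inv, hc]) hai hconj (by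
      calc c * a i = a (c * i) := by rw [map_mul, hac]
        _ = (c * i)⁻¹ := hx
        _ = _ := by group)
    have hc1 : c = 1 := eq_one_of_sq hW (by
      nth_rewrite 2 [h3]
      exact mul_inv_cancel c)
    subst hc1
    rw [one_mul] at hx ⊢
    have hfix : a (b i) = i := by rw [hi, map_inv, hx, inv_inv]
    have h4 := (h2 i hfix).symm.trans hx
    exact eq_one_of_sq hW (by nth_rewrite 1 [h4]; exact inv_mul_cancel i)
  intro x
  obtain ⟨c, i, rfl, hc, hi⟩ := decomp hW a ha x
  rw [map_mul, hc, key i hi, map_one]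

/-- The automorphism group of a Klein four group has order dividing `6`. -/
theorem klein_card_dvd_six {V : Type*} [Group V] [IsKleinFour V] (A : Subgroup (MulAut V)) :
    Nat.card A ∣ 6 := by
  classical
  haveI : Finite V := Nat.finite_of_card_ne_zero (by rw [IsKleinFour.card_four]; norm_num)
  haveI := Fintype.ofFinite V
  have hbij : ∀ (α : MulAut V) (x : V), α x ≠ 1 ↔ x ≠ 1 := fun α x => by simp
  let φ : MulAut V →* Equiv.Perm {x : V // x ≠ 1} :=
    { toFun := fun α => (α.toEquiv).subtypeEquiv fun x => (hbij α x).symm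
      map_one' := Equiv.ext fun x => rfl
      map_mul' := fun a b => Equiv.ext fun x => rfl }
  have hφ : Function.Injective φ := fun a b h => MulEquiv.ext fun x => by
    by_cases hx : x = 1
    · subst hx; simp
    · exact congrArg Subtype.val (Equiv.congr_fun h ⟨x, hx⟩)
  have h6 : Nat.card (Equiv.Perm {x : V // x ≠ 1}) = 6 := by
    rw [Nat.card_perm]
    have : Nat.card {x : V // x ≠ 1} = 3 := by
      rw [Nat.card_eq_fintype_card, Fintype.card_subtype_compl, Fintype.card_subtype_eq,
        ← Nat.card_eq_fintype_card, IsKleinFour.card_four]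
    rw [this]
    rfl
  rw [← h6, Nat.card_congr (A.equivMapOfInjective φ hφ).toEquiv]
  exact Subgroup.card_subgroup_dvd_card _

variable {G : Type*} [Group G] [Finite G]

/-- The elements conjugate into a normal subset of `N` whose conjugates by elements outside `N`
miss it. -/
theorem card_conj_set (N : Subgroup G) (P : Set G)
    (hinv : ∀ n ∈ N, ∀ x ∈ P, n * x * n⁻¹ ∈ P)
    (hTI : ∀ g : G, ∀ x ∈ P, g * x * g⁻¹ ∈ P → g ∈ N) :
    Nat.card {y : G // ∃ g, g⁻¹ * y * g ∈ P} * Nat.card N = Nat.card G * Nat.card P := by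
  classical
  let f : G × P → {y : G // ∃ g, g⁻¹ * y * g ∈ P} := fun gp =>
    ⟨gp.1 * gp.2 * gp.1⁻¹, gp.1, by simp [mul_assoc]⟩
  have hfib : ∀ y, Nat.card {gp : G × P // f gp = y} = Nat.card N := by
    rintro ⟨y, g0, hg0⟩
    let e : N → {gp : G × P // f gp = ⟨y, g0, hg0⟩} := fun n =>
      ⟨(g0 * n, ⟨(n : G)⁻¹ * (g0⁻¹ * y * g0) * n, by
        simpa using hinv _ (inv_mem n.2) _ hg0⟩), Subtype.ext (by simp [f, mul_assoc])⟩
    refine (Nat.card_eq_of_bijective e ⟨fun n n' h => ?_, ?_⟩).symm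
    · exact Subtype.ext (mul_left_cancel (congrArg (fun z => z.1.1) h :))
    · rintro ⟨⟨g, p, hp⟩, h⟩
      have h' : g * p * g⁻¹ = y := congrArg Subtype.val h
      have hn : g0⁻¹ * g ∈ N := hTI _ p hp (by
        have : g0⁻¹ * g * p * (g0⁻¹ * g)⁻¹ = g0⁻¹ * y * g0 := by rw [← h']; group
        rw [this]; exact hg0)
      refine ⟨⟨_, hn⟩, Subtype.ext (Prod.ext (by simp [e]) (Subtype.ext ?_))⟩
      show (g0⁻¹ * g)⁻¹ * (g0⁻¹ * y * g0) * (g0⁻¹ * g) = p
      rw [← h']; group
  have h1 : Nat.card (G × P) = Nat.card {y : G // ∃ g, g⁻¹ * y * g ∈ P} * Nat.card N := by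
    haveI := Fintype.ofFinite {y : G // ∃ g, g⁻¹ * y * g ∈ P}
    rw [← Nat.card_congr (Equiv.sigmaFiberEquiv f), Nat.card_sigma,
      Finset.sum_congr rfl (fun y _ => hfib y), Finset.sum_const, Finset.card_univ, smul_eq_mul,
      ← Nat.card_eq_fintype_card]
  rw [← h1, Nat.card_prod]

theorem mem_normalizer_of_maps {A : Subgroup G} {g : G} (h : ∀ x ∈ A, g * x * g⁻¹ ∈ A) :
    g ∈ Subgroup.normalizer (A : Set G) := by
  refine Subgroup.mem_normalizer_iff.2 fun x => ⟨h x, fun hx => ?_⟩
  let f : A → A := fun y => ⟨g * y * g⁻¹, h y y.2⟩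
  have hinj : Function.Injective f := fun y z e => by
    have e' := congrArg Subtype.val e
    exact Subtype.ext (mul_left_cancel (mul_right_cancel e'))
  obtain ⟨y, hy⟩ := Finite.surjective_of_injective hinj ⟨g * x * g⁻¹, hx⟩
  have e' : g * (y : G) * g⁻¹ = g * x * g⁻¹ := congrArg Subtype.val hy
  rw [← mul_left_cancel (mul_right_cancel e')]
  exact y.2

/-- In a cyclic subgroup the subgroups are cut out by the exponents. -/
theorem mem_of_pow_eq_one {C A : Subgroup G} [IsCyclic C] (hA : A ≤ C) {x : G} (hx : x ∈ C)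
    (h : x ^ Nat.card A = 1) : x ∈ A := by
  classical
  haveI := Fintype.ofFinite C
  let s : Finset C := Finset.univ.filter fun y => y ^ Nat.card A = 1
  let f : A → s := fun a => ⟨⟨a, hA a.2⟩, Finset.mem_filter.2 ⟨Finset.mem_univ _, Subtype.ext (by
    rw [Subgroup.coe_pow]
    exact congrArg Subtype.val (pow_card_eq_one' (x := a)))⟩⟩
  have hinj : Function.Injective f := fun a b e =>
    Subtype.ext (congrArg (fun z => ((z.1 : C) : G)) e :)
  have hle : Nat.card s ≤ Nat.card A := by
    rw [Nat.card_eq_finsetCard]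
    exact IsCyclic.card_pow_eq_one_le Nat.card_pos
  have hbij : Function.Bijective f :=
    (Nat.bijective_iff_injective_and_card f).2 ⟨hinj, le_antisymm (Nat.card_le_card_of_injective f hinj) hle⟩
  obtain ⟨a, ha⟩ := hbij.2 ⟨⟨x, hx⟩, Finset.mem_filter.2 ⟨Finset.mem_univ _, Subtype.ext (by simpa using h)⟩⟩
  have e : (a : G) = x := congrArg (fun z : s => ((z.1 : C) : G)) ha
  rw [← e]
  exact a.2

theorem eq_of_card_eq {C A B : Subgroup G} [IsCyclic C] (hA : A ≤ C) (hB : B ≤ C)
    (h : Nat.card A = Nat.card B) : A = B := by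
  refine Subgroup.eq_of_le_of_card_ge (fun x hx => mem_of_pow_eq_one hB (hA hx) ?_) h.ge
  rw [← h]
  exact congrArg Subtype.val (pow_card_eq_one' (x := (⟨x, hx⟩ : A)))

theorem mem_cent_conj {k x g : G} :
    g ∈ Subgroup.centralizer {k * x * k⁻¹} ↔ k⁻¹ * g * k ∈ Subgroup.centralizer {x} := by
  rw [Subgroup.mem_centralizer_singleton_iff, Subgroup.mem_centralizer_singleton_iff]
  constructor <;> intro h
  · calc k⁻¹ * g * k * x = k⁻¹ * (g * (k * x * k⁻¹)) * k := by group
      _ = x * (k⁻¹ * g * k) := by rw [h]; group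
  · calc g * (k * x * k⁻¹) = k * (k⁻¹ * g * k * x) * k⁻¹ := by group
      _ = k * x * k⁻¹ * g := by rw [h]; group

theorem mem_normalizer_conj {A : Subgroup G} {k g : G} :
    g ∈ Subgroup.normalizer ((A.map (MulAut.conj k).toMonoidHom : Subgroup G) : Set G) ↔
      k⁻¹ * g * k ∈ Subgroup.normalizer (A : Set G) := by
  have hmem : ∀ z : G, z ∈ A.map (MulAut.conj k).toMonoidHom ↔ k⁻¹ * z * k ∈ A := fun z => by
    constructor
    · rintro ⟨a, ha, rfl⟩
      simpa [mul_assoc] using ha
    · exact fun h => ⟨_, h, by simp [mul_assoc]⟩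
  constructor <;> intro h
  · refine mem_normalizer_of_maps fun x hx => ?_
    have h1 := (hmem _).1 ((Subgroup.mem_normalizer_iff.1 h (k * x * k⁻¹)).1
      ((hmem _).2 (by simpa [mul_assoc] using hx)))
    simpa [mul_assoc] using h1
  · refine mem_normalizer_of_maps fun z hz => (hmem _).2 ?_
    have h1 := (Subgroup.mem_normalizer_iff.1 h _).1 ((hmem z).1 hz)
    simpa [mul_assoc] using h1

end Cfsg.Agent.Ree.Tools
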