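import Cfsg.Agent.Lib.Ree.Involutions
import Cfsg.Agent.Lib.Ree.Tools
import Cfsg.Agent.Lib.Classical.GL2
import Mathlib.RingTheory.AdjoinRoot
import Mathlib.RingTheory.IntegralDomain

/-!
The tori of order `q - 1` and `q + 1` of the small Ree groups: centralisers and normalisers.
-/

set_option autoImplicit false
set_option linter.unusedSectionVars false
set_option linter.style.haveILetI false

open scoped Matrix Pointwise MatrixGroups

namespace Cfsg.Agent.Ree

open Cfsg.Lie Cfsg.Agent.Chevalley Cfsg.Agent.Chevalley.Cert Cfsg.Agent.Chevalley.Group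
  Cfsg.Agent.Chevalley.Twist Cfsg.Agent.Chevalley.Twist.G2 Cfsg.Agent.Chevalley.SL2

variable {K : Type*} [Field K] [Fintype K] [CharP K 3] {m : ℕ}

local notation "GG" => twistedG2 K (3 ^ m)

/-! ### The compact torus of `SL₂` -/

/-- The centraliser of the monomial element in `SL₂`. -/
abbrev T1 (K : Type*) [Field K] : Subgroup SL(2, K) := Subgroup.centralizer {sw}

theorem mem_T1 {B : SL(2, K)} : B ∈ T1 K ↔ el B 1 1 = el B 0 0 ∧ el B 1 0 = -el B 0 1 := by
  rw [Subgroup.mem_centralizer_singleton_iff]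
  constructor
  · intro h
    have e0 := congrArg (fun A : SL(2, K) => el A 0 0) h
    have e1 := congrArg (fun A : SL(2, K) => el A 0 1) h
    simp [el_mul] at e0 e1
    simp [el] at e0 e1 ⊢
    exact ⟨e1.symm, by linear_combination -e0⟩
  · rintro ⟨h1, h2⟩
    simp [el] at h1 h2
    ext i j
    fin_cases i <;> fin_cases j <;> simp [Matrix.mul_apply, Fin.sum_univ_two, h1, h2]

theorem circle {B : SL(2, K)} (hB : B ∈ T1 K) : el B 0 0 ^ 2 + el B 0 1 ^ 2 = 1 := by
  obtain ⟨h1, h2⟩ := mem_T1.1 hB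
  have := el_det B
  rw [h1, h2] at this
  linear_combination this

theorem T1_ext {A B : SL(2, K)} (hA : A ∈ T1 K) (hB : B ∈ T1 K) (h0 : el A 0 0 = el B 0 0)
    (h1 : el A 0 1 = el B 0 1) : A = B := by
  obtain ⟨a1, a2⟩ := mem_T1.1 hA
  obtain ⟨b1, b2⟩ := mem_T1.1 hB
  ext i j
  fin_cases i <;> fin_cases j
  · exact h0
  · exact h1
  · show el A 1 0 = el B 1 0; rw [a2, b2, h1]
  · show el A 1 1 = el B 1 1; rw [a1, b1, h0]

/-- Elements of the compact torus from coordinates. -/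
def circ (a b : K) (h : a ^ 2 + b ^ 2 = 1) : SL(2, K) :=
  ⟨!![a, b; -b, a], by rw [Matrix.det_fin_two_of]; linear_combination h⟩

theorem neg_one_nonsquare {hK : Fintype.card K = 3 ^ (2 * m + 1)} (x : K) : x ^ 2 + 1 ≠ 0 := by
  intro h
  have h4 : (3 : ℕ) ^ (2 * m + 1) % 4 = 3 := by
    rw [pow_succ, pow_mul, Nat.mul_mod, Nat.pow_mod]; norm_num
  have hsq : IsSquare (-1 : K) := ⟨x, by linear_combination -h⟩
  have := FiniteField.isSquare_neg_one_iff.1 hsq
  rw [hK, h4] at this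
  exact this rfl

variable {hK : Fintype.card K = 3 ^ (2 * m + 1)} (X : Setup (K := K) hK)
include X

theorem card_T1 : Nat.card (T1 K) = Fintype.card K + 1 := by
  classical
  let g : Option K → T1 K := fun o => o.elim
    ⟨circ (-1) 0 (by ring), mem_T1.2 ⟨rfl, by simp [circ, el]⟩⟩
    fun t => ⟨circ ((1 - t ^ 2) / (t ^ 2 + 1)) (2 * t / (t ^ 2 + 1)) (by
      have := neg_one_nonsquare (hK := hK) t
      field_simp; ring), mem_T1.2 ⟨rfl, rfl⟩⟩
  have h2 : (2 : K) ≠ 0 := fun e => neg_one_ne_one (K := K) (by linear_combination -e)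
  have hg : Function.Bijective g := by
    constructor
    · have e0 : ∀ o, el (g o : SL(2, K)) 0 0 = o.elim (-1) fun t => (1 - t ^ 2) / (t ^ 2 + 1) := by
        rintro (_ | t) <;> rfl
      have e1 : ∀ o, el (g o : SL(2, K)) 0 1 = o.elim 0 fun t => 2 * t / (t ^ 2 + 1) := by
        rintro (_ | t) <;> rfl
      have hne : ∀ t : K, (1 - t ^ 2) / (t ^ 2 + 1) ≠ -1 := fun t e => by
        rw [div_eq_iff (neg_one_nonsquare (hK := hK) t)] at e
        exact h2 (by linear_combination e)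
      rintro o o' h
      have f0 := (e0 o).symm.trans ((congrArg (fun B : T1 K => el (B : SL(2, K)) 0 0) h).trans (e0 o'))
      have f1 := (e1 o).symm.trans ((congrArg (fun B : T1 K => el (B : SL(2, K)) 0 1) h).trans (e1 o'))
      rcases o with _ | t <;> rcases o' with _ | s
      · rfl
      · exact absurd f0.symm (hne s)
      · exact absurd f0 (hne t)
      · simp only [Option.elim] at f0 f1
        have ht := neg_one_nonsquare (hK := hK) t
        have hs := neg_one_nonsquare (hK := hK) s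
        rw [div_eq_div_iff ht hs] at f0 f1
        have hsq : t ^ 2 = s ^ 2 := by
          have : (2 : K) * (t ^ 2 - s ^ 2) = 0 := by linear_combination -f0
          exact sub_eq_zero.1 ((mul_eq_zero.1 this).resolve_left h2)
        have : (2 : K) * (t ^ 2 + 1) * (t - s) = 0 := by linear_combination f1 + (2 * t) * hsq
        rw [sub_eq_zero.1 ((mul_eq_zero.1 this).resolve_left (mul_ne_zero h2 ht))]
    · rintro ⟨B, hB⟩
      by_cases ha : el B 0 0 = -1
      · refine ⟨none, Subtype.ext (T1_ext (g none).2 hB ha.symm ?_)⟩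
        have hc := circle hB
        rw [ha] at hc
        exact (sq_eq_zero_iff.1 (by linear_combination hc)).symm
      · refine ⟨some (el B 0 1 / (1 + el B 0 0)), Subtype.ext (T1_ext (g _).2 hB ?_ ?_)⟩
        all_goals
          obtain ⟨a, ea⟩ : ∃ a, a = el B 0 0 := ⟨_, rfl⟩
          obtain ⟨b, eb⟩ : ∃ b, b = el B 0 1 := ⟨_, rfl⟩
          have hc := circle hB
          rw [← ea, ← eb] at hc ⊢
          have h1 : 1 + a ≠ 0 := fun e => ha (by rw [← ea]; linear_combination e)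
          have hden : (b / (1 + a)) ^ 2 + 1 ≠ 0 := neg_one_nonsquare (hK := hK) _
          have hval : (b / (1 + a)) ^ 2 + 1 = 2 / (1 + a) := by
            field_simp
            linear_combination hc
        · show (1 - (b / (1 + a)) ^ 2) / ((b / (1 + a)) ^ 2 + 1) = a
          rw [hval]
          field_simp
          linear_combination -hc
        · show 2 * (b / (1 + a)) / ((b / (1 + a)) ^ 2 + 1) = b
          rw [hval]
          field_simp
  rw [← Nat.card_eq_of_bijective g hg, Finite.card_option, Nat.card_eq_fintype_card]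

theorem isCyclic_T1 : IsCyclic (T1 K) := by
  let f : Polynomial K := Polynomial.X ^ 2 + 1
  have hdeg : f.natDegree = 2 := by simp only [f]; compute_degree!
  have hirr : Irreducible f := by
    refine Polynomial.irreducible_of_degree_le_three_of_not_isRoot (by rw [hdeg]; decide) fun x hx => ?_
    exact neg_one_nonsquare (hK := hK) x (by simpa [f, Polynomial.IsRoot] using hx)
  haveI : Fact (Irreducible f) := ⟨hirr⟩
  have hr : (AdjoinRoot.root f) ^ 2 = -1 := by
    have : AdjoinRoot.mk f f = 0 := AdjoinRoot.mk_self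
    simp only [f, map_add, map_pow, map_one, AdjoinRoot.mk_X] at this
    linear_combination this
  let φ : T1 K →* AdjoinRoot f :=
    { toFun := fun B => AdjoinRoot.of f (el (B : SL(2, K)) 0 0) +
        AdjoinRoot.of f (el (B : SL(2, K)) 0 1) * AdjoinRoot.root f
      map_one' := by simp [el]
      map_mul' := fun A B => by
        obtain ⟨b1, b2⟩ := mem_T1.1 B.2
        simp only [Subgroup.coe_mul, el_mul, b1, b2, map_add, map_mul, map_neg]
        linear_combination -(AdjoinRoot.of f (el (A : SL(2, K)) 0 1)) *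
          (AdjoinRoot.of f (el (B : SL(2, K)) 0 1)) * hr }
  refine isCyclic_of_injective_ringHom φ fun A B h => Subtype.ext ?_
  have h' : AdjoinRoot.mk f (Polynomial.C (el (A : SL(2, K)) 0 0 - el (B : SL(2, K)) 0 0) +
      Polynomial.C (el (A : SL(2, K)) 0 1 - el (B : SL(2, K)) 0 1) * Polynomial.X) = 0 := by
    simp only [map_add, map_mul, AdjoinRoot.mk_C, AdjoinRoot.mk_X, map_sub]
    change AdjoinRoot.of f _ + AdjoinRoot.of f _ * AdjoinRoot.root f =
      AdjoinRoot.of f _ + AdjoinRoot.of f _ * AdjoinRoot.root f at h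
    linear_combination h
  rw [AdjoinRoot.mk_eq_zero] at h'
  have hz := Polynomial.eq_zero_of_dvd_of_natDegree_lt h' (by rw [hdeg]; compute_degree!)
  have c0 := congrArg (fun P => Polynomial.coeff P 0) hz
  have c1 := congrArg (fun P => Polynomial.coeff P 1) hz
  simp at c0 c1
  exact T1_ext A.2 B.2 (sub_eq_zero.1 c0) (sub_eq_zero.1 c1)

/-! ### Orders -/

theorem card_GG : Nat.card GG =
    Fintype.card K ^ 3 * (Fintype.card K - 1) * (Fintype.card K ^ 3 + 1) := by
  rw [card_group X, hK]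

theorem q_form : ∃ c, Fintype.card K = 8 * c + 3 := by
  refine ⟨3 ^ (2 * m + 1) / 8, ?_⟩
  have : 3 ^ (2 * m + 1) % 8 = 3 := by
    rw [pow_succ, pow_mul, Nat.mul_mod, Nat.pow_mod]; norm_num
  rw [hK]; omega

theorem three_dvd_q : 3 ∣ Fintype.card K := by rw [hK, pow_succ']; exact Nat.dvd_mul_right 3 _

theorem twenty_seven_le (hm : 1 ≤ m) : 27 ≤ Fintype.card K := by
  rw [hK]
  exact (show 3 ^ 3 = 27 by norm_num) ▸ Nat.pow_le_pow_right (by norm_num) (by omega)

theorem six_factor : Fintype.card K ^ 3 + 1 =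
    (Fintype.card K + 1) * (Fintype.card K ^ 2 - Fintype.card K + 1) := by
  obtain ⟨e, he⟩ : ∃ e, e = Fintype.card K ^ 2 - Fintype.card K + 1 := ⟨_, rfl⟩
  have hle : Fintype.card K ≤ Fintype.card K ^ 2 := Nat.le_self_pow (by norm_num) _
  have h : e + Fintype.card K = Fintype.card K ^ 2 + 1 := by omega
  rw [← he]
  zify at h ⊢
  linear_combination -((Fintype.card K : ℤ) + 1) * h

theorem prime_sep {l : ℕ} (hl : l.Prime) (hl2 : l ≠ 2) (hl1 : l ∣ Fintype.card K + 1) :
    ¬ l ∣ Fintype.card K ∧ ¬ l ∣ Fintype.card K - 1 ∧ ¬ l ∣ Fintype.card K ^ 2 - Fintype.card K + 1 ∧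
      l ≠ 3 := by
  have hq : ¬ l ∣ Fintype.card K := fun h => hl.ne_one (Nat.dvd_one.1 ((Nat.dvd_add_right h).1 hl1))
  have hl3 : l ≠ 3 := fun e => hq (e ▸ three_dvd_q X)
  refine ⟨hq, fun h => ?_, fun h => ?_, hl3⟩
  · have h2 := Nat.dvd_sub hl1 h
    obtain ⟨c, hc⟩ := q_form X
    rw [show Fintype.card K + 1 - (Fintype.card K - 1) = 2 by omega] at h2
    exact hl2 ((Nat.prime_dvd_prime_iff_eq hl Nat.prime_two).1 h2)
  · have hle : Fintype.card K ≤ Fintype.card K ^ 2 := Nat.le_self_pow (by norm_num) _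
    have h' : (l : ℤ) ∣ (Fintype.card K : ℤ) ^ 2 - Fintype.card K + 1 := by
      have := Int.natCast_dvd_natCast.2 h
      simpa [Nat.cast_sub hle] using this
    have h1' : (l : ℤ) ∣ (Fintype.card K : ℤ) + 1 := by exact_mod_cast hl1
    have h3 : (l : ℤ) ∣ 3 := by
      have := dvd_sub h' (dvd_mul_of_dvd_left h1' ((Fintype.card K : ℤ) - 2))
      ring_nf at this
      exact this
    exact hl3 ((Nat.prime_dvd_prime_iff_eq hl Nat.prime_three).1 (by exact_mod_cast h3))

theorem factorization_prime {l : ℕ} (hl : l.Prime) (hl2 : l ≠ 2) (hl1 : l ∣ Fintype.card K + 1) :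
    (Nat.card GG).factorization l = (Fintype.card K + 1).factorization l := by
  obtain ⟨hq, hm1, hsix, -⟩ := prime_sep X hl hl2 hl1
  have hpos := Fintype.one_lt_card (α := K)
  rw [card_GG X, six_factor X, Nat.factorization_mul (mul_ne_zero (pow_ne_zero _ (by omega)) (by omega))
    (mul_ne_zero (by omega) (by omega)), Nat.factorization_mul (pow_ne_zero _ (by omega)) (by omega),
    Nat.factorization_mul (by omega) (by omega)]
  simp [Nat.factorization_eq_zero_of_not_dvd hm1, Nat.factorization_eq_zero_of_not_dvd hsix,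
    Nat.factorization_eq_zero_of_not_dvd hq]

theorem card_bor : Nat.card (bor X) = Fintype.card K ^ 3 * (Fintype.card K - 1) := by
  rw [Nat.card_congr (Subgroup.subgroupOfEquivOfLe inf_le_right).toEquiv, card_B_K X.gen,
    card_U X, card_H X, hK]

theorem orderOf_bor {g : GG} (hg : g ∈ bor X) :
    orderOf g ∣ Fintype.card K ^ 3 * (Fintype.card K - 1) :=
  card_bor X ▸ Subgroup.orderOf_dvd_natCard _ hg

theorem orderOf_conj (k g : GG) : orderOf (k⁻¹ * g * k) = orderOf g := by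
  rw [← orderOf_injective (MulAut.conj k⁻¹).toMonoidHom (MulAut.conj k⁻¹).injective g]
  simp

theorem three_conj {h : GG} (h3 : h ^ 3 = 1) :
    ∃ k : GG, k⁻¹ * h * k ∈ UB X := by
  haveI : Fact (Nat.Prime 3) := ⟨Nat.prime_three⟩
  by_cases h1 : h = 1
  · exact ⟨1, by subst h1; simp⟩
  have hpg : IsPGroup 3 (Subgroup.zpowers h) := IsPGroup.of_card (n := 1) (by
    rw [Nat.card_zpowers, pow_one, orderOf_eq_prime h3 h1])
  obtain ⟨P, hP⟩ := hpg.exists_le_sylow
  obtain ⟨P0, hP0⟩ := exists_sylow X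
  obtain ⟨k, rfl⟩ := MulAction.exists_smul_eq GG P0 P
  refine ⟨k, ?_⟩
  have h2 := hP (Subgroup.mem_zpowers h)
  rw [Sylow.coe_subgroup_smul, Subgroup.mem_pointwise_smul_iff_inv_smul_mem, hP0] at h2
  simpa using h2

/-- An element commuting with an element of order three fixes a coset. -/
theorem three_cent {g h : GG} (h3 : h ^ 3 = 1) (h1 : h ≠ 1) (hc : Commute g h) :
    orderOf g ∣ Fintype.card K ^ 3 * (Fintype.card K - 1) := by
  obtain ⟨k, hk⟩ := three_conj X h3
  obtain ⟨t, u, v, e⟩ := mem_UB X hk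
  have hp : (t, u, v) ≠ (0 : K × K × K) := fun e' => by
    simp only [Prod.ext_iff, Prod.fst_zero, Prod.snd_zero] at e'
    obtain ⟨rfl, rfl, rfl⟩ := e'
    rw [uu_zero, mul_eq_one_iff_eq_inv, inv_mul_eq_iff_eq_mul, mul_inv_cancel] at e
    exact h1 e
  have hfix : uu X (t, u, v) • ((k⁻¹ * g * k) • ((1 : GG) : GG ⧸ bor X)) =
      (k⁻¹ * g * k) • ((1 : GG) : GG ⧸ bor X) := by
    rw [← mul_smul, ← e, show k⁻¹ * h * k * (k⁻¹ * g * k) = k⁻¹ * (h * g) * k by group, ← hc.eq,
      show k⁻¹ * (g * h) * k = (k⁻¹ * g * k) * (k⁻¹ * h * k) by group, e, mul_smul,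
      (smul_base X).2 (uu_mem_bor X _)]
  rw [← orderOf_conj X k g]
  exact orderOf_bor X ((smul_base X).1 (uu_fix_only_base X hp hfix))

/-! ### The split torus -/

variable {Φ : SL(2, K) →* ↥(twistedG2 K (3 ^ m))} (hΦ : IsEmbed X Φ)
include hΦ

theorem nsw_conj (y : Kˣ) : Φ sw * torusHom X y * (Φ sw)⁻¹ = torusHom X y⁻¹ := by
  obtain ⟨k, hk⟩ : ∃ k, 3 ^ m * 3 = 2 * k + 1 := ((show Odd 3 by decide).pow.mul (by decide))
  obtain ⟨a, ha⟩ : ∃ a : Kˣ, a = y ^ k := ⟨_, rfl⟩
  obtain ⟨z, hz, hz2⟩ := hΦ.sd_tor (a : K) a.ne_zero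
  have h1 : a10 m (y * z⁻¹) = 1 := by
    have hy10 : a10 m y = (a : K) ^ 2 := by
      rw [ha, a10_eq, TT, ← pow_mul, hk, Units.val_pow_eq_pow_val, ← pow_mul, pow_succ,
        mul_inv_cancel_right₀ y.ne_zero, mul_comm 2 k]
    have hmul : a10 m (y * z⁻¹) * a10 m z = a10 m y := by
      rw [a10_eq, a10_eq, a10_eq, mul_mul_mul_comm, ← TT_mul, ← mul_inv, ← Units.val_mul,
        inv_mul_cancel_right]
    rw [hz2, hy10] at hmul
    exact (mul_eq_right₀ (pow_ne_zero 2 a.ne_zero)).1 hmul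
  obtain ⟨ε, hε, rfl⟩ : ∃ ε : Kˣ, ε * ε = 1 ∧ y = ε * z :=
    ⟨y * z⁻¹, by rw [← sq, a10_triv X h1], by rw [inv_mul_cancel_right]⟩
  have hεinv : ε⁻¹ = ε := inv_eq_of_mul_eq_one_right hε
  have hcε : Φ sw * torusHom X ε * (Φ sw)⁻¹ = torusHom X ε := by
    rcases sq_eq_one_iff.1 (show ((ε : K)) ^ 2 = 1 by rw [sq, ← Units.val_mul, hε, Units.val_one]) with e | e
    · rw [Units.val_eq_one.1 e, map_one]; group
    · rw [show ε = -1 from Units.ext (by rw [e]; simp), ← (hΦ.comm sw).eq, mul_inv_cancel_right]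
  have hconj : sw * sd (a : K) * (sw : SL(2, K))⁻¹ * sd (a : K) = 1 := by
    rw [show (sw : SL(2, K))⁻¹ = -sw from inv_eq_of_mul_eq_one_right (by
      ext i j; fin_cases i <;> fin_cases j <;> simp [Matrix.mul_apply, Fin.sum_univ_two])]
    refine Subtype.ext ?_
    simp only [Matrix.SpecialLinearGroup.coe_mul, coe_sd a.ne_zero, Matrix.SpecialLinearGroup.coe_neg]
    ext i j
    fin_cases i <;> fin_cases j <;> simp [Matrix.mul_apply, Fin.sum_univ_two]
  have hz' : Φ sw * torusHom X z * (Φ sw)⁻¹ = torusHom X z⁻¹ := by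
    rw [map_inv, ← hz, ← map_inv, ← map_inv, ← map_mul, ← map_mul]
    congr 1
    exact eq_inv_of_mul_eq_one_left hconj
  rw [map_mul, mul_inv, hεinv, map_mul, ← hz']
  nth_rewrite 2 [← hcε]
  group

theorem nsw_not_bor : Φ sw ∉ bor X := fun h => by simpa [el] using (phi_mem_bor X hΦ).1 h

theorem nsw_base (hm : 1 ≤ m) :
    Φ sw • ((1 : GG) : GG ⧸ bor X) = ((nn X : GG) : GG ⧸ bor X) := by
  obtain ⟨x, hx⟩ := exists_sq_ne X hm
  have hfix : torusHom X x • (Φ sw • ((1 : GG) : GG ⧸ bor X)) = Φ sw • ((1 : GG) : GG ⧸ bor X) := by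
    have e : torusHom X x * Φ sw = Φ sw * torusHom X x⁻¹ := by
      have := nsw_conj X hΦ x⁻¹
      rw [inv_inv, mul_inv_eq_iff_eq_mul] at this
      exact this.symm
    rw [← mul_smul, e, mul_smul, (smul_base X).2 (tor_mem_bor X _)]
  exact (tor_fix X hx hfix).resolve_left fun h => nsw_not_bor X hΦ ((smul_base X).1 h)

theorem tor_conj_cases (hm : 1 ≤ m) {g : GG} {x x' : Kˣ} (hx : x ^ 2 ≠ 1)
    (h : g * torusHom X x * g⁻¹ = torusHom X x') :
    (∃ y, g = torusHom X y ∧ x' = x) ∨ ∃ y, g = Φ sw * torusHom X y ∧ x' = x⁻¹ := by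
  have hfixed : ∀ (g : GG) (x' : Kˣ), g * torusHom X x * g⁻¹ = torusHom X x' → g ∈ bor X →
      ∃ y, g = torusHom X y ∧ x' = x := by
    intro g x' h hg
    obtain ⟨⟨t, u, v⟩, y, rfl⟩ := bor_decomp X hg
    have h' : uu X (t, u, v) * torusHom X x * (uu X (t, u, v))⁻¹ = torusHom X x' := by
      rw [← h, mul_inv_rev, show uu X (t, u, v) * torusHom X y * torusHom X x *
        ((torusHom X y)⁻¹ * (uu X (t, u, v))⁻¹) =
          uu X (t, u, v) * (torusHom X y * torusHom X x * (torusHom X y)⁻¹) * (uu X (t, u, v))⁻¹ by group,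
        ← map_mul, mul_comm y x, map_mul, mul_inv_cancel_right]
    obtain ⟨a, b, c, e⟩ := mem_UB X (mul_mem (uu_mem X (t, u, v))
      (tor_conj_mem X x (inv_mem (uu_mem X (t, u, v)))))
    have h2 : uu X (a, b, c) = torusHom X (x' * x⁻¹) := by
      rw [← e, map_mul, map_inv, eq_mul_inv_iff_mul_eq, ← h']; group
    obtain ⟨-, h3⟩ := uu_eq_tor X h2
    rw [mul_inv_eq_one] at h3
    subst h3
    have h4 : torusHom X x' * uu X (t, u, v) * (torusHom X x')⁻¹ = uu X (t, u, v) := by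
      rw [mul_inv_eq_iff_eq_mul] at h' ⊢; exact h'.symm
    obtain ⟨rfl, rfl, rfl⟩ := tor_uu_fixed X hx h4
    exact ⟨y, by rw [uu_zero, one_mul], rfl⟩
  have hx' : x' ^ 2 ≠ 1 := by
    intro e
    refine hx (torusHom_injective X ?_)
    rw [map_one, map_pow, ← MulEquiv.map_eq_one_iff (MulAut.conj g), map_pow, MulAut.conj_apply, h,
      ← map_pow, e, map_one]
  have hfix : torusHom X x' • (g • ((1 : GG) : GG ⧸ bor X)) = g • ((1 : GG) : GG ⧸ bor X) := by
    rw [← h, ← mul_smul, inv_mul_cancel_right, mul_smul, (smul_base X).2 (tor_mem_bor X x)]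
  rcases tor_fix X hx' hfix with e | e
  · exact Or.inl (hfixed g x' h ((smul_base X).1 e))
  · right
    have hmem : (Φ sw)⁻¹ * g ∈ bor X := (smul_base X).1 (by
      rw [mul_smul, e, ← nsw_base X hΦ hm, inv_smul_smul])
    obtain ⟨y, hy, e'⟩ := hfixed _ x'⁻¹ (by
      have h5 := nsw_conj X hΦ x'⁻¹
      rw [inv_inv] at h5
      calc (Φ sw)⁻¹ * g * torusHom X x * ((Φ sw)⁻¹ * g)⁻¹
          = (Φ sw)⁻¹ * (g * torusHom X x * g⁻¹) * Φ sw := by group
        _ = _ := by rw [h, ← h5]; group) hmem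
    exact ⟨y, by rw [← hy, mul_inv_cancel_left], by rw [← e', inv_inv]⟩

theorem cent_tor (hm : 1 ≤ m) {x : Kˣ} (hx : x ^ 2 ≠ 1) :
    Subgroup.centralizer {torusHom X x} = (torusHom X).range := by
  ext g
  rw [Subgroup.mem_centralizer_singleton_iff, MonoidHom.mem_range]
  constructor
  · intro h
    rcases tor_conj_cases X hΦ hm hx (x' := x) (by rw [h, mul_inv_cancel_right]) with
      ⟨y, hy, -⟩ | ⟨y, -, hy⟩
    · exact ⟨y, hy.symm⟩
    · exact absurd (by rw [sq]; nth_rewrite 1 [hy]; exact inv_mul_cancel x) hx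
  · rintro ⟨y, rfl⟩
    rw [← map_mul, ← map_mul, mul_comm]

/-- The normaliser of the split torus. -/
def NH : Subgroup ↥(twistedG2 K (3 ^ m)) where
  carrier := {g | ∀ y, ∃ y', g * torusHom X y * g⁻¹ = torusHom X y' ∧ (y' = y ∨ y' = y⁻¹)}
  one_mem' y := ⟨y, by simp, Or.inl rfl⟩
  mul_mem' := by
    intro a b ha hb y
    obtain ⟨y₁, e₁, h₁⟩ := hb y
    obtain ⟨y₂, e₂, h₂⟩ := ha y₁
    refine ⟨y₂, ?_, ?_⟩
    · rw [show a * b * torusHom X y * (a * b)⁻¹ = a * (b * torusHom X y * b⁻¹) * a⁻¹ by group, e₁, e₂]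
    · rcases h₁ with rfl | rfl <;> rcases h₂ with rfl | rfl <;> simp
  inv_mem' := by
    intro a ha y
    obtain ⟨y₁, e₁, h₁⟩ := ha y
    rcases h₁ with rfl | rfl
    · refine ⟨_, ?_, Or.inl rfl⟩
      nth_rewrite 1 [← e₁]; group
    · refine ⟨y⁻¹, ?_, Or.inr rfl⟩
      rw [map_inv] at e₁ ⊢
      have := congrArg (·⁻¹) e₁
      simp only [inv_inv] at this
      nth_rewrite 1 [← this]; group

theorem mem_NH (hm : 1 ≤ m) {g : GG} :
    g ∈ NH X ↔ ∃ y, g = torusHom X y ∨ g = Φ sw * torusHom X y := by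
  constructor
  · intro h
    obtain ⟨x, hx⟩ := exists_sq_ne X hm
    obtain ⟨x', e, -⟩ := h x
    rcases tor_conj_cases X hΦ hm hx e with ⟨y, hy, -⟩ | ⟨y, hy, -⟩
    · exact ⟨y, Or.inl hy⟩
    · exact ⟨y, Or.inr hy⟩
  · have ht : ∀ y, torusHom X y ∈ NH X := fun y z =>
      ⟨z, by rw [← map_mul, mul_comm, map_mul, mul_inv_cancel_right], Or.inl rfl⟩
    rintro ⟨y, rfl | rfl⟩
    · exact ht y
    · exact mul_mem (fun z => ⟨z⁻¹, nsw_conj X hΦ z, Or.inr rfl⟩) (ht y)

theorem norm_tor (hm : 1 ≤ m) {A : Subgroup GG} (hA : A ≤ (torusHom X).range) {x : Kˣ}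
    (hx : x ^ 2 ≠ 1) (hxA : torusHom X x ∈ A) :
    Subgroup.normalizer (A : Set GG) = NH X := by
  ext g
  constructor
  · intro h
    obtain ⟨x', hx'⟩ := hA ((Subgroup.mem_normalizer_iff.1 h _).1 hxA)
    rw [mem_NH X hΦ hm]
    rcases tor_conj_cases X hΦ hm hx hx'.symm with ⟨y, hy, -⟩ | ⟨y, hy, -⟩
    · exact ⟨y, Or.inl hy⟩
    · exact ⟨y, Or.inr hy⟩
  · intro h
    have hmaps : ∀ g ∈ NH X, ∀ a ∈ A, g * a * g⁻¹ ∈ A := by
      intro g hg a ha
      obtain ⟨y, rfl⟩ := hA ha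
      obtain ⟨y', e, rfl | rfl⟩ := hg y
      · rw [e]; exact ha
      · rw [e, map_inv]; exact inv_mem ha
    refine Subgroup.mem_normalizer_iff.2 fun a => ⟨hmaps g h a, fun ha => ?_⟩
    have := hmaps _ (inv_mem h) _ ha
    simpa [mul_assoc] using this

theorem card_NH (hm : 1 ≤ m) : Nat.card (NH X) = 2 * (Fintype.card K - 1) := by
  classical
  let f : Bool × Kˣ → NH X := fun p =>
    ⟨(if p.1 then Φ sw else 1) * torusHom X p.2, (mem_NH X hΦ hm).2 ⟨p.2, by cases p.1 <;> simp⟩⟩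
  have hf : Function.Bijective f := by
    constructor
    · have hne : ∀ y z, Φ sw * torusHom X y ≠ torusHom X z := fun y z e => nsw_not_bor X hΦ (by
        rw [eq_mul_inv_of_mul_eq e, ← map_inv, ← map_mul]; exact tor_mem_bor X _)
      rintro ⟨b, y⟩ ⟨c, z⟩ h
      have h' := congrArg Subtype.val h
      cases b <;> cases c <;> simp only [f, Bool.false_eq_true, ↓reduceIte, one_mul] at h'
      · rw [torusHom_injective X h']
      · exact absurd h'.symm (hne _ _)
      · exact absurd h' (hne _ _)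
      · rw [torusHom_injective X (mul_left_cancel h')]
    · rintro ⟨g, hg⟩
      obtain ⟨y, rfl | rfl⟩ := (mem_NH X hΦ hm).1 hg
      · exact ⟨(false, y), Subtype.ext (by simp [f])⟩
      · exact ⟨(true, y), Subtype.ext (by simp [f])⟩
  rw [← Nat.card_eq_of_bijective f hf, Nat.card_prod, Nat.card_units, Nat.card_eq_fintype_card,
    Fintype.card_bool, Nat.card_eq_fintype_card]

/-! ### The torus of order `q + 1` -/

omit hΦ in
/-- The image of the compact torus. -/
abbrev T2 (_X : Setup (K := K) hK) (Φ : SL(2, K) →* ↥(twistedG2 K (3 ^ m))) :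
    Subgroup ↥(twistedG2 K (3 ^ m)) :=
  (T1 K).map Φ

theorem card_T2 : 2 * Nat.card (T2 X Φ) = Fintype.card K + 1 := by
  have h1 := Subgroup.card_mul_index (Φ.comp (T1 K).subtype).ker
  have hr : (Φ.comp (T1 K).subtype).range = T2 X Φ := by
    rw [MonoidHom.range_comp, Subgroup.range_subtype]
  rw [Subgroup.index_ker, hr, card_T1 X] at h1
  have hk : Nat.card (Φ.comp (T1 K).subtype).ker = 2 := by
    rw [Nat.card_eq_two_iff]
    refine ⟨1, ⟨⟨-1, mem_T1.2 ⟨by simp [el], by simp [el]⟩⟩, hΦ.neg_one⟩, fun e => ?_, ?_⟩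
    · have e' := congrArg (fun z => el ((z.1 : T1 K) : SL(2, K)) 0 0) e
      simp [el] at e'
      exact neg_one_ne_one (K := K) e'.symm
    · refine Set.eq_univ_of_forall fun ⟨⟨B, hB⟩, hk⟩ => ?_
      rcases phi_eq_one X hΦ (MonoidHom.mem_ker.1 hk) with e | e
      · subst e; exact Or.inl rfl
      · subst e; exact Or.inr rfl
  rw [hk] at h1
  exact h1

theorem isCyclic_T2 : IsCyclic (T2 X Φ) := by
  haveI := isCyclic_T1 X
  exact isCyclic_of_surjective (Φ.subgroupMap (T1 K)) (Φ.subgroupMap_surjective _)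

omit hΦ in
theorem sw_mem_T1 : (sw : SL(2, K)) ∈ T1 K := Subgroup.mem_centralizer_singleton_iff.2 rfl

theorem T2_comm {a b : GG} (ha : a ∈ T2 X Φ) (hb : b ∈ T2 X Φ) : Commute a b := by
  haveI := isCyclic_T2 X hΦ
  letI := IsCyclic.commGroup (α := T2 X Φ)
  exact congrArg Subtype.val (mul_comm (⟨a, ha⟩ : T2 X Φ) ⟨b, hb⟩)

omit hΦ in
theorem commT0 {b : Bool} {a : GG} (h : Commute (torusHom X (-1)) a) :
    Commute (if b then torusHom X (-1) else 1) a := by
  cases b
  · exact Commute.one_left _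
  · exact h

omit hΦ in
/-- The abelian subgroup of order `q + 1`. -/
noncomputable def T0 (Φ : SL(2, K) →* ↥(twistedG2 K (3 ^ m))) : Subgroup ↥(twistedG2 K (3 ^ m)) :=
  Subgroup.zpowers (torusHom X (-1)) ⊔ T2 X Φ

theorem mem_T0 {g : GG} : g ∈ T0 X Φ ↔
    ∃ B ∈ T1 K, g = Φ B ∨ g = torusHom X (-1) * Φ B := by
  constructor
  · intro hg
    have hle : T2 X Φ ≤ Subgroup.normalizer (Subgroup.zpowers (torusHom X (-1)) : Set GG) := by
      rintro _ ⟨B, -, rfl⟩
      refine Subgroup.mem_normalizer_iff.2 fun z => ⟨fun hz => ?_, fun hz => ?_⟩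
      · obtain ⟨i, rfl⟩ := Subgroup.mem_zpowers_iff.1 hz
        rw [← ((hΦ.comm B).zpow_left i).eq, mul_inv_cancel_right]
        exact Subgroup.zpow_mem_zpowers _ _
      · obtain ⟨i, hi⟩ := Subgroup.mem_zpowers_iff.1 hz
        have : z = torusHom X (-1) ^ i := by
          have e := congrArg (fun w => (Φ B)⁻¹ * w * Φ B) hi
          simp only [mul_assoc, inv_mul_cancel, mul_one, inv_mul_cancel_left] at e
          rw [← e, ((hΦ.comm B).zpow_left i).eq, inv_mul_cancel_left]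
        rw [this]
        exact Subgroup.zpow_mem_zpowers _ _
    have hg' : g ∈ ((Subgroup.zpowers (torusHom X (-1)) : Set GG) * (T2 X Φ : Set GG)) := by
      rw [← Subgroup.coe_mul_of_right_le_normalizer_left _ _ hle]
      exact hg
    obtain ⟨a, ha, b, ⟨B, hB, rfl⟩, rfl⟩ := hg'
    refine ⟨B, hB, ?_⟩
    obtain ⟨i, rfl⟩ := Subgroup.mem_zpowers_iff.1 ha
    rcases Int.even_or_odd' i with ⟨k, rfl | rfl⟩
    · left; show torusHom X (-1) ^ (2 * k) * Φ B = _
      rw [zpow_mul, zpow_two, j_sq X hΦ, one_zpow, one_mul]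
    · right; show torusHom X (-1) ^ (2 * k + 1) * Φ B = _
      rw [zpow_add_one, zpow_mul, zpow_two, j_sq X hΦ, one_zpow, one_mul]
  · rintro ⟨B, hB, rfl | rfl⟩
    · exact Subgroup.mem_sup_right ⟨B, hB, rfl⟩
    · exact mul_mem (Subgroup.mem_sup_left (Subgroup.mem_zpowers _))
        (Subgroup.mem_sup_right ⟨B, hB, rfl⟩)

theorem T0_form {g : GG} (hg : g ∈ T0 X Φ) :
    ∃ (b : Bool) (a : GG), a ∈ T2 X Φ ∧ g = (if b then torusHom X (-1) else 1) * a := by
  obtain ⟨B, hB, rfl | rfl⟩ := (mem_T0 X hΦ).1 hg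
  · exact ⟨false, _, ⟨B, hB, rfl⟩, by simp⟩
  · exact ⟨true, _, ⟨B, hB, rfl⟩, by simp⟩

theorem T0_comm {a b : GG} (ha : a ∈ T0 X Φ) (hb : b ∈ T0 X Φ) : Commute a b := by
  obtain ⟨e, x, hx, rfl⟩ := T0_form X hΦ ha
  obtain ⟨f, y, hy, rfl⟩ := T0_form X hΦ hb
  obtain ⟨A, hA, rfl⟩ := hx
  obtain ⟨B, hB, rfl⟩ := hy
  refine Commute.mul_left (commT0 X (Commute.mul_right (commT0 X (Commute.refl _)).symm (hΦ.comm _)))
    (Commute.mul_right (commT0 X (hΦ.comm _)).symm ?_)
  exact T2_comm X hΦ ⟨A, hA, rfl⟩ ⟨B, hB, rfl⟩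

theorem card_T0 : Nat.card (T0 X Φ) = Fintype.card K + 1 := by
  classical
  let f : Bool × T2 X Φ → T0 X Φ := fun p =>
    ⟨(if p.1 then torusHom X (-1) else 1) * p.2, by
      refine mul_mem ?_ (Subgroup.mem_sup_right p.2.2)
      cases p.1
      · exact one_mem _
      · exact Subgroup.mem_sup_left (Subgroup.mem_zpowers _)⟩
  have hf : Function.Bijective f := by
    constructor
    · have hne : ∀ a ∈ T2 X Φ, ∀ b ∈ T2 X Φ, torusHom X (-1) * a ≠ b := by
        rintro _ ⟨A, -, rfl⟩ _ ⟨B, -, rfl⟩ e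
        exact phi_ne_j X hΦ (B * A⁻¹) (by rw [map_mul, map_inv, ← e, mul_inv_cancel_right])
      rintro ⟨b, x⟩ ⟨c, y⟩ h
      have h' := congrArg Subtype.val h
      cases b <;> cases c <;> simp only [f, Bool.false_eq_true, ↓reduceIte, one_mul] at h'
      · rw [Subtype.ext h']
      · exact absurd h'.symm (hne _ y.2 _ x.2)
      · exact absurd h' (hne _ x.2 _ y.2)
      · rw [Subtype.ext (mul_left_cancel h')]
    · rintro ⟨g, hg⟩
      obtain ⟨b, a, ha, rfl⟩ := T0_form X hΦ hg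
      exact ⟨(b, ⟨a, ha⟩), rfl⟩
  rw [← Nat.card_eq_of_bijective f hf, Nat.card_prod, Nat.card_eq_fintype_card, Fintype.card_bool,
    card_T2 X hΦ]

theorem j_mem_T0 : torusHom X (-1) ∈ T0 X Φ := Subgroup.mem_sup_left (Subgroup.mem_zpowers _)

theorem T0_le_cent {h : GG} (hh : h ∈ T2 X Φ) : T0 X Φ ≤ Subgroup.centralizer {h} := fun _ hg =>
  Subgroup.mem_centralizer_singleton_iff.2 (T0_comm X hΦ hg (Subgroup.mem_sup_right hh)).eq

theorem cent_j_T2 {g : GG} {A : SL(2, K)} (hA : A ∈ T1 K) (hA2 : Φ A * Φ A ≠ 1)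
    (hj : Commute (torusHom X (-1)) g) (hg : Commute g (Φ A)) : g ∈ T0 X Φ := by
  obtain ⟨B, hB⟩ := cent_decomp X hΦ hj
  have hBA : Commute (Φ B) (Φ A) := by
    rcases hB with rfl | rfl
    · exact hg
    · simpa using ((hΦ.comm A).inv_left).mul_left hg
  refine (mem_T0 X hΦ).2 ⟨B, ?_, hB⟩
  obtain ⟨a1, a2⟩ := mem_T1.1 hA
  have h2 : (2 : K) ≠ 0 := fun e => neg_one_ne_one (K := K) (by linear_combination -e)
  rcases phi_eq X hΦ (show Φ (B * A) = Φ (A * B) by rw [map_mul, map_mul, hBA.eq]) with e | e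
  · have hb : el A 0 1 ≠ 0 := by
      intro hb
      refine hA2 ?_
      have hc := circle hA
      rw [hb] at hc
      rcases sq_eq_one_iff.1 (show el A 0 0 ^ 2 = 1 by linear_combination hc) with h | h
      · rw [show A = 1 from T1_ext hA (one_mem _) (by simpa [el] using h) (by simpa [el] using hb),
          map_one, one_mul]
      · rw [show A = -1 from T1_ext hA (mem_T1.2 ⟨by simp [el], by simp [el]⟩) (by simpa [el] using h)
          (by simpa [el] using hb), hΦ.neg_one, one_mul]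
    have e0 := congrArg (fun C : SL(2, K) => el C 0 0) e
    have e1 := congrArg (fun C : SL(2, K) => el C 0 1) e
    simp only [el_mul, a1, a2] at e0 e1
    refine mem_T1.2 ⟨mul_left_cancel₀ hb ?_, mul_left_cancel₀ hb ?_⟩
    · linear_combination -e1
    · linear_combination -e0
  · exfalso
    refine hA2 ?_
    have e00 := congrArg (fun C : SL(2, K) => el C 0 0) e
    have e01 := congrArg (fun C : SL(2, K) => el C 0 1) e
    have e10 := congrArg (fun C : SL(2, K) => el C 1 0) e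
    have e11 := congrArg (fun C : SL(2, K) => el C 1 1) e
    simp [el, Matrix.mul_apply, Fin.sum_univ_two] at e00 e01 e10 e11
    simp [el] at a1 a2
    simp only [a1, a2] at e00 e01 e10 e11
    obtain ⟨a, ea⟩ : ∃ a, a = el A 0 0 := ⟨_, rfl⟩
    obtain ⟨b, eb⟩ : ∃ b, b = el A 0 1 := ⟨_, rfl⟩
    simp [el] at ea eb
    rw [← ea, ← eb] at e00 e01 e10 e11
    have ha : a = 0 := by
      by_contra ha
      have hdet := el_det B
      simp [el] at hdet
      have hab := circle hA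
      simp [el] at hab
      rw [← ea, ← eb] at hab
      have k1 : (a * 2) * (B.1 0 1 + B.1 1 0) = 0 := by linear_combination e01 + e10
      have hs1 := (mul_eq_zero.1 k1).resolve_left (mul_ne_zero ha h2)
      have k2 : (a * 2) * (B.1 0 0 - B.1 1 1) = 0 := by linear_combination e00 - e11
      have hs2 := (mul_eq_zero.1 k2).resolve_left (mul_ne_zero ha h2)
      have k3 : (2 : K) * (a * B.1 0 0 + b * B.1 1 0) = 0 := by linear_combination e00 + b * hs1
      have hs3 := (mul_eq_zero.1 k3).resolve_left h2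
      have k4 : (2 : K) * (b * B.1 0 0 - a * B.1 1 0) = 0 := by
        linear_combination e01 + b * hs2 - (2 * a) * hs1
      have hs4 := (mul_eq_zero.1 k4).resolve_left h2
      have k00 : B.1 0 0 = 0 := by linear_combination a * hs3 + b * hs4 - B.1 0 0 * hab
      have k01 : B.1 1 0 = 0 := by linear_combination b * hs3 - a * hs4 - B.1 1 0 * hab
      rw [k00, k01] at hdet
      simp at hdet
    have hab := circle hA
    simp [el] at hab
    rw [← ea, ← eb, ha] at hab
    rw [← map_mul, show A * A = -1 by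
      ext i j
      fin_cases i <;> fin_cases j <;>
        simp [Matrix.mul_apply, Fin.sum_univ_two, a1, a2, ← ea, ← eb, ha]
      all_goals first | linear_combination -hab | linear_combination hab, hΦ.neg_one]

theorem sylow_T2 {l : ℕ} [Fact l.Prime] (hl2 : l ≠ 2) (hl1 : l ∣ Fintype.card K + 1) :
    ∃ P : Sylow l GG, (P : Subgroup GG) ≤ T2 X Φ := by
  obtain ⟨Q⟩ : Nonempty (Sylow l (T2 X Φ)) := inferInstance
  have hcard : Nat.card ((Q : Subgroup (T2 X Φ)).map (T2 X Φ).subtype) =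
      l ^ (Nat.card GG).factorization l := by
    rw [Subgroup.card_map_of_injective Subtype.coe_injective, Q.card_eq_multiplicity,
      factorization_prime X Fact.out hl2 hl1, ← card_T2 X hΦ,
      Nat.factorization_mul two_ne_zero Nat.card_pos.ne']
    simp [Nat.factorization_eq_zero_of_not_dvd
      (fun h => hl2 ((Nat.prime_dvd_prime_iff_eq Fact.out Nat.prime_two).1 h))]
  exact ⟨Sylow.ofCard _ hcard, by
    rw [Sylow.coe_ofCard]; exact Subgroup.map_subtype_le _⟩

/-- An element of odd prime order dividing `q + 1` is conjugate into the compact torus, inside the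
centraliser of the standard involution if it lies there. -/
theorem prime_conj {l : ℕ} [Fact l.Prime] (hl2 : l ≠ 2) (hl1 : l ∣ Fintype.card K + 1) {h : GG}
    (hh : h ^ l = 1) : (∃ k : GG, k⁻¹ * h * k ∈ T2 X Φ) ∧
      (Commute (torusHom X (-1)) h → ∃ k : GG, Commute (torusHom X (-1)) k ∧ k⁻¹ * h * k ∈ T2 X Φ) := by
  classical
  by_cases h1 : h = 1
  · subst h1
    exact ⟨⟨1, by simp⟩, fun _ => ⟨1, Commute.one_right _, by simp⟩⟩
  obtain ⟨P, hP⟩ := sylow_T2 X hΦ hl2 hl1
  have hpg : IsPGroup l (Subgroup.zpowers h) := IsPGroup.of_card (n := 1) (by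
    rw [Nat.card_zpowers, pow_one, orderOf_eq_prime hh h1])
  constructor
  · obtain ⟨Q, hQ⟩ := hpg.exists_le_sylow
    obtain ⟨k, rfl⟩ := MulAction.exists_smul_eq GG P Q
    refine ⟨k, hP ?_⟩
    have h2 := hQ (Subgroup.mem_zpowers h)
    rw [Sylow.coe_subgroup_smul, Subgroup.mem_pointwise_smul_iff_inv_smul_mem] at h2
    simpa using h2
  · intro hj
    have hPC : (P : Subgroup GG) ≤ Subgroup.centralizer {torusHom X (-1)} := fun x hx => by
      obtain ⟨B, -, rfl⟩ := hP hx
      exact Subgroup.mem_centralizer_singleton_iff.2 (hΦ.comm B).eq.symm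
    obtain ⟨PC, hPCe⟩ : ∃ PC, PC = P.subtype hPC := ⟨_, rfl⟩
    have hhC : h ∈ Subgroup.centralizer {torusHom X (-1)} :=
      Subgroup.mem_centralizer_singleton_iff.2 hj.eq.symm
    have hpg' : IsPGroup l ((Subgroup.zpowers h).subgroupOf (Subgroup.centralizer {torusHom X (-1)})) :=
      hpg.of_equiv (Subgroup.subgroupOfEquivOfLe (Subgroup.zpowers_le.2 hhC)).symm
    obtain ⟨Q, hQ⟩ := hpg'.exists_le_sylow
    obtain ⟨k, rfl⟩ := MulAction.exists_smul_eq (Subgroup.centralizer {torusHom X (-1)}) PC Q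
    refine ⟨k, (Subgroup.mem_centralizer_singleton_iff.1 k.2).symm, hP ?_⟩
    have h2 := hQ (Subgroup.mem_subgroupOf.2 (Subgroup.mem_zpowers (g := h))
      : (⟨h, hhC⟩ : Subgroup.centralizer {torusHom X (-1)}) ∈ _)
    rw [Sylow.coe_subgroup_smul, Subgroup.mem_pointwise_smul_iff_inv_smul_mem, hPCe, Sylow.coe_subtype,
      Subgroup.mem_subgroupOf] at h2
    simpa using h2

theorem T0_involutions {e : GG} (he : e ∈ T0 X Φ) (he2 : e * e = 1) :
    ∃ (b : Bool) (i : Fin 4), (i = 0 ∨ i = 1) ∧ e = elt X Φ (b, i) := by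
  obtain ⟨b, a, ⟨B, hB, rfl⟩, rfl⟩ := T0_form X hΦ he
  have hBB : Φ B * Φ B = 1 := by
    have hb : (if b then torusHom X (-1) else 1) * (if b then torusHom X (-1) else (1 : GG)) = 1 := by
      cases b
      · simp
      · simpa using j_sq X hΦ
    rw [(commT0 X (hΦ.comm B)).symm.mul_mul_mul_comm, hb, one_mul] at he2
    exact he2
  obtain ⟨a1, a2⟩ := mem_T1.1 hB
  have h2 : (2 : K) ≠ 0 := fun e => neg_one_ne_one (K := K) (by linear_combination -e)
  have hab : el B 0 0 * el B 0 1 = 0 := by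
    rw [← map_mul] at hBB
    have h01 : el (B * B) 0 1 = 0 := by
      rcases phi_eq_one X hΦ hBB with e | e <;> rw [e] <;> simp [el]
    rw [el_mul, a1] at h01
    exact (mul_eq_zero.1 (show (2 : K) * (el B 0 0 * el B 0 1) = 0 by linear_combination h01)).resolve_left h2
  have hc := circle hB
  rcases mul_eq_zero.1 hab with h | h
  · refine ⟨b, 1, Or.inr rfl, ?_⟩
    rw [elt]
    congr 1
    rcases sq_eq_one_iff.1 (show el B 0 1 ^ 2 = 1 by rw [h] at hc; linear_combination hc) with h' | h'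
    · rw [show B = sw from T1_ext hB (sw_mem_T1 X) (by simpa [el] using h) (by simpa [el] using h')]
      rfl
    · rw [show B = -sw from T1_ext hB (mem_T1.2 ⟨by simp [el], by simp [el]⟩)
        (by simpa [el] using h) (by simpa [el] using h'), phi_neg X hΦ]
      rfl
  · refine ⟨b, 0, Or.inl rfl, ?_⟩
    rw [elt]
    congr 1
    rcases sq_eq_one_iff.1 (show el B 0 0 ^ 2 = 1 by rw [h] at hc; linear_combination hc) with h' | h'
    · rw [show B = 1 from T1_ext hB (one_mem _) (by simpa [el] using h') (by simpa [el] using h)]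
      rfl
    · rw [show B = -1 from T1_ext hB (mem_T1.2 ⟨by simp [el], by simp [el]⟩)
        (by simpa [el] using h') (by simpa [el] using h), phi_neg X hΦ]
      rfl

theorem cent_prime (hm : 1 ≤ m) {l : ℕ} [Fact l.Prime] (hl2 : l ≠ 2) (hl1 : l ∣ Fintype.card K + 1)
    {h : GG} (hh : h ∈ T2 X Φ) (ho : orderOf h = l) : Subgroup.centralizer {h} = T0 X Φ := by
  classical
  haveI : Fact (Nat.Prime 2) := ⟨Nat.prime_two⟩
  refine le_antisymm ?_ (T0_le_cent X hΦ hh)
  have hodd : h * h ≠ 1 := fun e => hl2 <| by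
    have h2 : orderOf h ∣ 2 := orderOf_dvd_of_pow_eq_one (by rw [sq, e])
    rw [ho] at h2
    exact (Nat.prime_dvd_prime_iff_eq Fact.out Nat.prime_two).1 h2
  -- centralisers of involutions inside are abelian
  have habel : ∀ {k : GG}, Commute (k * torusHom X (-1) * k⁻¹) h → ∀ {x y : GG},
      Commute x h → Commute y h → Commute x (k * torusHom X (-1) * k⁻¹) →
      Commute y (k * torusHom X (-1) * k⁻¹) → Commute x y := by
    intro k hk x y hx hy hxe hye
    have cj : ∀ {z w : GG}, Commute z w → Commute (k⁻¹ * z * k) (k⁻¹ * w * k) := fun {z w} h => by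
      simpa using h.map (MulAut.conj k⁻¹).toMonoidHom
    have hj : ∀ {z : GG}, Commute z (k * torusHom X (-1) * k⁻¹) →
        Commute (torusHom X (-1)) (k⁻¹ * z * k) := fun {z} hz => by
      have := cj hz.symm
      rwa [show k⁻¹ * (k * torusHom X (-1) * k⁻¹) * k = torusHom X (-1) by group] at this
    obtain ⟨c, hc, hcm⟩ := (prime_conj X hΦ hl2 hl1 (h := k⁻¹ * h * k)
      (by rw [← ho, ← orderOf_conj X k h, pow_orderOf_eq_one])).2 (hj hk.symm)
    have hAA : c⁻¹ * (k⁻¹ * h * k) * c * (c⁻¹ * (k⁻¹ * h * k) * c) ≠ 1 := fun e => hodd (by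
      calc h * h = (k * c) * (c⁻¹ * (k⁻¹ * h * k) * c * (c⁻¹ * (k⁻¹ * h * k) * c)) * (k * c)⁻¹ := by group
        _ = 1 := by rw [e]; group)
    obtain ⟨A, hA, hAe⟩ := hcm
    rw [← hAe] at hAA
    have hT : ∀ z : GG, Commute z h → Commute z (k * torusHom X (-1) * k⁻¹) →
        c⁻¹ * (k⁻¹ * z * k) * c ∈ T0 X Φ := fun z hz hze => by
      refine cent_j_T2 X hΦ hA hAA ((hc.inv_right.mul_right (hj hze)).mul_right hc) ?_
      rw [hAe]
      simpa using (cj hz).map (MulAut.conj c⁻¹).toMonoidHom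
    have h3 := (T0_comm X hΦ (hT x hx hxe) (hT y hy hye)).map (MulAut.conj (k * c)).toMonoidHom
    simpa [mul_assoc] using h3
  obtain ⟨C, hC⟩ : ∃ C : Subgroup GG, C = Subgroup.centralizer {h} := ⟨_, rfl⟩
  have hmemC : ∀ {z}, z ∈ C → Commute z h := fun {z} hz =>
    Subgroup.mem_centralizer_singleton_iff.1 (hC ▸ hz)
  have hT0C : T0 X Φ ≤ C := hC ▸ T0_le_cent X hΦ hh
  -- no element of order three
  have h3 : ¬ 3 ∣ Nat.card C := fun h3 => by
    haveI : Fact (Nat.Prime 3) := ⟨Nat.prime_three⟩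
    obtain ⟨⟨x, hx⟩, hxo⟩ := exists_prime_orderOf_dvd_card' (G := C) 3 h3
    rw [Subgroup.orderOf_mk] at hxo
    have hd := three_cent X (h := x) (by have := pow_orderOf_eq_one x; rwa [hxo] at this)
      (fun e => by rw [e, orderOf_one] at hxo; norm_num at hxo) (hmemC hx).symm
    rw [ho] at hd
    obtain ⟨s1, s2, -, -⟩ := prime_sep X Fact.out hl2 hl1
    exact ((Fact.out : l.Prime).dvd_mul.1 hd).elim (fun e => s1 ((Fact.out : l.Prime).dvd_of_dvd_pow e)) s2
  -- the four group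
  have hjmem := hT0C (j_mem_T0 X hΦ)
  have hwmem := hT0C ((mem_T0 X hΦ).2 ⟨sw, (sw_mem_T1 X), Or.inl rfl⟩)
  obtain ⟨E, hE⟩ : ∃ E : Subgroup GG, E = T0 X Φ ⊓ S0 X Φ := ⟨_, rfl⟩
  have helt0 : ∀ b, ∀ i : Fin 4, i = 0 ∨ i = 1 → elt X Φ (b, i) ∈ T0 X Φ := fun b i hi => by
    rw [elt]
    refine mul_mem ?_ (Subgroup.mem_sup_right ⟨qv i, ?_, rfl⟩)
    · cases b
      · exact one_mem _
      · exact j_mem_T0 X hΦ
    · rcases hi with rfl | rfl
      · exact one_mem _
      · exact (sw_mem_T1 X)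
  have hEform : ∀ {e}, e ∈ E ↔ ∃ (b : Bool) (i : Fin 4), (i = 0 ∨ i = 1) ∧ e = elt X Φ (b, i) := by
    intro e
    rw [hE, Subgroup.mem_inf]
    constructor
    · rintro ⟨h1, h2⟩
      obtain ⟨p, hp⟩ := (mem_S0 X hΦ).1 h2
      exact T0_involutions X hΦ h1 (by rw [hp]; exact elt_sq X hΦ p)
    · rintro ⟨b, i, hi, rfl⟩
      exact ⟨helt0 b i hi, (mem_S0 X hΦ).2 ⟨_, rfl⟩⟩
  have hEcard : Nat.card E = 4 := by
    let f : Bool × Bool → E := fun p =>
      ⟨elt X Φ (p.1, if p.2 then 1 else 0), hEform.2 ⟨_, _, by cases p.2 <;> simp, rfl⟩⟩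
    have hf : Function.Bijective f := by
      constructor
      · rintro ⟨a, b⟩ ⟨c, d⟩ e
        have := elt_injective X hΦ (congrArg Subtype.val e)
        cases b <;> cases d <;> simp_all
      · rintro ⟨e, he⟩
        obtain ⟨b, i, rfl | rfl, rfl⟩ := hEform.1 he
        · exact ⟨(b, false), rfl⟩
        · exact ⟨(b, true), rfl⟩
    rw [← Nat.card_eq_of_bijective f hf, Nat.card_prod, Nat.card_eq_fintype_card, Fintype.card_bool]
  have hEC : E ≤ C := le_trans (hE ▸ inf_le_left) hT0C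
  have hv2 : (Nat.card C).factorization 2 = 2 := by
    refine le_antisymm ?_ ?_
    · by_contra hlt
      obtain ⟨S, hS⟩ := Sylow.exists_subgroup_card_pow_prime 2 (n := 3) (G := C)
        ((Nat.Prime.pow_dvd_iff_le_factorization Nat.prime_two Nat.card_pos.ne').2 (by omega))
      let P : Sylow 2 GG := Sylow.ofCard (S.map C.subtype) (by
        rw [Subgroup.card_map_of_injective Subtype.coe_injective, hS, factorization_two X])
      have hcen : h ∈ Subgroup.centralizer ((P : Subgroup GG) : Set GG) :=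
        Subgroup.mem_centralizer_iff.2 fun x hx => by
          rw [SetLike.mem_coe, Sylow.coe_ofCard] at hx
          exact (hmemC (Subgroup.map_subtype_le S hx)).eq
      rw [(sylow_two_structure X hΦ hm P).1] at hcen
      exact hodd ((sylow_sq X hΦ P).2 h hcen)
    · refine (Nat.Prime.pow_dvd_iff_le_factorization Nat.prime_two Nat.card_pos.ne').1 ?_
      rw [show 2 ^ 2 = Nat.card E by rw [hEcard]; norm_num]
      exact Subgroup.card_dvd_of_le hEC
  obtain ⟨P, hP⟩ : ∃ P : Sylow 2 C, (P : Subgroup C) = E.subgroupOf C := ⟨Sylow.ofCard _ (by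
    rw [Nat.card_congr (Subgroup.subgroupOfEquivOfLe hEC).toEquiv, hv2, hEcard]; norm_num),
    Sylow.coe_ofCard _ _⟩
  have hmemP : ∀ {z : C}, z ∈ (P : Subgroup C) → (z : GG) ∈ E := fun hz => by
    rw [hP] at hz; exact hz
  have hmemT : ∀ {z : C}, z ∈ (P : Subgroup C) → (z : GG) ∈ T0 X Φ := fun hz => by
    have := hmemP hz
    rw [hE] at this
    exact this.1
  have hPN : Subgroup.normalizer (P : Set C) ≤ Subgroup.centralizer ((P : Subgroup C) : Set C) := by
    intro n hn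
    have hn' : n ∈ Subgroup.normalizer ((P : Subgroup C) : Set C) := hn
    rw [Subgroup.mem_centralizer_iff]
    intro e he
    -- the automorphism induced on the four group
    let α : MulAut (P : Subgroup C) := Subgroup.normalizerMonoidHom (P : Subgroup C) ⟨n, hn'⟩
    have hcardP : Nat.card (P : Subgroup C) = 4 := by
      rw [hP, Nat.card_congr (Subgroup.subgroupOfEquivOfLe hEC).toEquiv, hEcard]
    haveI : Nontrivial (P : Subgroup C) := Finite.one_lt_card_iff_nontrivial.1 (by rw [hcardP]; norm_num)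
    haveI : IsKleinFour (P : Subgroup C) := by
      refine ⟨hcardP, Monoid.exponent_eq_prime_iff Nat.prime_two |>.2 fun x hx1 =>
        orderOf_eq_prime (Subtype.ext (Subtype.ext ?_)) hx1⟩
      obtain ⟨b, i, -, hxe⟩ := hEform.1 (hmemP x.2)
      show ((x : C) : GG) ^ 2 = 1
      rw [hxe, sq, elt_sq X hΦ]
    have hα6 : orderOf α ∣ 6 := by
      rw [← Nat.card_zpowers]
      exact Tools.klein_card_dvd_six _
    have hαn : orderOf α ∣ orderOf (n : GG) := by
      rw [Subgroup.orderOf_coe, ← Subgroup.orderOf_mk n hn']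
      exact orderOf_map_dvd _ _
    have hα3 : ¬ 3 ∣ orderOf α := fun h' => h3 (h'.trans (hαn.trans (Subgroup.orderOf_dvd_natCard _ n.2)))
    have hα2 : orderOf α ∣ 2 :=
      ((Nat.Prime.coprime_iff_not_dvd Nat.prime_three).2 hα3).symm.dvd_of_dvd_mul_left
        (by norm_num; exact hα6)
    obtain ⟨N, hN⟩ : ∃ N : Subgroup C, N = Subgroup.normalizer ((P : Subgroup C) : Set C) := ⟨_, rfl⟩
    obtain ⟨r, hr⟩ : ∃ r, r = (P : Subgroup C).relIndex N := ⟨_, rfl⟩
    have hr2 : ¬ 2 ∣ r := fun h' => P.not_dvd_index (hr ▸ h' |>.trans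
      (Subgroup.relIndex_dvd_index_of_le (hN ▸ Subgroup.le_normalizer)))
    have hnr : n ^ r ∈ (P : Subgroup C) := by
      haveI : ((P : Subgroup C).subgroupOf N).Normal := by rw [hN]; infer_instance
      have := Subgroup.pow_index_mem ((P : Subgroup C).subgroupOf N) (⟨n, hN ▸ hn'⟩ : N)
      rw [Subgroup.mem_subgroupOf] at this
      simpa [hr, Subgroup.relIndex] using this
    have hαr : α ^ r = 1 := by
      refine MulEquiv.ext fun x => Subtype.ext ?_
      have hpow : α ^ r = Subgroup.normalizerMonoidHom (P : Subgroup C) (⟨n, hn'⟩ ^ r) := (map_pow _ _ _).symm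
      rw [hpow]
      show n ^ r * (x : C) * (n ^ r)⁻¹ = x
      have hc : Commute ((n ^ r : C) : GG) ((x : C) : GG) :=
        T0_comm X hΦ (hmemT hnr) (hmemT x.2)
      refine Subtype.ext ?_
      rw [Subgroup.coe_mul, Subgroup.coe_mul, Subgroup.coe_inv, hc.eq, mul_inv_cancel_right]
    have hα1 : α = 1 := by
      have h1 := pow_gcd_eq_one.2 ⟨orderOf_dvd_iff_pow_eq_one.1 hα2, hαr⟩
      rwa [Nat.Coprime.gcd_eq_one ((Nat.Prime.coprime_iff_not_dvd Nat.prime_two).2 hr2), pow_one] at h1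
    have h5 : n * e * n⁻¹ = e :=
      congrArg Subtype.val (DFunLike.congr_fun hα1 ⟨e, he⟩ : α ⟨e, he⟩ = ⟨e, he⟩)
    exact (mul_inv_eq_iff_eq_mul.1 h5).symm
  -- the normal complement
  haveI : IsMulCommutative (P : Subgroup C) := ⟨⟨fun a b => by
    exact Subtype.ext (Subtype.ext (T0_comm X hΦ (hmemT a.2) (hmemT b.2)).eq)⟩⟩
  have hcompl := MonoidHom.ker_transferSylow_isComplement' P hPN
  obtain ⟨W, hW⟩ : ∃ W, W = (MonoidHom.transferSylow P hPN).ker := ⟨_, rfl⟩
  haveI hWn : W.Normal := hW ▸ MonoidHom.normal_ker _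
  rw [← hW] at hcompl
  have hWodd : Odd (Nat.card W) := by
    rw [← Nat.not_even_iff_odd, even_iff_two_dvd]
    intro hd
    have h1 := hcompl.card_mul
    have h2 : 2 ^ 3 ∣ Nat.card C := by
      rw [← h1, hP, Nat.card_congr (Subgroup.subgroupOfEquivOfLe hEC).toEquiv, hEcard]
      exact (show (2 : ℕ) ^ 3 = 2 * 4 by norm_num) ▸ mul_dvd_mul_right hd 4
    have := (Nat.Prime.pow_dvd_iff_le_factorization Nat.prime_two Nat.card_pos.ne').1 h2
    omega
  let a : MulAut W := MulAut.conjNormal (⟨_, hjmem⟩ : C)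
  let b : MulAut W := MulAut.conjNormal (⟨_, hwmem⟩ : C)
  have hsq : ∀ (e : C), (e : GG) * (e : GG) = 1 → ∀ x : W,
      MulAut.conjNormal (H := W) e (MulAut.conjNormal (H := W) e x) = x := fun e he x => by
    rw [← MulAut.mul_apply, ← map_mul, show e * e = 1 from Subtype.ext he, map_one, MulAut.one_apply]
  have hjw : Commute (⟨_, hjmem⟩ : C) ⟨_, hwmem⟩ := Subtype.ext (hΦ.comm sw).eq
  have hw2 : Φ sw * Φ sw = 1 := by simpa [elt, qv] using elt_sq X hΦ (false, 1)
  have hfixed : ∀ (e : C) (x : W), MulAut.conjNormal (H := W) e x = x → Commute ((x : C) : GG) (e : GG) := by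
    intro e x hx
    have := congrArg (fun z : W => ((z : C) : GG)) hx
    simp only [MulAut.conjNormal_apply, Subgroup.coe_mul, Subgroup.coe_inv] at this
    exact (mul_inv_eq_iff_eq_mul.1 this).symm
  have hinvol : ∀ e : GG, e ∈ T0 X Φ → e * e = 1 → e ≠ 1 → ∀ x : W,
      Commute ((x : C) : GG) e → Commute ((x : C) : GG) (torusHom X (-1)) := by
    intro e he he2 he1 x hx
    obtain ⟨k, rfl⟩ := involution_conj X hΦ hm he1 he2
    exact habel (hmemC (hT0C he)) (hmemC (x : C).2) (hmemC hjmem) hx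
      (T0_comm X hΦ (j_mem_T0 X hΦ) he)
  have hne : ∀ b' : Bool, elt X Φ (b', 1) ≠ 1 := fun b' e' => by
    have : elt X Φ (b', 1) = elt X Φ (false, 0) := by rw [e']; simp [elt, qv]
    exact absurd (Prod.ext_iff.1 (elt_injective X hΦ this)).2 (by simp)
  have htriv := Tools.four_group hWodd a b (hsq _ (j_sq X hΦ)) (hsq _ hw2)
    (fun x => by
      show MulAut.conjNormal _ (MulAut.conjNormal _ x) = MulAut.conjNormal _ (MulAut.conjNormal _ x)
      rw [← MulAut.mul_apply, ← MulAut.mul_apply, ← map_mul, ← map_mul, hjw.eq])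
    (fun x hx => by
      have h1 := hinvol _ ((mem_T0 X hΦ).2 ⟨sw, (sw_mem_T1 X), Or.inl rfl⟩) hw2
        (by simpa [elt, qv] using hne false) x (hfixed _ x hx)
      refine Subtype.ext (Subtype.ext ?_)
      simp only [a, MulAut.conjNormal_apply, Subgroup.coe_mul, Subgroup.coe_inv]
      rw [← h1.eq, mul_inv_cancel_right])
    (fun x hx => by
      have h0 : MulAut.conjNormal (H := W) ((⟨_, hjmem⟩ : C) * ⟨_, hwmem⟩) x = x := by
        rw [map_mul]; exact hx
      have h1 := hinvol (torusHom X (-1) * Φ sw) ((mem_T0 X hΦ).2 ⟨sw, (sw_mem_T1 X), Or.inr rfl⟩)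
        (by simpa [elt, qv] using elt_sq X hΦ (true, 1)) (by simpa [elt, qv] using hne true) x
        (hfixed _ x h0)
      refine Subtype.ext (Subtype.ext ?_)
      simp only [a, MulAut.conjNormal_apply, Subgroup.coe_mul, Subgroup.coe_inv]
      rw [← h1.eq, mul_inv_cancel_right])
  intro g hg
  obtain ⟨gC, rfl⟩ : ∃ gC : C, (gC : GG) = g := ⟨⟨g, hC ▸ hg⟩, rfl⟩
  obtain ⟨⟨w, e⟩, rfl⟩ := hcompl.2 gC
  obtain ⟨A, hA, rfl⟩ := hh
  refine cent_j_T2 X hΦ hA hodd ?_ (Subgroup.mem_centralizer_singleton_iff.1 hg)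
  show Commute _ (((w : C) : GG) * ((e : C) : GG))
  refine Commute.mul_right ?_ ?_
  · exact (hfixed _ w (htriv w)).symm
  · exact T0_comm X hΦ (j_mem_T0 X hΦ) (hmemT e.2)

theorem cent_T2 (hm : 1 ≤ m) {h : GG} (hh : h ∈ T2 X Φ) {l : ℕ} (hl : l.Prime) (hl2 : l ≠ 2)
    (hlh : l ∣ orderOf h) : Subgroup.centralizer {h} = T0 X Φ := by
  haveI : Fact l.Prime := ⟨hl⟩
  refine le_antisymm ?_ (T0_le_cent X hΦ hh)
  have hl1 : l ∣ Fintype.card K + 1 := by
    rw [← card_T2 X hΦ]
    exact (hlh.trans (Subgroup.orderOf_dvd_natCard _ hh)).mul_left 2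
  obtain ⟨h', hh', ho, hle⟩ : ∃ h' : GG, h' ∈ T2 X Φ ∧ orderOf h' = l ∧
      Subgroup.centralizer {h} ≤ Subgroup.centralizer {h'} := by
    refine ⟨h ^ (orderOf h / l), pow_mem hh _, orderOf_pow_orderOf_div (orderOf_pos h).ne' hlh,
      fun g hg => ?_⟩
    rw [Subgroup.mem_centralizer_singleton_iff] at hg ⊢
    exact (show Commute g h from hg).pow_right _
  exact hle.trans (cent_prime X hΦ hm hl2 hl1 hh' ho).le

end Cfsg.Agent.Ree
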