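import Cfsg.Agent.Lib.Ree.Tori
import Cfsg.Agent.Lib.Ree.Rep
import Mathlib.GroupTheory.SpecificGroups.Cyclic

/-!
The normaliser of the torus of order `q + 1` of the small Ree groups, and the odd part of that
torus.
-/

set_option autoImplicit false
set_option linter.unusedSectionVars false
set_option linter.style.haveILetI false

open scoped Matrix Pointwise MatrixGroups

namespace Cfsg.Agent.Ree

open Cfsg.Lie Cfsg.Agent.Chevalley Cfsg.Agent.Chevalley.Cert Cfsg.Agent.Chevalley.Group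
  Cfsg.Agent.Chevalley.Twist Cfsg.Agent.Chevalley.Twist.G2 Cfsg.Agent.Chevalley.SL2

variable {K : Type*} [Field K] [Fintype K] [CharP K 3] {m : ℕ}

local notation "GG" => twistedG2 K (3 ^ m)

variable {hK : Fintype.card K = 3 ^ (2 * m + 1)} (X : Setup (K := K) hK)
variable {Φ : SL(2, K) →* ↥(twistedG2 K (3 ^ m))} (hΦ : IsEmbed X Φ)
include hΦ

/-- A generator of the compact torus. -/
noncomputable def t2gen : GG :=
  ((Classical.choose (isCyclic_T2 X hΦ).exists_generator : T2 X Φ) : GG)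

theorem mem_T2_iff {x : GG} : x ∈ T2 X Φ ↔ ∃ i : ℤ, t2gen X hΦ ^ i = x := by
  constructor
  · intro hx
    obtain ⟨i, hi⟩ := Subgroup.mem_zpowers_iff.1
      (Classical.choose_spec (isCyclic_T2 X hΦ).exists_generator ⟨x, hx⟩)
    exact ⟨i, by rw [t2gen, ← Subgroup.coe_zpow, hi]⟩
  · rintro ⟨i, rfl⟩
    exact zpow_mem (Classical.choose (isCyclic_T2 X hΦ).exists_generator : T2 X Φ).2 i

theorem orderOf_t2gen : 2 * orderOf (t2gen X hΦ) = Fintype.card K + 1 := by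
  rw [t2gen, Subgroup.orderOf_coe, orderOf_eq_card_of_forall_mem_zpowers
    (Classical.choose_spec (isCyclic_T2 X hΦ).exists_generator), card_T2 X hΦ]

/-- The odd part of the compact torus. -/
noncomputable def A0 : Subgroup GG := Subgroup.zpowers (t2gen X hΦ ^ 2)

theorem A0_le_T2 : A0 X hΦ ≤ T2 X Φ :=
  Subgroup.zpowers_le.2 (pow_mem ((mem_T2_iff X hΦ).2 ⟨1, zpow_one _⟩) 2)

theorem A0_le_T0 : A0 X hΦ ≤ T0 X Φ := (A0_le_T2 X hΦ).trans le_sup_right

instance isCyclic_A0 : IsCyclic (A0 X hΦ) := by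
  unfold A0
  infer_instance

theorem card_A0 : Nat.card (A0 X hΦ) = (Fintype.card K + 1) / 4 ∧
    Odd ((Fintype.card K + 1) / 4) ∧ 4 ∣ Fintype.card K + 1 := by
  obtain ⟨c, hc⟩ := q_form X
  have h1 := orderOf_t2gen X hΦ
  refine ⟨?_, ⟨c, by omega⟩, ⟨2 * c + 1, by omega⟩⟩
  have h2 : orderOf (t2gen X hΦ) = 2 * (2 * c + 1) := by omega
  rw [A0, Nat.card_zpowers, orderOf_pow' _ two_ne_zero, h2, Nat.gcd_mul_right_left]
  omega

theorem A0_odd : Odd (Nat.card (A0 X hΦ)) := by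
  rw [(card_A0 X hΦ).1]
  exact (card_A0 X hΦ).2.1

theorem sq_mem_A0 {x : GG} (hx : x ∈ T0 X Φ) : x * x ∈ A0 X hΦ := by
  obtain ⟨b, a, ha, rfl⟩ := T0_form X hΦ hx
  have h1 : (if b then torusHom X (-1) else 1) * (if b then torusHom X (-1) else (1 : GG)) = 1 := by
    cases b
    · simp
    · simpa using j_sq X hΦ
  have hc : Commute (if b then torusHom X (-1) else (1 : GG)) a := by
    obtain ⟨A, -, rfl⟩ := ha
    exact commT0 X (hΦ.comm A)
  rw [hc.symm.mul_mul_mul_comm, h1, one_mul]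
  obtain ⟨i, rfl⟩ := (mem_T2_iff X hΦ).1 ha
  refine Subgroup.mem_zpowers_iff.2 ⟨i, ?_⟩
  rw [← zpow_natCast, ← zpow_mul, ← zpow_add]
  congr 1
  push_cast
  ring

theorem pow_card_A0 {x : GG} (hx : x ∈ T0 X Φ) : x ^ ((Fintype.card K + 1) / 2) = 1 := by
  obtain ⟨c, hc⟩ := q_form X
  have h1 : (Fintype.card K + 1) / 2 = 2 * ((Fintype.card K + 1) / 4) := by omega
  rw [h1, pow_mul, sq, ← (card_A0 X hΦ).1, ← orderOf_dvd_iff_pow_eq_one]
  exact Subgroup.orderOf_dvd_natCard _ (sq_mem_A0 X hΦ hx)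

theorem mem_A0_of_odd {x : GG} (hx : x ∈ T0 X Φ) (h : Odd (orderOf x)) : x ∈ A0 X hΦ := by
  obtain ⟨k, hk⟩ := h
  have : x ^ (k + 1) * x ^ (k + 1) = x := by
    rw [← pow_add, show k + 1 + (k + 1) = orderOf x + 1 by omega, pow_succ, pow_orderOf_eq_one,
      one_mul]
  rw [← this]
  exact sq_mem_A0 X hΦ (pow_mem hx _)

theorem cent_A0 (hm : 1 ≤ m) {x : GG} (hx : x ∈ A0 X hΦ) (h1 : x ≠ 1) :
    Subgroup.centralizer {x} = T0 X Φ := by
  have ho : orderOf x ≠ 1 := fun e => h1 (orderOf_eq_one_iff.1 e)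
  obtain ⟨l, hl, hlx⟩ := Nat.exists_prime_and_dvd ho
  refine cent_T2 X hΦ hm (A0_le_T2 X hΦ hx) hl (fun e => ?_) hlx
  subst e
  exact (Nat.not_even_iff_odd.2 (A0_odd X hΦ))
    (even_iff_two_dvd.2 (hlx.trans (Subgroup.orderOf_dvd_natCard _ hx)))

theorem cent_T0_reg (hm : 1 ≤ m) {x : GG} (hx : x ∈ T0 X Φ) (h1 : x * x ≠ 1) :
    Subgroup.centralizer {x} = T0 X Φ := by
  refine le_antisymm (fun g hg => ?_) (fun g hg =>
    Subgroup.mem_centralizer_singleton_iff.2 (T0_comm X hΦ hg hx).eq)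
  rw [← cent_A0 X hΦ hm (sq_mem_A0 X hΦ hx) h1]
  have hc : Commute g x := Subgroup.mem_centralizer_singleton_iff.1 hg
  exact Subgroup.mem_centralizer_singleton_iff.2 (hc.mul_right hc).eq

theorem exists_A0_ne (hm : 1 ≤ m) : ∃ l : ℕ, l.Prime ∧ l ≠ 2 ∧ l ∣ Fintype.card K + 1 ∧
    ∃ x ∈ A0 X hΦ, orderOf x = l := by
  have h27 := twenty_seven_le X hm
  obtain ⟨h1, h2, -⟩ := card_A0 X hΦ
  have hA : Nat.card (A0 X hΦ) ≠ 1 := by omega
  obtain ⟨l, hl, hld⟩ := Nat.exists_prime_and_dvd hA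
  haveI : Fact l.Prime := ⟨hl⟩
  obtain ⟨⟨x, hx⟩, hxo⟩ := exists_prime_orderOf_dvd_card' (G := A0 X hΦ) l hld
  rw [Subgroup.orderOf_mk] at hxo
  refine ⟨l, hl, fun e => ?_, ?_, x, hx, hxo⟩
  · subst e
    exact (Nat.not_even_iff_odd.2 (A0_odd X hΦ)) (even_iff_two_dvd.2 hld)
  · rw [h1] at hld
    exact hld.trans (Nat.div_dvd_of_dvd (card_A0 X hΦ).2.2)

/-- The normaliser of the torus of order `q + 1`. -/
abbrev N0 (_hΦ : IsEmbed X Φ) : Subgroup GG := Subgroup.normalizer (T0 X Φ : Set GG)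

theorem conj_T0_eq {g x : GG} (hx : Subgroup.centralizer {x} = T0 X Φ)
    (hgx : Subgroup.centralizer {g * x * g⁻¹} = T0 X Φ) : g ∈ N0 X hΦ :=
  Tools.mem_normalizer_of_maps fun z hz => by
    rw [← hgx, Tools.mem_cent_conj, show g⁻¹ * (g * z * g⁻¹) * g = z by group, hx]
    exact hz

theorem A0_invariant {g : GG} (hg : g ∈ N0 X hΦ) {x : GG} (hx : x ∈ A0 X hΦ) :
    g * x * g⁻¹ ∈ A0 X hΦ := by
  refine mem_A0_of_odd X hΦ ((Subgroup.mem_normalizer_iff.1 hg x).1 (A0_le_T0 X hΦ hx)) ?_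
  have : orderOf (g * x * g⁻¹) = orderOf x := by
    simpa using orderOf_conj X g⁻¹ x
  rw [this]
  exact Odd.of_dvd_nat (A0_odd X hΦ) (Subgroup.orderOf_dvd_natCard _ hx)

theorem norm_A0 (hm : 1 ≤ m) {A : Subgroup GG} (hA : A ≤ A0 X hΦ) (hA1 : A ≠ ⊥) :
    Subgroup.normalizer (A : Set GG) = N0 X hΦ := by
  refine le_antisymm (fun g hg => ?_) (fun g hg => Tools.mem_normalizer_of_maps fun x hx => ?_)
  · obtain ⟨x, hx, hx1⟩ := (Subgroup.bot_or_exists_ne_one A).resolve_left hA1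
    exact conj_T0_eq X hΦ (cent_A0 X hΦ hm (hA hx) hx1) (cent_A0 X hΦ hm
      (hA ((Subgroup.mem_normalizer_iff.1 hg x).1 hx)) (by simpa using hx1))
  · refine Tools.mem_of_pow_eq_one hA (A0_invariant X hΦ hg (hA hx)) ?_
    have h1 : x ^ Nat.card A = 1 := congrArg Subtype.val (pow_card_eq_one' (x := (⟨x, hx⟩ : A)))
    rw [conj_pow, h1]
    simp

/-! ### The centraliser of the four group -/

theorem sw_four : Φ sw * Φ sw = 1 ∧ Φ sw ≠ 1 := by
  refine ⟨by simpa [elt, qv] using elt_sq X hΦ (false, 1), fun e => ?_⟩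
  have : elt X Φ (false, 1) = elt X Φ (false, 0) := by simp [elt, qv, e]
  exact absurd (Prod.ext_iff.1 (elt_injective X hΦ this)).2 (by simp)

/-- The centraliser of the four group in the torus. -/
abbrev M0 (_hΦ : IsEmbed X Φ) : Subgroup GG :=
  Subgroup.centralizer {torusHom X (-1), Φ sw}

theorem mem_M0 {g : GG} : g ∈ M0 X hΦ ↔ Commute (torusHom X (-1)) g ∧ Commute (Φ sw) g := by
  simp [Subgroup.mem_centralizer_iff, Commute, SemiconjBy]

theorem qM_conj_T1 {B : SL(2, K)} (hB : B * sw = -(sw * B)) : (qM : SL(2, K)) * B ∈ T1 K := by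
  have hq : (qM : SL(2, K)) * sw = -(sw * qM) := by
    have h3 := three (K := K)
    ext a b
    fin_cases a <;> fin_cases b <;> simp [Matrix.mul_apply, Fin.sum_univ_two]
  refine Subgroup.mem_centralizer_singleton_iff.2 ?_
  rw [mul_assoc, hB, mul_neg, ← mul_assoc, hq, neg_mul, neg_neg, mul_assoc]

theorem qM_sw_comm : Commute (Φ qM) (Φ sw) := by
  simpa [qv] using phi_qv_comm X hΦ 2 1

theorem qM_not_T0 : Φ qM ∉ T0 X Φ := by
  intro h
  have hsq : Φ qM * Φ qM = 1 := by simpa [elt, qv] using elt_sq X hΦ (false, 2)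
  obtain ⟨b, i, hi, e⟩ := T0_involutions X hΦ h hsq
  have : elt X Φ (false, 2) = elt X Φ (b, i) := by simpa [elt, qv] using e
  have := (Prod.ext_iff.1 (elt_injective X hΦ this)).2
  rcases hi with rfl | rfl <;> simp at this

theorem T0_le_M0 : T0 X Φ ≤ M0 X hΦ := fun g hg => (mem_M0 X hΦ).2
  ⟨T0_comm X hΦ (j_mem_T0 X hΦ) hg,
    T0_comm X hΦ ((mem_T0 X hΦ).2 ⟨sw, sw_mem_T1 X, Or.inl rfl⟩) hg⟩

theorem M0_form {g : GG} (hg : g ∈ M0 X hΦ) : g ∈ T0 X Φ ∨ Φ qM * g ∈ T0 X Φ := by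
  obtain ⟨hj, hw⟩ := (mem_M0 X hΦ).1 hg
  obtain ⟨B, hB⟩ := cent_decomp X hΦ hj
  have hwB : Φ (B * sw) = Φ (sw * B) := by
    rw [map_mul, map_mul]
    rcases hB with rfl | rfl
    · exact hw.eq.symm
    · have h1 := hw.eq
      rw [← mul_assoc, ← (hΦ.comm sw).eq, mul_assoc, mul_assoc] at h1
      exact (mul_left_cancel h1).symm
  rcases phi_eq X hΦ hwB with e | e
  · exact Or.inl ((mem_T0 X hΦ).2 ⟨B, Subgroup.mem_centralizer_singleton_iff.2 e, hB⟩)
  · refine Or.inr ((mem_T0 X hΦ).2 ⟨qM * B, qM_conj_T1 X hΦ e, ?_⟩)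
    rcases hB with rfl | rfl
    · exact Or.inl (map_mul _ _ _).symm
    · exact Or.inr (by rw [map_mul, ← mul_assoc, ← (hΦ.comm qM).eq, mul_assoc])

theorem qM_mem_M0 : Φ qM ∈ M0 X hΦ := (mem_M0 X hΦ).2 ⟨hΦ.comm _, (qM_sw_comm X hΦ).symm⟩

theorem card_M0 : Nat.card (M0 X hΦ) = 2 * (Fintype.card K + 1) := by
  classical
  let f : Bool × T0 X Φ → M0 X hΦ := fun p =>
    ⟨(if p.1 then Φ qM else 1) * p.2, by
      refine mul_mem ?_ (T0_le_M0 X hΦ p.2.2)
      cases p.1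
      · exact one_mem _
      · exact qM_mem_M0 X hΦ⟩
  have hf : Function.Bijective f := by
    constructor
    · have hne : ∀ a ∈ T0 X Φ, ∀ b ∈ T0 X Φ, Φ qM * a ≠ b := fun a ha b hb e =>
        qM_not_T0 X hΦ (by rw [eq_mul_inv_of_mul_eq e]; exact mul_mem hb (inv_mem ha))
      rintro ⟨b, x⟩ ⟨c, y⟩ h
      have h' := congrArg Subtype.val h
      cases b <;> cases c <;> simp only [f, Bool.false_eq_true, ↓reduceIte, one_mul] at h'
      · rw [Subtype.ext h']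
      · exact absurd h'.symm (hne _ y.2 _ x.2)
      · exact absurd h' (hne _ x.2 _ y.2)
      · rw [Subtype.ext (mul_left_cancel h')]
    · rintro ⟨g, hg⟩
      rcases M0_form X hΦ hg with h | h
      · exact ⟨(false, ⟨g, h⟩), Subtype.ext (by simp [f])⟩
      · refine ⟨(true, ⟨_, h⟩), Subtype.ext ?_⟩
        have hsq : Φ qM * Φ qM = 1 := by simpa [elt, qv] using elt_sq X hΦ (false, 2)
        simp [f, ← mul_assoc, hsq]
  rw [← Nat.card_eq_of_bijective f hf, Nat.card_prod, Nat.card_eq_fintype_card, Fintype.card_bool,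
    card_T0 X hΦ]

theorem M0_le_N0 : M0 X hΦ ≤ N0 X hΦ := by
  intro g hg
  refine Tools.mem_normalizer_of_maps fun z hz => ?_
  rcases M0_form X hΦ (mul_mem (mul_mem hg (T0_le_M0 X hΦ hz)) (inv_mem hg)) with h | h
  · exact h
  · exfalso
    rcases M0_form X hΦ hg with hg' | hg'
    · refine qM_not_T0 X hΦ ?_
      have := mul_mem h (inv_mem (mul_mem (mul_mem hg' hz) (inv_mem hg')))
      simpa [mul_assoc] using this
    · refine qM_not_T0 X hΦ ?_
      have e : Φ qM = (Φ qM * g * z * (Φ qM * g)⁻¹)⁻¹ * (Φ qM * (g * z * g⁻¹)) := by group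
      rw [e]
      exact mul_mem (inv_mem (mul_mem (mul_mem hg' hz) (inv_mem hg'))) h

theorem E_invol {e : GG} (he : e ∈ T0 X Φ) (he2 : e * e = 1) :
    e = 1 ∨ e = torusHom X (-1) ∨ e = Φ sw ∨ e = torusHom X (-1) * Φ sw := by
  obtain ⟨b, i, hi, rfl⟩ := T0_involutions X hΦ he he2
  rcases hi with rfl | rfl <;> cases b <;> simp [elt, qv]

theorem N0_transitive (hm : 1 ≤ m) {e : GG} (he : e ∈ T0 X Φ) (he2 : e * e = 1) (he1 : e ≠ 1) :
    ∃ n ∈ N0 X hΦ, n * torusHom X (-1) * n⁻¹ = e := by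
  obtain ⟨l, hl, hl2, hl1, x, hx, hxo⟩ := exists_A0_ne X hΦ hm
  haveI : Fact l.Prime := ⟨hl⟩
  obtain ⟨k, rfl⟩ := involution_conj X hΦ hm he1 he2
  have hj : Commute (torusHom X (-1)) (k⁻¹ * x * k) := by
    have := (T0_comm X hΦ he (A0_le_T0 X hΦ hx)).map (MulAut.conj k⁻¹).toMonoidHom
    simpa [mul_assoc] using this
  obtain ⟨c, hc, hy⟩ := (prime_conj X hΦ hl2 hl1
    (by rw [← hxo, ← orderOf_conj X k x, pow_orderOf_eq_one])).2 hj
  have hx1 : x ≠ 1 := fun e => by rw [e, orderOf_one] at hxo; exact hl.ne_one hxo.symm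
  have hyc := cent_T2 X hΦ hm hy hl hl2 (by rw [orderOf_conj X, orderOf_conj X, hxo])
  refine ⟨k * c, conj_T0_eq X hΦ hyc ?_, ?_⟩
  · rw [show k * c * (c⁻¹ * (k⁻¹ * x * k) * c) * (k * c)⁻¹ = x by group]
    exact cent_A0 X hΦ hm hx hx1
  · rw [show k * c * torusHom X (-1) * (k * c)⁻¹ = k * (c * torusHom X (-1) * c⁻¹) * k⁻¹ by group,
      ← hc.eq, mul_inv_cancel_right]

theorem N0_cent_j {g : GG} (hg : g ∈ N0 X hΦ) (hj : Commute (torusHom X (-1)) g) : g ∈ M0 X hΦ := by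
  refine (mem_M0 X hΦ).2 ⟨hj, ?_⟩
  have hw : Φ sw ∈ T0 X Φ := (mem_T0 X hΦ).2 ⟨sw, sw_mem_T1 X, Or.inl rfl⟩
  have h2 : (g * Φ sw * g⁻¹) * (g * Φ sw * g⁻¹) = 1 := by
    calc (g * Φ sw * g⁻¹) * (g * Φ sw * g⁻¹) = g * (Φ sw * Φ sw) * g⁻¹ := by group
      _ = 1 := by rw [(sw_four X hΦ).1]; group
  obtain ⟨B, hB⟩ := cent_decomp X hΦ hj
  have hgw : g * Φ sw * g⁻¹ = Φ (B * sw * B⁻¹) := by
    rw [map_mul, map_mul, map_inv]
    rcases hB with rfl | rfl
    · rfl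
    · rw [mul_inv_rev, ← mul_assoc, mul_assoc (torusHom X (-1)) (Φ B), mul_assoc (torusHom X (-1)),
        ← map_inv Φ, ← map_mul, ← map_mul, (hΦ.comm _).eq, mul_inv_cancel_right]
  rcases E_invol X hΦ ((Subgroup.mem_normalizer_iff.1 hg _).1 hw) h2 with e | e | e | e
  · exact absurd (by simpa using e) (sw_four X hΦ).2
  · exact absurd (hgw.symm.trans e) (phi_ne_j X hΦ _)
  · exact (mul_inv_eq_iff_eq_mul.1 e).symm
  · rw [hgw] at e
    exact absurd (by rw [map_mul, map_inv, e, mul_inv_cancel_right])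
      (phi_ne_j X hΦ (B * sw * B⁻¹ * (sw : SL(2, K))⁻¹))

theorem card_N0 (hm : 1 ≤ m) : Nat.card (N0 X hΦ) = 6 * (Fintype.card K + 1) := by
  classical
  let e : Fin 3 → GG := ![torusHom X (-1), Φ sw, torusHom X (-1) * Φ sw]
  have hw : Φ sw ∈ T0 X Φ := (mem_T0 X hΦ).2 ⟨sw, sw_mem_T1 X, Or.inl rfl⟩
  have he : ∀ i, e i ∈ T0 X Φ ∧ e i * e i = 1 ∧ e i ≠ 1 := by
    have hne : torusHom X (-1) ≠ Φ sw := fun h => phi_ne_j X hΦ sw h.symm
    intro i
    fin_cases i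
    · exact ⟨j_mem_T0 X hΦ, j_sq X hΦ, fun h => phi_ne_j X hΦ 1 (by rw [map_one]; exact h.symm)⟩
    · exact ⟨hw, (sw_four X hΦ).1, (sw_four X hΦ).2⟩
    · refine ⟨mul_mem (j_mem_T0 X hΦ) hw, by simpa [e, elt, qv] using elt_sq X hΦ (true, 1), fun h => hne ?_⟩
      calc torusHom X (-1) = torusHom X (-1) * Φ sw * Φ sw := by rw [mul_assoc, (sw_four X hΦ).1, mul_one]
        _ = Φ sw := by rw [show torusHom X (-1) * Φ sw = 1 from h, one_mul]
  have hei : Function.Injective e := by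
    have h1 : torusHom X (-1) ≠ Φ sw := fun h => phi_ne_j X hΦ sw h.symm
    have h2 : torusHom X (-1) * Φ sw ≠ torusHom X (-1) := fun h =>
      (sw_four X hΦ).2 (mul_left_cancel (h.trans (mul_one _).symm))
    have h3 : torusHom X (-1) * Φ sw ≠ Φ sw := fun h =>
      phi_ne_j X hΦ 1 (by rw [map_one]; exact (mul_eq_right.1 h).symm)
    intro i j h
    fin_cases i <;> fin_cases j <;>
      first
        | rfl
        | exact absurd h h1
        | exact absurd h.symm h1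
        | exact absurd h h2
        | exact absurd h.symm h2
        | exact absurd h h3
        | exact absurd h.symm h3
  choose k hk hke using fun i => N0_transitive X hΦ hm (he i).1 (he i).2.1 (he i).2.2
  let f : Fin 3 × M0 X hΦ → N0 X hΦ := fun p =>
    ⟨k p.1 * p.2, mul_mem (hk p.1) (M0_le_N0 X hΦ p.2.2)⟩
  have hf : Function.Bijective f := by
    constructor
    · rintro ⟨i, x⟩ ⟨i', x'⟩ h
      have h' : k i * (x : GG) = k i' * x' := congrArg Subtype.val h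
      have hc : ∀ (i : Fin 3) (x : M0 X hΦ),
          k i * (x : GG) * torusHom X (-1) * (k i * (x : GG))⁻¹ = e i := fun i x => by
        rw [show k i * (x : GG) * torusHom X (-1) * (k i * (x : GG))⁻¹ =
          k i * ((x : GG) * torusHom X (-1) * (x : GG)⁻¹) * (k i)⁻¹ by group,
          ← ((mem_M0 X hΦ).1 x.2).1.eq, mul_inv_cancel_right, hke]
      obtain rfl : i = i' := hei (by rw [← hc i x, h', hc])
      rw [Subtype.ext (mul_left_cancel h')]
    · rintro ⟨g, hg⟩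
      have h2 : (g * torusHom X (-1) * g⁻¹) * (g * torusHom X (-1) * g⁻¹) = 1 := by
        calc _ = g * (torusHom X (-1) * torusHom X (-1)) * g⁻¹ := by group
          _ = 1 := by rw [j_sq X hΦ]; group
      obtain ⟨i, hi⟩ : ∃ i, e i = g * torusHom X (-1) * g⁻¹ := by
        rcases E_invol X hΦ ((Subgroup.mem_normalizer_iff.1 hg _).1 (j_mem_T0 X hΦ)) h2 with h | h | h | h
        · exact absurd (show torusHom X (-1) = 1 by simpa using h) (he 0).2.2
        · exact ⟨0, h.symm⟩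
        · exact ⟨1, h.symm⟩
        · exact ⟨2, h.symm⟩
      refine ⟨(i, ⟨(k i)⁻¹ * g, N0_cent_j X hΦ (mul_mem (inv_mem (hk i)) hg) ?_⟩),
        Subtype.ext (mul_inv_cancel_left _ _)⟩
      have e1 : (k i)⁻¹ * g * torusHom X (-1) * ((k i)⁻¹ * g)⁻¹ = torusHom X (-1) := by
        rw [show (k i)⁻¹ * g * torusHom X (-1) * ((k i)⁻¹ * g)⁻¹ =
          (k i)⁻¹ * (g * torusHom X (-1) * g⁻¹) * k i by group, ← hi, ← hke]
        group
      exact (mul_inv_eq_iff_eq_mul.1 e1).symm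
  rw [← Nat.card_eq_of_bijective f hf, Nat.card_prod, Nat.card_fin, card_M0 X hΦ]
  ring

/-- The normaliser of the four group normalises the odd part of the torus. -/
theorem norm_four (hm : 1 ≤ m) {g : GG}
    (hj : g * torusHom X (-1) * g⁻¹ ∈ T0 X Φ) (hw : g * Φ sw * g⁻¹ ∈ T0 X Φ) :
    g ∈ N0 X hΦ := by
  rw [← norm_A0 X hΦ hm le_rfl (fun h => by
    have h1 := (card_A0 X hΦ).1
    rw [h, Subgroup.card_bot] at h1
    have := twenty_seven_le X hm
    omega)]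
  have hodd : ∀ y ∈ M0 X hΦ, Odd (orderOf y) → y ∈ A0 X hΦ := by
    intro y hy hyo
    refine mem_A0_of_odd X hΦ ?_ hyo
    rcases M0_form X hΦ hy with h | h
    · exact h
    · exfalso
      have h2 : y * y ∈ T0 X Φ := by
        have hn := (Subgroup.mem_normalizer_iff.1 (M0_le_N0 X hΦ (qM_mem_M0 X hΦ)) _).1 h
        have hsq : Φ qM * Φ qM = 1 := by simpa [elt, qv] using elt_sq X hΦ (false, 2)
        have hinv := inv_eq_of_mul_eq_one_right hsq
        have := mul_mem hn h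
        rwa [show Φ qM * (Φ qM * y) * (Φ qM)⁻¹ * (Φ qM * y) = y * y by
          rw [hinv, ← mul_assoc (Φ qM) (Φ qM) y, hsq, one_mul, mul_assoc, ← mul_assoc (Φ qM), hsq,
            one_mul]] at this
      obtain ⟨k, hk⟩ := hyo
      have hyT : y ∈ T0 X Φ := by
        have : (y * y) ^ (k + 1) = y := by
          rw [← sq, ← pow_mul, show 2 * (k + 1) = orderOf y + 1 by omega, pow_succ,
            pow_orderOf_eq_one, one_mul]
        exact this ▸ pow_mem h2 _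
      exact qM_not_T0 X hΦ ((mul_mem_cancel_right hyT).1 h)
  refine Tools.mem_normalizer_of_maps fun x hx => hodd _ ((mem_M0 X hΦ).2 ?_) ?_
  · -- the inverse image of the four group
    have key : ∀ e : GG, e ∈ T0 X Φ → Commute e x := fun e he => T0_comm X hΦ he (A0_le_T0 X hΦ hx)
    have himg : ∀ e : GG, e ∈ T0 X Φ → e * e = 1 →
        ∃ e₀ ∈ T0 X Φ, g * e₀ * g⁻¹ = e := by
      intro e he he2
      let S : Fin 4 → GG := ![1, torusHom X (-1), Φ sw, torusHom X (-1) * Φ sw]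
      have hS : ∀ i, S i ∈ T0 X Φ ∧ S i * S i = 1 ∧ g * S i * g⁻¹ ∈ T0 X Φ := by
        have hw' : Φ sw ∈ T0 X Φ := (mem_T0 X hΦ).2 ⟨sw, sw_mem_T1 X, Or.inl rfl⟩
        intro i
        fin_cases i
        · exact ⟨one_mem _, one_mul 1, by simp [S, one_mem]⟩
        · exact ⟨j_mem_T0 X hΦ, j_sq X hΦ, hj⟩
        · exact ⟨hw', (sw_four X hΦ).1, hw⟩
        · refine ⟨mul_mem (j_mem_T0 X hΦ) hw', by simpa [S, elt, qv] using elt_sq X hΦ (true, 1), ?_⟩
          have := mul_mem hj hw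
          simpa [S, mul_assoc] using this
      let EE := {e : GG // e ∈ T0 X Φ ∧ e * e = 1}
      let f : EE → EE := fun e => ⟨g * e.1 * g⁻¹, by
        obtain ⟨i, hi⟩ : ∃ i, S i = e.1 := by
          rcases E_invol X hΦ e.2.1 e.2.2 with h | h | h | h
          · exact ⟨0, h.symm⟩
          · exact ⟨1, h.symm⟩
          · exact ⟨2, h.symm⟩
          · exact ⟨3, h.symm⟩
        refine ⟨hi ▸ (hS i).2.2, ?_⟩
        calc _ = g * (e.1 * e.1) * g⁻¹ := by group
          _ = 1 := by rw [e.2.2]; group⟩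
      have hinj : Function.Injective f := fun a b h => by
        have h' := congrArg Subtype.val h
        exact Subtype.ext (mul_left_cancel (mul_right_cancel h'))
      obtain ⟨e₀, h0⟩ := Finite.surjective_of_injective hinj ⟨e, he, he2⟩
      exact ⟨e₀.1, e₀.2.1, congrArg Subtype.val h0⟩
    constructor
    · obtain ⟨e₀, he, h⟩ := himg _ (j_mem_T0 X hΦ) (j_sq X hΦ)
      rw [← h]
      simpa using (key e₀ he).map (MulAut.conj g).toMonoidHom
    · obtain ⟨e₀, he, h⟩ := himg _ ((mem_T0 X hΦ).2 ⟨sw, sw_mem_T1 X, Or.inl rfl⟩) (sw_four X hΦ).1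
      rw [← h]
      simpa using (key e₀ he).map (MulAut.conj g).toMonoidHom
  · have : orderOf (g * x * g⁻¹) = orderOf x := by simpa using orderOf_conj X g⁻¹ x
    rw [this]
    exact Odd.of_dvd_nat (A0_odd X hΦ) (Subgroup.orderOf_dvd_natCard _ hx)

end Cfsg.Agent.Ree
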