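import Cfsg.Agent.Lib.Ree.Aut

/-!
The small Ree groups are generated by two elements: a generator of the torus and a unipotent element
times the element exchanging the standard cosets.
-/

set_option autoImplicit false
set_option linter.unusedSectionVars false

namespace Cfsg.Agent.Ree

open Cfsg.Lie Cfsg.Agent.Chevalley Cfsg.Agent.Chevalley.Twist Cfsg.Agent.Chevalley.Twist.G2

variable {K : Type*} [Field K] [Fintype K] [CharP K 3] {m : ℕ}

local notation "GG" => twistedG2 K (3 ^ m)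

variable {hK : Fintype.card K = 3 ^ (2 * m + 1)} (X : Setup (K := K) hK)
include X

theorem mem_of_bor_parts {H : Subgroup GG} (hU : ∀ p, uu X p ∈ H) (hT : ∀ x, torusHom X x ∈ H)
    (hn : nn X ∈ H) : H = ⊤ := by
  rw [eq_top_iff]
  rintro g -
  have hB : ∀ b ∈ bor X, b ∈ H := fun b hb => by
    obtain ⟨p, x, rfl⟩ := bor_decomp X hb
    exact mul_mem (hU p) (hT x)
  rcases coset_cases X ((g : GG) : GG ⧸ bor X) with h | ⟨p, h⟩
  · rw [eq_comm, QuotientGroup.eq, inv_one, one_mul] at h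
    exact hB g h
  · rw [eq_comm, QuotientGroup.eq] at h
    have h1 := mul_mem (mul_mem (hU p) hn) (hB _ h)
    rwa [mul_inv_cancel_left] at h1

theorem uu_all {H : Subgroup GG} (hT : ∀ x, torusHom X x ∈ H) (hm : 1 ≤ m) {t₀ u₀ v₀ : K}
    (ht₀ : t₀ ≠ 0) (h₀ : uu X (t₀, u₀, v₀) ∈ H) : ∀ p, uu X p ∈ H := by
  have conj : ∀ (x : Kˣ) (t u v : K), uu X (t, u, v) ∈ H →
      uu X (a6 m x * t, a10 m x * u, (x : K) * v) ∈ H := fun x t u v h => by
    rw [← tor_uu X x]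
    exact mul_mem (mul_mem (hT x) h) (inv_mem (hT x))
  have h1 : ∀ t, ∃ u v, uu X (t, u, v) ∈ H := by
    intro t
    by_cases ht : t = 0
    · exact ⟨0, 0, by rw [ht, uu_zero X]; exact one_mem H⟩
    · obtain ⟨x, hx⟩ := exists_a6 X (div_ne_zero ht ht₀)
      have h := conj x t₀ u₀ v₀ h₀
      rw [hx, div_mul_cancel₀ t ht₀] at h
      exact ⟨_, _, h⟩
  have h3 : ∀ v, uu X (0, 0, v) ∈ H := by
    intro v
    obtain ⟨t, rfl⟩ := exists_cube X v
    obtain ⟨u, v', h⟩ := h1 t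
    rw [← uu_cube X t u v']
    exact pow_mem h 3
  obtain ⟨d, e, hd, hde⟩ : ∃ d e, d ≠ 0 ∧ uu X (0, d, e) ∈ H := by
    obtain ⟨s, hs⟩ := exists_sq_ne X hm
    obtain ⟨u, v, hA⟩ := h1 1
    obtain ⟨u', v', hB⟩ := h1 (s : K)
    obtain ⟨C, hC⟩ : ∃ C, C = uu X (1, u, v) * uu X ((s : K), u', v') *
      (uu X (1, u, v))⁻¹ * (uu X ((s : K), u', v'))⁻¹ := ⟨_, rfl⟩
    have hCH : C ∈ H := hC ▸ mul_mem (mul_mem (mul_mem hA hB) (inv_mem hA)) (inv_mem hB)
    obtain ⟨c, d, e, rfl⟩ : ∃ c d e, C = uu X (c, d, e) := mem_UB X (hC ▸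
      mul_mem (mul_mem (mul_mem (uu_mem X _) (uu_mem X _)) (inv_mem (uu_mem X _)))
        (inv_mem (uu_mem X _)))
    have e1 : uu X (c, d, e) * (uu X ((s : K), u', v') * uu X (1, u, v)) =
        uu X (1, u, v) * uu X ((s : K), u', v') := by rw [hC]; group
    rw [uu_mul, uu_mul, uu_mul] at e1
    obtain ⟨e2, e3, -⟩ := uu_inj X e1
    obtain rfl : c = 0 := by linear_combination e2
    refine ⟨d, e, fun h0 => hs (a10_triv X ?_), hCH⟩
    rw [h0, mul_zero, sub_zero, TT_one, one_mul] at e3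
    rw [a10_eq, show TT m (s : K) = (s : K) by linear_combination e3, mul_inv_cancel₀ s.ne_zero]
  have h2 : ∀ u, ∃ v, uu X (0, u, v) ∈ H := by
    intro u
    by_cases hu : u = 0
    · exact ⟨0, hu ▸ h3 0⟩
    · obtain ⟨x, hx⟩ := exists_second X (div_ne_zero hu hd)
      have h := conj x 0 d e hde
      rw [mul_zero] at h
      rcases hx with hx | hx
      · rw [hx, div_mul_cancel₀ u hd] at h
        exact ⟨_, h⟩
      · rw [hx, neg_mul, div_mul_cancel₀ u hd] at h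
        have e1 : uu X (0, u, -((x : K) * e)) * uu X (0, -u, (x : K) * e) = 1 := by
          rw [uu_mul, ← uu_zero X, TT_zero]
          congr 1
          simp
        refine ⟨-((x : K) * e), ?_⟩
        rw [mul_eq_one_iff_eq_inv.1 e1]
        exact inv_mem h
  rintro ⟨t, u, v⟩
  obtain ⟨u', v', hA⟩ := h1 t
  obtain ⟨w, hB⟩ := h2 (u - u')
  have h := mul_mem (mul_mem hA hB) (h3 (v - v' - w))
  rw [uu_mul, uu_mul, TT_zero] at h
  convert h using 2
  simp

theorem two_generated (hm : 1 ≤ m) :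
    ∃ a b : GG, Subgroup.closure ({a, b} : Set GG) = ⊤ := by
  obtain ⟨g, hg⟩ := IsCyclic.exists_generator (α := Kˣ)
  refine ⟨torusHom X g, uu X (1, 0, 0) * nn X, ?_⟩
  obtain ⟨H, hH⟩ : ∃ H, H = Subgroup.closure
      ({torusHom X g, uu X (1, 0, 0) * nn X} : Set GG) := ⟨_, rfl⟩
  have ha : torusHom X g ∈ H := hH ▸ Subgroup.subset_closure (Or.inl rfl)
  have hb : uu X (1, 0, 0) * nn X ∈ H := hH ▸ Subgroup.subset_closure (Or.inr rfl)
  have hT : ∀ x, torusHom X x ∈ H := fun x => by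
    obtain ⟨k, rfl⟩ := Subgroup.mem_zpowers_iff.1 (hg x)
    rw [map_zpow]
    exact zpow_mem ha k
  obtain ⟨y, hy⟩ := tor_nn X g
  have h1 : uu X (1, 0, 0) * torusHom X g * (uu X (1, 0, 0))⁻¹ * (torusHom X g)⁻¹ ∈ H := by
    have h := mul_mem (mul_mem (mul_mem hb (hT y)) (inv_mem hb)) (inv_mem ha)
    rwa [show uu X (1, 0, 0) * nn X * torusHom X y * (uu X (1, 0, 0) * nn X)⁻¹ * (torusHom X g)⁻¹ =
      uu X (1, 0, 0) * (nn X * torusHom X y) * (nn X)⁻¹ * (uu X (1, 0, 0))⁻¹ * (torusHom X g)⁻¹ by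
        group, ← hy, show uu X (1, 0, 0) * (torusHom X g * nn X) * (nn X)⁻¹ * (uu X (1, 0, 0))⁻¹ *
        (torusHom X g)⁻¹ = uu X (1, 0, 0) * torusHom X g * (uu X (1, 0, 0))⁻¹ * (torusHom X g)⁻¹ by
        group] at h
  have e0 : uu X (1, 0, 0) * torusHom X g * (uu X (1, 0, 0))⁻¹ * (torusHom X g)⁻¹ *
      uu X (a6 m g * 1, a10 m g * 0, (g : K) * 0) = uu X (1, 0, 0) := by
    rw [← tor_uu X g]
    group
  obtain ⟨t, u, v, he⟩ : ∃ t u v,
      uu X (1, 0, 0) * torusHom X g * (uu X (1, 0, 0))⁻¹ * (torusHom X g)⁻¹ = uu X (t, u, v) := by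
    refine mem_UB X ?_
    rw [← mul_inv_eq_iff_eq_mul.2 e0.symm]
    exact mul_mem (uu_mem X _) (inv_mem (uu_mem X _))
  rw [he] at e0 h1
  rw [uu_mul] at e0
  have ht : t ≠ 0 := by
    rintro rfl
    have e1 := (uu_inj X e0).1
    rw [zero_add, mul_one] at e1
    obtain ⟨s, hs⟩ := exists_sq_ne X hm
    obtain ⟨k, rfl⟩ := Subgroup.mem_zpowers_iff.1 (hg s)
    refine hs ?_
    rw [← zpow_natCast, ← zpow_mul, mul_comm, zpow_mul, zpow_natCast, a6_triv X e1, one_zpow]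
  have hU := uu_all X hT hm ht h1
  have hn : nn X ∈ H := by
    have h := mul_mem (inv_mem (hU (1, 0, 0))) hb
    rwa [inv_mul_cancel_left] at h
  rw [← hH]
  exact mem_of_bor_parts X hU hT hn

end Cfsg.Agent.Ree
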